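import Cfsg.Agent.H5.PResidual
import Cfsg.Agent.H14.GallagherExt
import Cfsg.Agent.H13.Gallagher
import Cfsg.Agent.H13.Correspondence
import Cfsg.Agent.H22.CentralInt
import Mathlib.Algebra.BigOperators.ModEq

/-!
The order of `O^p(G)` modulo `p` as a sum of squares of character degrees.
-/

set_option autoImplicit false
set_option linter.style.haveILetI false
set_option linter.unusedSectionVars false

namespace H21

open Cfsg

universe u

variable {G : Type u} [Group G] [Finite G]

/-- A linear character of `O^p(G)` has order prime to `p`. -/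
theorem not_dvd_orderOf_residual {p : ℕ} [hp : Fact p.Prime]
    (f : pResidual p G →* ℂˣ) : ¬ p ∣ orderOf f := by
  set m := ordCompl[p] (Nat.card G) with hm
  have hGne : Nat.card G ≠ 0 := Nat.card_pos.ne'
  have key : ∀ g (hg : g ∈ pResidual p G), f ⟨g, hg⟩ ^ m = 1 := by
    intro g hg
    unfold Cfsg.pResidual at hg
    induction hg using Subgroup.closure_induction with
    | mem g hg' =>
      rw [← map_pow]
      have h1 : orderOf g ∣ m := by
        refine (Nat.Coprime.dvd_of_dvd_mul_left (m := ordProj[p] (Nat.card G)) ?_ ?_)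
        · exact Nat.Coprime.pow_right _ hg'
        · rw [hm, Nat.ordProj_mul_ordCompl_eq_self]
          exact orderOf_dvd_natCard g
      rw [show (⟨g, H5.mem_pResidual_of_coprime hg'⟩ : pResidual p G) ^ m = 1 from
        Subtype.ext (orderOf_dvd_iff_pow_eq_one.1 h1), map_one]
    | one => exact (congrArg (· ^ m) (map_one f)).trans (one_pow _)
    | mul x y hx hy hx' hy' =>
      have : (⟨x * y, mul_mem hx hy⟩ : pResidual p G) = ⟨x, hx⟩ * ⟨y, hy⟩ := rfl
      rw [this, map_mul, mul_pow, hx', hy', one_mul]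
    | inv x hx hx' =>
      have : (⟨x⁻¹, inv_mem hx⟩ : pResidual p G) = (⟨x, hx⟩)⁻¹ := rfl
      rw [this, map_inv, inv_pow, hx', inv_one]
  intro h
  have h2 : orderOf f ∣ m := orderOf_dvd_iff_pow_eq_one.2
    (MonoidHom.ext fun x => key x.1 x.2)
  exact Nat.not_dvd_ordCompl hp.out hGne (h.trans h2)

theorem not_dvd_detOrder_residual {p : ℕ} [Fact p.Prime] (θ : IrrCharacter (pResidual p G)) :
    ¬ p ∣ detOrder (θ : pResidual p G → ℂ) := by
  obtain ⟨f, hf⟩ := H14.detChar_hom θ.2
  rw [Cfsg.detOrder, hf, H14.orderOf_coe_hom]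
  exact not_dvd_orderOf_residual f

theorem charDegree_eq_one_of_quotient {p : ℕ} [hp : Fact p.Prime] {N : Subgroup G} [N.Normal]
    (hN : IsPGroup p (G ⧸ N)) (β : IrrCharacter (G ⧸ N))
    (hβ : ¬ p ∣ charDegree (β : G ⧸ N → ℂ)) : (β : G ⧸ N → ℂ) 1 = 1 := by
  obtain ⟨k, hk⟩ := IsPGroup.iff_card.mp hN
  have h1 := H22.charDegree_dvd_card β
  rw [hk] at h1
  obtain ⟨i, -, hi⟩ := (Nat.dvd_prime_pow hp.out).1 h1
  rcases Nat.eq_zero_or_pos i with rfl | hpos
  · rw [H22.irr_one_eq_charDegree, hi, pow_zero, Nat.cast_one]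
  · exact absurd (hi ▸ dvd_pow_self p hpos.ne') hβ

theorem twistIrr_eq_self {N : Subgroup G} [N.Normal] {θ : IrrCharacter N} {g : G}
    (hg : g ∈ N) : H13.twistIrr N g θ = θ :=
  Subtype.ext ((H13.mem_inertia N).1
    (H13.le_inertia N (H12.irr_isClassFunction θ) hg))

open Classical in
/-- Only the invariant characters count modulo `p`. -/
theorem sum_modEq_fixed {p : ℕ} [hp : Fact p.Prime] {N : Subgroup G} [N.Normal]
    (hN : IsPGroup p (G ⧸ N)) [Fintype (IrrCharacter N)] (F : IrrCharacter N → ℤ)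
    (hF : ∀ g θ, F (H13.twistIrr N g θ) = F θ) :
    ∑ θ, F θ ≡ ∑ θ ∈ Finset.univ.filter (fun θ => ∀ g, H13.twistIrr N g θ = θ), F θ [ZMOD p] := by
  classical
  rw [← Finset.sum_filter_add_sum_filter_not Finset.univ
    (fun θ => ∀ g, H13.twistIrr N g θ = θ)]
  conv_rhs => rw [← add_zero (∑ θ ∈ _, F θ)]
  refine Int.ModEq.add_left _ ?_
  set S := Finset.univ.filter (fun θ : IrrCharacter N => ¬ ∀ g, H13.twistIrr N g θ = θ) with hS
  let r : IrrCharacter N → IrrCharacter N → Prop := fun a b => ∃ g, H13.twistIrr N g a = b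
  have hone : ∀ a : IrrCharacter N, H13.twistIrr N 1 a = a := fun a =>
    Subtype.ext (H13.twist_one N _)
  have htt : ∀ (g h : G) (a : IrrCharacter N),
      H13.twistIrr N g (H13.twistIrr N h a) = H13.twistIrr N (h * g) a := fun g h a =>
    Subtype.ext (H13.twist_twist N g h _)
  let s : Setoid (IrrCharacter N) :=
    { r := r
      iseqv :=
        { refl := fun a => ⟨1, hone a⟩
          symm := by
            rintro a b ⟨g, rfl⟩
            exact ⟨g⁻¹, by rw [htt, mul_inv_cancel, hone]⟩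
          trans := by
            rintro a b c ⟨g, rfl⟩ ⟨h, rfl⟩
            exact ⟨g * h, (htt h g a).symm⟩ } }
  rw [Finset.sum_partition s, Int.modEq_zero_iff_dvd]
  refine Finset.dvd_sum fun q hq => ?_
  obtain ⟨a, ha, rfl⟩ := Finset.mem_image.1 hq
  have hconst : ∀ b ∈ S.filter (fun y => (⟦y⟧ : Quotient s) = ⟦a⟧), F b = F a := by
    intro b hb
    obtain ⟨g, hg⟩ := Setoid.symm' s (Quotient.exact (Finset.mem_filter.1 hb).2)
    rw [← hg, hF]
  rw [Finset.sum_congr rfl hconst, Finset.sum_const, nsmul_eq_mul]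
  refine Dvd.dvd.mul_right ?_ _
  -- the orbit has size a nontrivial power of `p`
  have hcl : S.filter (fun y => (⟦y⟧ : Quotient s) = ⟦a⟧) =
      Finset.univ.filter (fun y => ∃ g, H13.twistIrr N g a = y) := by
    ext y
    simp only [S, Finset.mem_filter, Finset.mem_univ, true_and] at ha ⊢
    constructor
    · rintro ⟨-, hy⟩
      exact Setoid.symm' s (Quotient.exact hy)
    · rintro ⟨g, rfl⟩
      refine ⟨fun hall => ha fun h => ?_, Quotient.sound ⟨g⁻¹, by rw [htt, mul_inv_cancel, hone]⟩⟩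
      have h1 := hall (g⁻¹ * h * g)
      rw [htt, show g * (g⁻¹ * h * g) = h * g by group, ← htt] at h1
      have h2 := congrArg (H13.twistIrr N g⁻¹) h1
      rw [htt, htt, htt] at h2
      simpa [mul_assoc, hone] using h2
  rw [hcl]
  let T := H13.inertia N (a : N → ℂ)
  have hcard : (Finset.univ.filter (fun y => ∃ g, H13.twistIrr N g a = y)).card = T.index := by
    let f : G ⧸ T → IrrCharacter N := fun q =>
      Quotient.liftOn' q (fun x => H13.twistIrr N x⁻¹ a) (fun x y hxy => by
        rw [QuotientGroup.leftRel_apply] at hxy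
        have h1 : H13.twistIrr N (x⁻¹ * y) a = a := Subtype.ext ((H13.mem_inertia N).1 hxy)
        conv_lhs => rw [show x⁻¹ = (x⁻¹ * y) * y⁻¹ by group, ← htt, h1])
    have hinj : Function.Injective f := by
      intro x y hxy
      induction x using Quotient.inductionOn' with
      | h x =>
      induction y using Quotient.inductionOn' with
      | h y =>
      refine QuotientGroup.eq.2 ((H13.mem_inertia N).2 ?_)
      have h1 : H13.twistIrr N x⁻¹ a = H13.twistIrr N y⁻¹ a := hxy
      have h2 := congrArg (H13.twistIrr N y) h1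
      rw [htt, htt, inv_mul_cancel, hone] at h2
      exact congrArg Subtype.val h2
    haveI : Fintype (G ⧸ T) := Fintype.ofFinite _
    have himg : Finset.univ.filter (fun y => ∃ g, H13.twistIrr N g a = y) =
        Finset.univ.image f := by
      ext y
      simp only [Finset.mem_image, Finset.mem_univ, true_and, Finset.mem_filter]
      constructor
      · rintro ⟨g, rfl⟩
        exact ⟨((g⁻¹ : G) : G ⧸ T), congrArg (fun x => H13.twistIrr N x a) (inv_inv g)⟩
      · rintro ⟨q, rfl⟩
        induction q using Quotient.inductionOn' with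
        | h x => exact ⟨x⁻¹, rfl⟩
    rw [himg, Finset.card_image_of_injective _ hinj, Finset.card_univ, Subgroup.index,
      Nat.card_eq_fintype_card]
  rw [hcard]
  obtain ⟨k, hk⟩ := IsPGroup.iff_card.mp hN
  have hd : T.index ∣ p ^ k := hk ▸
    Subgroup.index_dvd_of_le (H13.le_inertia N (H12.irr_isClassFunction a))
  obtain ⟨i, -, hi⟩ := (Nat.dvd_prime_pow hp.out).1 hd
  rcases Nat.eq_zero_or_pos i with rfl | hpos
  · rw [pow_zero, Subgroup.index_eq_one] at hi
    refine absurd (fun g => Subtype.ext ((H13.mem_inertia N).1 ?_)) (Finset.mem_filter.1 ha).2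
    show g ∈ T
    rw [hi]; trivial
  · exact Int.natCast_dvd_natCast.2 (hi ▸ dvd_pow_self p hpos.ne')

/-- `|O^p(G)|` is congruent to the sum of `χ(1)^2` over `p ∤ χ(1)`, `p ∤ o(χ)`. -/
theorem card_pResidual_modEq (p : ℕ) [hp : Fact p.Prime] :
    (Nat.card (pResidual p G) : ℤ) ≡
      (∑ᶠ χ ∈ {χ : IrrCharacter G | ¬ p ∣ charDegree (χ : G → ℂ) ∧
        ¬ p ∣ detOrder (χ : G → ℂ)}, (charDegree (χ : G → ℂ) : ℤ) ^ 2) [ZMOD p] := by
  classical
  set N := pResidual p G with hNdef
  haveI : N.Normal := inferInstance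
  haveI := Fintype.ofFinite G
  haveI := Fintype.ofFinite N
  haveI := Fintype.ofFinite (G ⧸ N)
  haveI := Fintype.ofFinite (IrrCharacter G)
  haveI := Fintype.ofFinite (IrrCharacter N)
  have hQ : IsPGroup p (G ⧸ N) := H5.isPGroup_quotient_pResidual
  obtain ⟨k, hk⟩ := H5.exists_index_pResidual_eq (G := G) (p := p)
  have hsum : (Nat.card N : ℤ) = ∑ θ : IrrCharacter N, (charDegree (θ : N → ℂ) : ℤ) ^ 2 := by
    apply Int.cast_injective (α := ℂ)
    push_cast
    rw [← H12.sum_degree_sq (G := N)]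
    refine Finset.sum_congr (by ext; simp) fun θ _ => ?_
    rw [H22.irr_one_eq_charDegree]
  rw [hsum]
  have hF : ∀ g (θ : IrrCharacter N),
      ((charDegree (H13.twistIrr N g θ : N → ℂ) : ℤ) ^ 2) = (charDegree (θ : N → ℂ) : ℤ) ^ 2 := by
    intro g θ
    have h1 : (H13.twistIrr N g θ : N → ℂ) 1 = (θ : N → ℂ) 1 :=
      congrArg (θ : N → ℂ) (Subtype.ext (by simp))
    rw [H22.irr_one_eq_charDegree, H22.irr_one_eq_charDegree, Nat.cast_inj] at h1
    rw [h1]
  refine (sum_modEq_fixed hQ _ hF).trans ?_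
  set A := Finset.univ.filter (fun θ : IrrCharacter N => ∀ g, H13.twistIrr N g θ = θ) with hA
  rw [Finset.sum_congr (s₂ := A) (by ext θ; simp [hA]) (fun θ _ => rfl)]
  rw [← Finset.sum_filter_add_sum_filter_not A (fun θ => p ∣ charDegree (θ : N → ℂ))]
  conv_rhs => rw [← zero_add (∑ᶠ _ ∈ _, _)]
  refine Int.ModEq.add ?_ (congrArg (· % (p : ℤ)) ?_)
  · exact Int.modEq_zero_iff_dvd.2 (Finset.dvd_sum fun θ hθ =>
      dvd_pow (Int.natCast_dvd_natCast.2 (Finset.mem_filter.1 hθ).2) two_ne_zero)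
  rw [finsum_mem_eq_sum_of_inter_support_eq _
    (t := Finset.univ.filter (fun χ : IrrCharacter G => ¬ p ∣ charDegree (χ : G → ℂ) ∧
        ¬ p ∣ detOrder (χ : G → ℂ))) (by ext χ; simp)]
  -- the canonical extension
  have hex : ∀ θ : IrrCharacter N, (∀ g, H13.twistIrr N g θ = θ) →
      ¬ p ∣ charDegree (θ : N → ℂ) →
      ∃ χ : IrrCharacter G, (∀ n : N, (χ : G → ℂ) n = (θ : N → ℂ) n) ∧
        ¬ p ∣ charDegree (χ : G → ℂ) ∧ ¬ p ∣ detOrder (χ : G → ℂ) ∧
        ∀ χ' : IrrCharacter G, (∀ n : N, (χ' : G → ℂ) n = (θ : N → ℂ) n) →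
          ¬ p ∣ detOrder (χ' : G → ℂ) → χ' = χ := by
    intro θ hfix hdeg
    obtain ⟨χ, ⟨hχ, hres, hord⟩, huniq⟩ := H14.exists_canonical_extension N (θ : N → ℂ) θ.2
      (fun g n => congrFun (congrArg Subtype.val (hfix g)) n) (charDegree (θ : N → ℂ))
      (H22.irr_one_eq_charDegree θ)
      (by
        rw [hk]
        exact Nat.Coprime.pow_left k ((hp.out.coprime_iff_not_dvd).2 fun h =>
          (hp.out.dvd_mul.1 h).elim (not_dvd_detOrder_residual θ) hdeg))
    refine ⟨⟨χ, hχ⟩, hres, ?_, ?_, fun χ' h1 h2 => Subtype.ext (huniq χ' χ'.2 h1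
      (by rw [hk]; exact Nat.Coprime.pow_left k (hp.out.coprime_iff_not_dvd.2 h2)))⟩
    · have h1 : (charDegree χ : ℂ) = (charDegree (θ : N → ℂ) : ℂ) := by
        rw [← H22.irr_one_eq_charDegree θ, ← H22.irr_one_eq_charDegree ⟨χ, hχ⟩, ← hres 1]
        rfl
      rwa [Nat.cast_inj.1 h1]
    · show ¬ p ∣ detOrder χ
      rw [hord]; exact not_dvd_detOrder_residual θ
  choose ext hres hd ho huniq using hex
  refine Finset.sum_bij (fun θ hθ => ext θ
    (Finset.mem_filter.1 (Finset.mem_filter.1 hθ).1).2 (Finset.mem_filter.1 hθ).2) ?_ ?_ ?_ ?_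
  · intro θ hθ
    exact Finset.mem_filter.2 ⟨Finset.mem_univ _, hd _ _ _, ho _ _ _⟩
  · intro a ha b hb hab
    refine Subtype.ext (funext fun n => ?_)
    rw [← hres a (Finset.mem_filter.1 (Finset.mem_filter.1 ha).1).2 (Finset.mem_filter.1 ha).2 n,
      ← hres b (Finset.mem_filter.1 (Finset.mem_filter.1 hb).1).2 (Finset.mem_filter.1 hb).2 n,
      hab]
  · intro χ hχ
    obtain ⟨hχd, hχo⟩ := (Finset.mem_filter.1 hχ).2
    obtain ⟨θ, hne⟩ := H13.exists_constituent N (H12.isCharacter_irr χ)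
      (fun h => H12.irr_apply_one_ne_zero χ (congrFun h 1))
    obtain ⟨m, hm⟩ := H12.IsCharacter.classInner_nat
      (H12.IsCharacter.res (H12.isCharacter_irr χ) N) (H12.isCharacter_irr θ)
    have hdeg := H13.clifford_degree N χ.2 θ.2 hne
    rw [hm, H22.irr_one_eq_charDegree, H22.irr_one_eq_charDegree θ] at hdeg
    have hdeg' : charDegree (χ : G → ℂ) =
        m * (H13.inertia N (θ : N → ℂ)).index * charDegree (θ : N → ℂ) := by exact_mod_cast hdeg
    have hT : H13.inertia N (θ : N → ℂ) = ⊤ := by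
      rw [← Subgroup.index_eq_one]
      have hd1 : (H13.inertia N (θ : N → ℂ)).index ∣ p ^ k := hk ▸
        Subgroup.index_dvd_of_le (H13.le_inertia N (H12.irr_isClassFunction θ))
      obtain ⟨i, -, hi⟩ := (Nat.dvd_prime_pow hp.out).1 hd1
      rcases Nat.eq_zero_or_pos i with rfl | hpos
      · simpa using hi
      · exact absurd (hdeg' ▸ Dvd.dvd.mul_right (Dvd.dvd.mul_left (hi ▸ dvd_pow_self p hpos.ne') _) _)
          hχd
    have hfix : ∀ g, H13.twistIrr N g θ = θ := fun g =>
      Subtype.ext ((H13.mem_inertia N).1 (hT ▸ Subgroup.mem_top g))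
    have hθd : ¬ p ∣ charDegree (θ : N → ℂ) := fun h => hχd (hdeg' ▸ dvd_mul_of_dvd_right h _)
    refine ⟨θ, Finset.mem_filter.2 ⟨Finset.mem_filter.2 ⟨Finset.mem_univ _, hfix⟩, hθd⟩, ?_⟩
    set η := ext θ hfix hθd with hη
    have hηres : (fun n : N => (η : G → ℂ) n) = (θ : N → ℂ) := funext (hres θ hfix hθd)
    obtain ⟨β, hβ⟩ := H13.gallagher_exists N (H12.isCharacter_irr η) (hηres ▸ θ.2) χ.2
      (by rw [hηres]; exact hne)
    have h1 := congrFun hβ 1
    rw [Pi.mul_apply, H13.inflateIrr_apply, QuotientGroup.mk_one, H22.irr_one_eq_charDegree,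
      H22.irr_one_eq_charDegree β, H22.irr_one_eq_charDegree η, ← Nat.cast_mul,
      Nat.cast_inj] at h1
    have hβ1 := charDegree_eq_one_of_quotient hQ β (fun h => hχd (h1 ▸ Dvd.dvd.mul_right h _))
    refine (huniq θ hfix hθd χ (fun n => ?_) hχo).symm
    rw [hβ, Pi.mul_apply, H13.inflateIrr_apply, (QuotientGroup.eq_one_iff (n : G)).2 n.2, hβ1,
      one_mul]
    exact hres θ hfix hθd n
  · intro θ hθ
    have h := hres θ (Finset.mem_filter.1 (Finset.mem_filter.1 hθ).1).2
      (Finset.mem_filter.1 hθ).2 1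
    rw [H22.irr_one_eq_charDegree θ, OneMemClass.coe_one, H22.irr_one_eq_charDegree,
      Nat.cast_inj] at h
    rw [h]

/-- Thompson's theorem: if `p` divides all nonlinear degrees there is a normal `p`-complement. -/
theorem coprime_card_pResidual (p : ℕ) [hp : Fact p.Prime]
    (hdeg : ∀ χ : IrrCharacter G, charDegree (χ : G → ℂ) ≠ 1 → p ∣ charDegree (χ : G → ℂ)) :
    (Nat.card (pResidual p G)).Coprime p := by
  classical
  haveI := Fintype.ofFinite (IrrCharacter G)
  haveI : Finite (G →* ℂˣ) := Finite.of_injective _ (H12.linIrr_injective (G := G))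
  let H : Subgroup (G →* ℂˣ) :=
    { carrier := {f | ¬ p ∣ orderOf f}
      one_mem' := by simp [hp.out.ne_one]
      mul_mem' := fun {a b} ha hb => fun h =>
        (hp.out.dvd_mul.1 (h.trans (dvd_trans (Commute.orderOf_mul_dvd_lcm (Commute.all a b))
          (Nat.lcm_dvd_mul _ _)))).elim ha hb
      inv_mem' := fun {a} ha => by simpa using ha }
  have hH : ¬ p ∣ Nat.card H := by
    intro h
    obtain ⟨x, hx⟩ := exists_prime_orderOf_dvd_card' p h
    exact x.2 (by rw [Subgroup.orderOf_coe, hx])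
  refine (hp.out.coprime_iff_not_dvd.2 fun h => hH ?_).symm
  have key := card_pResidual_modEq (G := G) p
  have hcount : (∑ᶠ χ ∈ {χ : IrrCharacter G | ¬ p ∣ charDegree (χ : G → ℂ) ∧
      ¬ p ∣ detOrder (χ : G → ℂ)}, (charDegree (χ : G → ℂ) : ℤ) ^ 2) = (Nat.card H : ℤ) := by
    set X := {χ : IrrCharacter G | ¬ p ∣ charDegree (χ : G → ℂ) ∧
      ¬ p ∣ detOrder (χ : G → ℂ)} with hX
    have hone : ∀ χ ∈ X, charDegree (χ : G → ℂ) = 1 := fun χ hχ => by
      by_contra h1
      exact hχ.1 (hdeg χ h1)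
    rw [finsum_mem_congr rfl (fun χ hχ => by rw [hone χ hχ, Nat.cast_one, one_pow]),
      finsum_mem_eq_sum_of_inter_support_eq _ (t := Finset.univ.filter (· ∈ X))
        (by ext χ; simp), Finset.sum_const, nsmul_eq_mul, mul_one]
    congr 1
    haveI := Fintype.ofFinite H
    rw [Nat.card_eq_fintype_card, ← Finset.card_univ]
    have hlin : ∀ f : G →* ℂˣ, charDegree (H12.linIrr f : G → ℂ) = 1 := fun f => by
      have := H22.irr_one_eq_charDegree (H12.linIrr f)
      rw [H12.linIrr_apply, map_one, Units.val_one] at this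
      exact_mod_cast this.symm
    have hdet : ∀ f : G →* ℂˣ, detOrder (H12.linIrr f : G → ℂ) = orderOf f := by
      intro f
      have hf : detChar (H12.linIrr f : G → ℂ) = fun g => (f g : ℂ) := by
        obtain ⟨n, ρ, hρ, hρf⟩ := (H12.linIrr f).2
        haveI := hρ
        funext g
        rw [H14.detChar_eq ρ hρf]
        have hn : n = 1 := by
          have := congrFun hρf 1
          rw [Representation.char_one, Module.finrank_fin_fun, H12.linIrr_apply, map_one,
            Units.val_one] at this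
          exact_mod_cast this
        subst hn
        rw [← H12.linIrr_apply, ← hρf]
        show LinearMap.det (ρ g) = LinearMap.trace ℂ (Fin 1 → ℂ) (ρ g)
        rw [← LinearMap.det_toMatrix', LinearMap.trace_eq_matrix_trace ℂ (Pi.basisFun ℂ (Fin 1)),
          Matrix.det_fin_one, Matrix.trace_fin_one]
        rfl
      rw [Cfsg.detOrder, hf, H14.orderOf_coe_hom]
    symm
    refine Finset.card_bij (fun f _ => H12.linIrr (f : G →* ℂˣ)) ?_ ?_ ?_
    · intro f _
      refine Finset.mem_filter.2 ⟨Finset.mem_univ _, ?_, ?_⟩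
      · rw [hlin]; exact hp.out.not_dvd_one
      · rw [hdet]; exact f.2
    · intro a _ b _ h
      exact Subtype.ext (H12.linIrr_injective h)
    · intro χ hχ
      have hχX := (Finset.mem_filter.1 hχ).2
      obtain ⟨f, hf⟩ := H12.exists_monoidHom_of_apply_one_eq_one (H12.isCharacter_irr χ)
        (by rw [H22.irr_one_eq_charDegree, hone χ hχX, Nat.cast_one])
      have he : H12.linIrr f = χ := Subtype.ext hf
      refine ⟨⟨f, ?_⟩, Finset.mem_univ _, he⟩
      show ¬ p ∣ orderOf f
      rw [← hdet, he]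
      exact hχX.2
  rw [hcount] at key
  exact Int.natCast_dvd_natCast.1
    (key.dvd_iff |>.1 (Int.natCast_dvd_natCast.2 h))

end H21
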