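import Cfsg.Agent.H13.Monomial
import Cfsg.Agent.H21.ResidualDegree
import Cfsg.Agent.H14.DegreeIndex

/-!
Groups with two character degrees.
-/

set_option autoImplicit false
set_option linter.style.haveILetI false
set_option linter.unusedSectionVars false

open Cfsg H13

namespace H21

universe u

theorem nilpotent_of_injective' {A B : Type*} [Group A] [Group B] [Group.IsNilpotent B] (f : A →* B)
    (hf : Function.Injective f) : Group.IsNilpotent A :=
  Group.nilpotent_of_mulEquiv (MonoidHom.ofInjective hf).symm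

/-- A group with a normal abelian subgroup with nilpotent quotient is monomial. -/
theorem monomial_of_abelian_by_nilpotent : ∀ (n : ℕ) (G : Type u) [Group G] [Fintype G]
    (A : Subgroup G) [A.Normal], (∀ a ∈ A, ∀ b ∈ A, a * b = b * a) →
    Group.IsNilpotent (G ⧸ A) → Nat.card G = n → ∀ χ : G → ℂ, IsIrrCharacter G χ →
      ∃ (H : Subgroup G) (lam : H →* ℂˣ), χ = indFun H (fun h => (lam h : ℂ)) := by
  intro n
  induction n using Nat.strong_induction_on with
  | _ n ih =>
    intro G _ _ A hA hAab hAnil hn χ hχ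
    classical
    haveI hfin : ∀ L : Subgroup G, Fintype L := fun L => Fintype.ofFinite _
    have hχc := H12.isCharacter_of_isIrrCharacter hχ
    by_cases hfaith : ∃ g : G, g ≠ 1 ∧ χ g = χ 1
    · obtain ⟨m, ρ, hρ, hρχ⟩ := hχ
      obtain ⟨g, hg1, hg⟩ := hfaith
      let N : Subgroup G := MonoidHom.ker ρ
      haveI : Fintype (G ⧸ N) := Fintype.ofFinite _
      have hgN : g ∈ N := by
        rw [← hρχ, Representation.char_one] at hg
        show ρ g = 1
        rw [(H12.character_eq_finrank_iff ρ g).1 hg]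
        rfl
      have hlt : Nat.card (G ⧸ N) < n := by
        rw [← hn, ← Subgroup.index, ← N.card_mul_index]
        have h2 : 1 < Nat.card N := by
          rw [Finite.one_lt_card_iff_nontrivial, Subgroup.nontrivial_iff_ne_bot]
          intro h
          rw [h, Subgroup.mem_bot] at hgN
          exact hg1 hgN
        exact lt_mul_of_one_lt_left (Nat.pos_of_ne_zero Subgroup.index_ne_zero_of_finite) h2
      obtain ⟨ψ, hψ⟩ := exists_irr_of_le_kernel N (χ := χ) ⟨m, ρ, hρ, hρχ⟩ (fun x hx => by
        rw [← hρχ]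
        show LinearMap.trace ℂ _ (ρ x) = LinearMap.trace ℂ _ (ρ 1)
        exact congrArg _ ((MonoidHom.mem_ker.1 hx).trans (map_one ρ).symm))
      haveI hA' : (A.map (QuotientGroup.mk' N)).Normal :=
        hA.map _ (QuotientGroup.mk'_surjective N)
      have hab' : ∀ a ∈ A.map (QuotientGroup.mk' N), ∀ b ∈ A.map (QuotientGroup.mk' N),
          a * b = b * a := by
        rintro _ ⟨a, ha, rfl⟩ _ ⟨b, hb, rfl⟩
        rw [← map_mul, ← map_mul, hAab a ha b hb]
      have hnil' : Group.IsNilpotent ((G ⧸ N) ⧸ A.map (QuotientGroup.mk' N)) := by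
        haveI := hAnil
        exact Group.nilpotent_of_surjective
          (QuotientGroup.map A (A.map (QuotientGroup.mk' N)) (QuotientGroup.mk' N)
            (Subgroup.le_comap_map _ _))
          (QuotientGroup.map_surjective_of_surjective _ _ _
            ((QuotientGroup.mk'_surjective _).comp (QuotientGroup.mk'_surjective N)) _)
      obtain ⟨K, lam, hlam⟩ := ih _ hlt (G ⧸ N) _ hab' hnil' rfl ψ ψ.2
      refine ⟨K.comap (QuotientGroup.mk' N), lam.comp ((QuotientGroup.mk' N).subgroupComap K), ?_⟩
      funext x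
      rw [hψ x, hlam]
      exact (indFun_inflate N K (fun k => (lam k : ℂ)) x).symm
    simp only [not_exists, not_and] at hfaith
    by_cases hAc : A ≤ Subgroup.center G
    · haveI : Group.IsNilpotent G := by
        haveI := hAnil
        exact Subgroup.isNilpotent_of_ker_le_center (QuotientGroup.mk' A)
          (by rwa [QuotientGroup.ker_mk'])
      exact monomial_of_nilpotent n G hn χ hχ
    obtain ⟨θ, hθ⟩ := exists_constituent A hχc (H12.irr_ne_zero (⟨χ, hχ⟩ : IrrCharacter G))
    have hθ1 : (θ : A → ℂ) 1 = 1 :=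
      degree_one_of_commutative (fun a b => Subtype.ext (hAab a a.2 b b.2)) θ
    have hAT : A ≤ inertia A (θ : A → ℂ) := le_inertia A (H12.irr_isClassFunction θ)
    by_cases hT : inertia A (θ : A → ℂ) = ⊤
    · exfalso
      apply hAc
      intro a ha
      rw [Subgroup.mem_center_iff]
      intro g
      have hres := clifford_res A hχ θ.2 hθ {θ} (fun ψ => by
        rw [Finset.mem_singleton]
        constructor
        · rintro rfl; exact ⟨1, twist_one A _⟩
        · rintro ⟨y, hy⟩
          exact Subtype.ext (hy.symm.trans ((mem_inertia A).1 (hT ▸ Subgroup.mem_top y))))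
      rw [Finset.sum_singleton] at hres
      have hcomm : g * a * g⁻¹ * a⁻¹ ∈ A := A.mul_mem (hA.conj_mem a ha g) (A.inv_mem ha)
      have h1 := congrFun hres ⟨_, hcomm⟩
      have h2 := congrFun hres 1
      have h3 : (θ : A → ℂ) ⟨_, hcomm⟩ = (θ : A → ℂ) 1 := by
        have hinv := congrFun ((mem_inertia A).1
          (hT ▸ Subgroup.mem_top g : g ∈ inertia A (θ : A → ℂ))) ⟨a, ha⟩
        rw [twist_apply] at hinv
        rw [show (⟨_, hcomm⟩ : A) = ⟨g * a * g⁻¹, hA.conj_mem a ha g⟩ * (⟨a, ha⟩ : A)⁻¹
          from rfl, H14.linear_char_mul (H12.isCharacter_irr θ) hθ1, hinv,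
          ← H14.linear_char_mul (H12.isCharacter_irr θ) hθ1, mul_inv_cancel]
      simp only [Pi.smul_apply, smul_eq_mul] at h1 h2
      rw [h3, ← h2] at h1
      have h4 : χ (g * a * g⁻¹ * a⁻¹) = χ 1 := h1
      have h5 : g * a * g⁻¹ * a⁻¹ = 1 := by
        by_contra h
        exact hfaith _ h h4
      calc g * a = (g * a * g⁻¹ * a⁻¹) * (a * g) := by group
        _ = a * g := by rw [h5, one_mul]
    · set T := inertia A (θ : A → ℂ) with hTdef
      obtain ⟨ψ, hψ, -, hind⟩ := clifford_correspondence_exists A θ.2 hTdef hAT hχ hθ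
      have hlt : Nat.card T < n := by
        rw [← hn]
        exact lt_of_le_of_ne (Subgroup.card_le_card_group T)
          (fun h => hT ((Subgroup.card_eq_iff_eq_top T).1 h))
      have habT : ∀ a ∈ A.subgroupOf T, ∀ b ∈ A.subgroupOf T, a * b = b * a := fun a ha b hb =>
        Subtype.ext (hAab _ (Subgroup.mem_subgroupOf.1 ha) _ (Subgroup.mem_subgroupOf.1 hb))
      have hnilT : Group.IsNilpotent (T ⧸ A.subgroupOf T) := by
        haveI := hAnil
        let f : T ⧸ A.subgroupOf T →* G ⧸ A := QuotientGroup.map _ A T.subtype le_rfl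
        refine nilpotent_of_injective' f ?_
        rw [← MonoidHom.ker_eq_bot_iff, eq_bot_iff]
        intro q hq
        induction q using QuotientGroup.induction_on with
        | H t => exact (QuotientGroup.eq_one_iff t).2 ((QuotientGroup.eq_one_iff (t : G)).1 hq)
      obtain ⟨K, lam, hlam⟩ := ih _ hlt T (A.subgroupOf T) habT hnilT rfl ψ hψ
      let e := K.equivMapOfInjective T.subtype T.subtype_injective
      refine ⟨K.map T.subtype, lam.comp e.symm.toMonoidHom, ?_⟩
      rw [← hind, hlam, ← H12.indFun_trans (K.map T.subtype) T (Subgroup.map_subtype_le K)]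
      congr 1
      refine indFun_congr_subgroup
        (Subgroup.comap_map_eq_self_of_injective T.subtype_injective K).symm _ _ ?_
      intro x hx hx'
      have : e.symm ⟨(x : G), Subgroup.mem_map_of_mem T.subtype hx⟩ = ⟨x, hx⟩ := by
        rw [MulEquiv.symm_apply_eq]
        exact Subtype.ext rfl
      exact (congrArg (fun z => (lam z : ℂ)) this).symm

variable {G : Type u} [Group G] [Finite G] {m : ℕ}

theorem degree_eq_charDegree (χ : IrrCharacter G) :
    H12.degree (χ : G → ℂ) = charDegree (χ : G → ℂ) := by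
  have h := H22.irr_one_eq_charDegree χ
  rw [H12.irr_apply_one] at h
  exact_mod_cast h

/-- Two degrees: there is a normal abelian subgroup of order prime to `m` with nilpotent
quotient, contained in all the residuals at primes dividing `m`. -/
theorem exists_abelian_residual
    (hcd : ∀ χ : IrrCharacter G, charDegree (χ : G → ℂ) = 1 ∨ charDegree (χ : G → ℂ) = m) :
    ∃ (A : Subgroup G) (_ : A.Normal), (∀ a ∈ A, ∀ b ∈ A, a * b = b * a) ∧
      Group.IsNilpotent (G ⧸ A) ∧ (∀ q ∈ m.primeFactors, (Nat.card A).Coprime q ∧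
        A ≤ pResidual q G) := by
  classical
  let K : m.primeFactors → Subgroup G := fun q => pResidual (q : ℕ) G
  haveI hKn : ∀ q, (K q).Normal := fun q => by infer_instance
  let f : G →* (∀ q : m.primeFactors, G ⧸ K q) := Pi.monoidHom fun q => QuotientGroup.mk' (K q)
  have hker : ∀ q : m.primeFactors, f.ker ≤ K q := fun q x hx =>
    (QuotientGroup.eq_one_iff x).1 (congrFun hx q)
  have hcop : ∀ q ∈ m.primeFactors, (Nat.card f.ker).Coprime q := by
    intro q hq
    haveI := Fact.mk (Nat.prime_of_mem_primeFactors hq)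
    refine Nat.Coprime.coprime_dvd_left (Subgroup.card_dvd_of_le (hker ⟨q, hq⟩))
      (coprime_card_pResidual q fun χ hχ => ?_)
    rcases hcd χ with h | h
    · exact absurd h hχ
    · rw [h]; exact Nat.dvd_of_mem_primeFactors hq
  refine ⟨f.ker, inferInstance, ?_, ?_, fun q hq => ⟨hcop q hq, hker ⟨q, hq⟩⟩⟩
  · have hlin : ∀ θ : IrrCharacter f.ker, (θ : f.ker → ℂ) 1 = 1 := by
      intro θ
      have h : charDegree (θ : f.ker → ℂ) = 1 := by
        by_contra hne
        obtain ⟨q, hq, hqd⟩ := Nat.exists_prime_and_dvd hne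
        obtain ⟨χ, hχ⟩ := H14.exists_degree_dvd f.ker θ
        rw [degree_eq_charDegree, degree_eq_charDegree] at hχ
        rcases hcd χ with h1 | h1
        · exact hq.not_dvd_one (h1 ▸ hqd.trans hχ)
        · have hm0 : m ≠ 0 := h1 ▸ (H22.charDegree_pos χ).ne'
          have hc := hcop q (Nat.mem_primeFactors.2 ⟨hq, h1 ▸ hqd.trans hχ, hm0⟩)
          exact (hq.coprime_iff_not_dvd.1 hc.symm) (hqd.trans (H22.charDegree_dvd_card θ))
      rw [H22.irr_one_eq_charDegree, h, Nat.cast_one]
    intro a ha b hb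
    exact congrArg Subtype.val (commutative_of_all_linear hlin (⟨a, ha⟩ : f.ker) ⟨b, hb⟩)
  · haveI : ∀ q : m.primeFactors, Group.IsNilpotent (G ⧸ K q) := fun q => by
      haveI := Fact.mk (Nat.prime_of_mem_primeFactors q.2)
      exact (H5.isPGroup_quotient_pResidual (p := (q : ℕ))).isNilpotent
    exact nilpotent_of_injective' (QuotientGroup.kerLift f) (QuotientGroup.kerLift_injective f)

/-- The derived subgroup is abelian. -/
theorem commutator_abelian_of_two_degrees
    (hcd : ∀ χ : IrrCharacter G, charDegree (χ : G → ℂ) = 1 ∨ charDegree (χ : G → ℂ) = m) :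
    ∀ a ∈ commutator G, ∀ b ∈ commutator G, a * b = b * a := by
  classical
  haveI := Fintype.ofFinite G
  haveI hfin : ∀ L : Subgroup G, Fintype L := fun L => Fintype.ofFinite _
  obtain ⟨A, hA, hAab, hAnil, -⟩ := exists_abelian_residual hcd
  haveI := hA
  have hmon := monomial_of_abelian_by_nilpotent _ G A hAab hAnil rfl
  -- linear characters are trivial on the derived subgroup
  have hlin : ∀ χ : IrrCharacter G, (χ : G → ℂ) 1 = 1 → ∀ g ∈ commutator G, (χ : G → ℂ) g = 1 := by
    intro χ h1 g hg
    obtain ⟨f, hf⟩ := H12.exists_monoidHom_of_apply_one_eq_one (H12.isCharacter_irr χ) h1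
    rw [← hf]
    simp [MonoidHom.mem_ker.1 (Abelianization.commutator_subset_ker f hg)]
  -- every nonlinear character is induced from a subgroup containing the derived subgroup
  have hind : ∀ χ : IrrCharacter G, (χ : G → ℂ) 1 ≠ 1 → ∃ (H : Subgroup G) (lam : H →* ℂˣ),
      (χ : G → ℂ) = indFun H (fun h => (lam h : ℂ)) ∧ commutator G ≤ H := by
    intro χ hne
    obtain ⟨H, lam, hχ⟩ := hmon χ χ.2
    refine ⟨H, lam, hχ, fun y hy => ?_⟩
    have hdeg : (χ : G → ℂ) 1 = (H.index : ℂ) := by
      rw [hχ, indFun_apply_one, map_one, Units.val_one, mul_one]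
    have hHm : H.index = m := by
      rcases hcd χ with h | h
      · exact absurd (by rw [H22.irr_one_eq_charDegree, h, Nat.cast_one]) hne
      · rw [H22.irr_one_eq_charDegree, h] at hdeg; exact_mod_cast hdeg.symm
    let π := indFun H (fun _ => (1 : ℂ))
    have hπ : IsCharacter G π := isCharacter_indFun H H12.isCharacter_one
    have hπ1 : π 1 = (H.index : ℂ) := by
      show indFun H (fun _ => (1 : ℂ)) 1 = _
      rw [indFun_apply_one, mul_one]
    have hone : classInner π (H12.oneIrr G : G → ℂ) ≠ 0 := by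
      rw [classInner_indFun_left H _ (H12.irr_isClassFunction _)]
      have := H12.classInner_irr_self (H12.oneIrr H)
      exact this.symm ▸ one_ne_zero
    obtain ⟨c, hc⟩ := H12.IsCharacter.exists_mult (isCharacter_sub_irr hπ (H12.oneIrr G).2 hone)
    have hfix : π y = π 1 := by
      have hy' : ∀ φ : IrrCharacter G, (c φ : ℂ) * (φ : G → ℂ) y = (c φ : ℂ) * (φ : G → ℂ) 1 := by
        intro φ
        rcases Nat.eq_zero_or_pos (c φ) with h0 | h0
        · simp [h0]
        congr 1
        have h1 := congrFun hc 1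
        rw [Finset.sum_apply, Pi.sub_apply, hπ1, H12.oneIrr_apply, hHm, sub_eq_iff_eq_add] at h1
        simp only [Pi.smul_apply, smul_eq_mul, H22.irr_one_eq_charDegree] at h1
        have hsum : m = (∑ ψ : IrrCharacter G, c ψ * charDegree (ψ : G → ℂ)) + 1 := by
          exact_mod_cast h1
        have h2 : charDegree (φ : G → ℂ) ≤ ∑ ψ : IrrCharacter G, c ψ * charDegree (ψ : G → ℂ) :=
          le_trans (Nat.le_mul_of_pos_left _ h0)
            (Finset.single_le_sum (f := fun ψ => c ψ * charDegree (ψ : G → ℂ))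
              (fun _ _ => Nat.zero_le _) (Finset.mem_univ φ))
        have h3 : (φ : G → ℂ) 1 = 1 := by
          rcases hcd φ with h | h
          · rw [H22.irr_one_eq_charDegree, h, Nat.cast_one]
          · omega
        rw [hlin φ h3 y hy, h3]
      have h1 := congrFun hc y
      have h2 := congrFun hc 1
      simp only [Pi.sub_apply, Finset.sum_apply, Pi.smul_apply, smul_eq_mul,
        H12.oneIrr_apply] at h1 h2
      rw [Finset.sum_congr rfl (fun φ _ => hy' φ), ← h2] at h1
      exact sub_left_inj.1 h1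
    rw [hπ1] at hfix
    rw [show π y = _ from H14.indFun_one_eq_fixed H y, Nat.cast_inj, Subgroup.index] at hfix
    haveI := Fintype.ofFinite (G ⧸ H)
    rw [Nat.card_eq_fintype_card, Nat.card_eq_fintype_card, Fintype.card_subtype,
      ← Finset.card_univ, Finset.card_filter_eq_iff] at hfix
    have h3 : (y : G) • ((1 : G) : G ⧸ H) = ((1 : G) : G ⧸ H) :=
      hfix ((1 : G) : G ⧸ H) (Finset.mem_univ _)
    rw [MulAction.Quotient.smul_coe, smul_eq_mul, mul_one, QuotientGroup.eq, mul_one] at h3
    simpa using H.inv_mem h3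
  intro a ha b hb
  have key : a * b * a⁻¹ * b⁻¹ = 1 := by
    refine isConj_one_left.1 ((H12.isConj_iff_irr (a * b * a⁻¹ * b⁻¹) 1).2 fun χ => ?_)
    by_cases h1 : (χ : G → ℂ) 1 = 1
    · rw [hlin χ h1 _ (mul_mem (mul_mem (mul_mem ha hb) (inv_mem ha)) (inv_mem hb)), h1]
    obtain ⟨H, lam, hχ, hH⟩ := hind χ h1
    have hn : (commutator G).Normal := inferInstance
    have hker : ∀ x : G, extendByZero H (fun h => (lam h : ℂ))
        (x⁻¹ * (a * b * a⁻¹ * b⁻¹) * x) = 1 := by
      intro x
      have ha' : x⁻¹ * a * x ∈ H := hH (by simpa using hn.conj_mem a ha x⁻¹)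
      have hb' : x⁻¹ * b * x ∈ H := hH (by simpa using hn.conj_mem b hb x⁻¹)
      rw [show x⁻¹ * (a * b * a⁻¹ * b⁻¹) * x =
        (((⟨_, ha'⟩ : H) * ⟨_, hb'⟩ * (⟨_, ha'⟩ : H)⁻¹ * (⟨_, hb'⟩ : H)⁻¹ : H) : G) by
          simp; group, extendByZero_coe, map_mul, map_mul, map_mul, map_inv, map_inv,
        mul_inv_cancel_comm, mul_inv_cancel, Units.val_one]
    have hone : ∀ x : G, extendByZero H (fun h => (lam h : ℂ)) (x⁻¹ * 1 * x) = 1 := fun x => by
      rw [mul_one, inv_mul_cancel, show (1 : G) = ((1 : H) : G) from rfl, extendByZero_coe,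
        map_one, Units.val_one]
    rw [hχ]
    simp only [indFun, hker, hone]
  calc a * b = (a * b * a⁻¹ * b⁻¹) * (b * a) := by group
    _ = b * a := by rw [key, one_mul]

end H21
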