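import Cfsg.Agent.H21.TwoDegreesStructure
import Cfsg.Agent.H15.InducedNormal
import Cfsg.Agent.H13.CenterDegree
import Cfsg.Agent.S0169

/-!
Groups whose character degrees are `1` and `p`.
-/

set_option autoImplicit false
set_option linter.style.haveILetI false
set_option linter.unusedSectionVars false

open Cfsg H13
open scoped IsMulCommutative

namespace H21

universe u

theorem zpowers_eq_of_mem_prime {X : Type*} [Group X] [Finite X] {p : ℕ} [hp : Fact p.Prime]
    {s t : X} (hs : s ^ p = 1) (ht : t ∈ Subgroup.zpowers s) (ht1 : t ≠ 1) :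
    Subgroup.zpowers t = Subgroup.zpowers s := by
  refine Subgroup.eq_of_le_of_card_ge (Subgroup.zpowers_le.2 ht) ?_
  rw [Nat.card_zpowers, Nat.card_zpowers]
  obtain ⟨i, rfl⟩ := ht
  have hdvd : orderOf (s ^ i) ∣ p := orderOf_dvd_of_pow_eq_one
    (by rw [← zpow_natCast, zpow_comm, zpow_natCast, hs, one_zpow])
  rcases (Nat.dvd_prime hp.out).1 hdvd with h | h
  · exact absurd (orderOf_eq_one_iff.1 h) ht1
  · rw [h]; exact Nat.le_of_dvd hp.out.pos (orderOf_dvd_of_pow_eq_one hs)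

theorem zpow_eq_one_of_mem {X : Type*} [Group X] [Finite X] {p : ℕ} [hp : Fact p.Prime]
    {s : X} {L : Subgroup X} (hs : s ^ p = 1) (hL : s ∉ L) {n : ℤ} (hn : s ^ n ∈ L) :
    s ^ n = 1 := by
  by_contra h
  apply hL
  have h1 : s ∈ Subgroup.zpowers (s ^ n) := by
    rw [zpowers_eq_of_mem_prime hs (Subgroup.zpow_mem _ (Subgroup.mem_zpowers s) n) h]
    exact Subgroup.mem_zpowers s
  exact Subgroup.zpowers_le.2 hn h1

theorem dvd_of_zpow_eq_one {X : Type*} [Group X] {p : ℕ} [hp : Fact p.Prime]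
    {s : X} (hs : s ^ p = 1) (h1 : s ≠ 1) {n : ℤ} (h : s ^ n = 1) : (p : ℤ) ∣ n := by
  have ho : orderOf s = p := orderOf_eq_prime hs h1
  rw [← ho]
  exact orderOf_dvd_iff_zpow_eq_one.2 h

variable {G : Type u} [Group G] [Finite G]

/-- A group with abelian derived subgroup has a self-centralising abelian normal subgroup
containing it. -/
theorem exists_self_centralizing (h : ∀ a ∈ commutator G, ∀ b ∈ commutator G, a * b = b * a) :
    ∃ A : Subgroup G, A.Normal ∧ commutator G ≤ A ∧ (∀ a ∈ A, ∀ b ∈ A, a * b = b * a) ∧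
      ∀ x : G, (∀ a ∈ A, x * a = a * x) → x ∈ A := by
  obtain ⟨A, -, hA⟩ := (Set.toFinite {B : Subgroup G | commutator G ≤ B ∧
    ∀ a ∈ B, ∀ b ∈ B, a * b = b * a}).exists_le_maximal
    (show commutator G ∈ _ from ⟨le_rfl, h⟩)
  haveI hn : A.Normal := ⟨fun x hx g => by
    have hg : g * x * g⁻¹ * x⁻¹ ∈ A := hA.1.1 (by
      rw [commutator_def]
      exact Subgroup.commutator_mem_commutator (Subgroup.mem_top g) (Subgroup.mem_top x))
    simpa using A.mul_mem hg hx⟩
  refine ⟨A, hn, hA.1.1, hA.1.2, fun x hx => ?_⟩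
  have hmem : A ⊔ Subgroup.zpowers x ∈ {B : Subgroup G | commutator G ≤ B ∧
      ∀ a ∈ B, ∀ b ∈ B, a * b = b * a} := by
    refine ⟨hA.1.1.trans le_sup_left, fun a ha b hb => ?_⟩
    rw [← SetLike.mem_coe, Subgroup.normal_mul] at ha hb
    obtain ⟨a, ha, _, ⟨i, rfl⟩, rfl⟩ := ha
    obtain ⟨b, hb, _, ⟨j, rfl⟩, rfl⟩ := hb
    have h1 : Commute a b := hA.1.2 a ha b hb
    have h2 : Commute x a := hx a ha
    have h3 : Commute x b := hx b hb
    exact ((h1.mul_right (h2.symm.zpow_right j)).mul_left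
      ((h3.zpow_left i).mul_right ((Commute.refl x).zpow_zpow i j))).eq
  exact hA.2 hmem le_sup_left (Subgroup.mem_sup_right (Subgroup.mem_zpowers x))

section Setup

variable {p : ℕ}

theorem charDegree_dvd_index_abelian [Fintype G] (A : Subgroup G) [A.Normal]
    (hA : ∀ a ∈ A, ∀ b ∈ A, a * b = b * a) (χ : IrrCharacter G) :
    charDegree (χ : G → ℂ) ∣ A.index := by
  obtain ⟨n, ρ, hρ, hρχ⟩ := χ.2
  haveI := hρ
  have h := Cfsg.Agent.S0169.result ρ A hA
  have h1 := H22.irr_one_eq_charDegree χ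
  rw [show (χ : G → ℂ) 1 = ρ.character 1 by rw [hρχ], Representation.char_one, Nat.cast_inj] at h1
  rw [← h1]; exact h

theorem exists_degree_of_dvd [hp : Fact p.Prime] (hG : ∃ a b : G, a * b ≠ b * a)
    (h : ∀ χ : IrrCharacter G, charDegree (χ : G → ℂ) = 1 ∨ charDegree (χ : G → ℂ) = p) :
    ∃ χ : IrrCharacter G, charDegree (χ : G → ℂ) = p := by
  by_contra hne
  simp only [not_exists] at hne
  obtain ⟨a, b, hab⟩ := hG
  exact hab (commutative_of_all_linear (fun χ => by
    rw [H22.irr_one_eq_charDegree, (h χ).resolve_right (hne χ), Nat.cast_one]) a b)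

/-- An abelian normal subgroup of index `p` forces the degrees `1` and `p`. -/
theorem degrees_of_index_p [hp : Fact p.Prime] (A : Subgroup G) [A.Normal]
    (hA : ∀ a ∈ A, ∀ b ∈ A, a * b = b * a) (hi : A.index = p) (χ : IrrCharacter G) :
    charDegree (χ : G → ℂ) = 1 ∨ charDegree (χ : G → ℂ) = p := by
  haveI := Fintype.ofFinite G
  exact (Nat.dvd_prime hp.out).1 (hi ▸ charDegree_dvd_index_abelian A hA χ)

/-- A centre of index `p ^ 3` forces the degrees `1` and `p`. -/
theorem degrees_of_center [hp : Fact p.Prime] (hi : (Subgroup.center G).index = p ^ 3)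
    (χ : IrrCharacter G) : charDegree (χ : G → ℂ) = 1 ∨ charDegree (χ : G → ℂ) = p := by
  haveI := Fintype.ofFinite G
  obtain ⟨n, ρ, hρ, hρχ⟩ := χ.2
  haveI := hρ
  have hd := H13.degree_dvd_index_center ρ
  have h1 := H22.irr_one_eq_charDegree χ
  rw [show (χ : G → ℂ) 1 = ρ.character 1 by rw [hρχ], Representation.char_one, Nat.cast_inj] at h1
  rw [h1, hi] at hd
  obtain ⟨k, -, hk⟩ := (Nat.dvd_prime_pow hp.out).1 hd
  have hle : k ≤ 1 := by
    by_contra hlt
    have h2 := H15.degree_sq_mul_card_le (G := G) χ.2 ⊥ ⊤ (Subgroup.center G) le_top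
      (fun d hd c _ => by
        rw [Subgroup.mem_bot, ← Subgroup.mem_center_iff.1 hd c]
        group)
      bot_le (fun b hb => by rw [Subgroup.mem_bot.1 hb])
    rw [H22.irr_one_eq_charDegree, Complex.norm_natCast, Subgroup.card_top,
      ← (Subgroup.center G).card_mul_index, hi] at h2
    have h3 : charDegree (χ : G → ℂ) ^ 2 * (Nat.card (Subgroup.center G) * p ^ 3) *
        Nat.card (Subgroup.center G) ≤ (Nat.card (Subgroup.center G) * p ^ 3) ^ 2 := by
      exact_mod_cast h2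
    rw [hk] at h3
    have hz : 0 < Nat.card (Subgroup.center G) := Nat.card_pos
    have h4 : (p ^ k) ^ 2 ≤ p ^ 3 := by
      by_contra h5
      have h6 : p ^ 3 * ((Nat.card (Subgroup.center G) * p ^ 3) * Nat.card (Subgroup.center G)) <
          (p ^ k) ^ 2 * ((Nat.card (Subgroup.center G) * p ^ 3) *
            Nat.card (Subgroup.center G)) :=
        Nat.mul_lt_mul_of_pos_right (not_le.1 h5)
          (Nat.mul_pos (Nat.mul_pos hz (pow_pos hp.out.pos 3)) hz)
      nlinarith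
    rw [← pow_mul] at h4
    have := (Nat.pow_le_pow_iff_right hp.out.one_lt).1 h4
    omega
  interval_cases k
  · left; rw [hk, pow_zero]
  · right; rw [hk, pow_one]

end Setup

/-- The action of `G` on the linear characters of a normal subgroup. -/
noncomputable def dualAct (A : Subgroup G) [A.Normal] : G →* MulAut (A →* ℂˣ) :=
  MonoidHom.mk' (fun g =>
    { toFun := fun θ => θ.comp (MulAut.conjNormal g⁻¹ : A ≃* A).toMonoidHom
      invFun := fun θ => θ.comp (MulAut.conjNormal g : A ≃* A).toMonoidHom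
      left_inv := fun θ => MonoidHom.ext fun n => congrArg θ (Subtype.ext (by simp [mul_assoc]))
      right_inv := fun θ => MonoidHom.ext fun n => congrArg θ (Subtype.ext (by simp [mul_assoc]))
      map_mul' := fun _ _ => rfl })
    (fun g h => MulEquiv.ext fun θ => MonoidHom.ext fun n =>
      congrArg θ (Subtype.ext (by simp [mul_assoc])))

theorem dualAct_apply (A : Subgroup G) [A.Normal] (g : G) (θ : A →* ℂˣ) (a : A) :
    dualAct A g θ a = θ ⟨g⁻¹ * a * g,
      by simpa using Subgroup.Normal.conj_mem inferInstance _ a.2 g⁻¹⟩ :=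
  congrArg θ (Subtype.ext (by simp))

theorem autFixer_dualAct (A : Subgroup G) [A.Normal] (θ : A →* ℂˣ) :
    autFixer (dualAct A) θ = inertia A (fun a : A => (θ a : ℂ)) := by
  ext g
  rw [← inv_mem_iff (x := g), ← inv_mem_iff (H := inertia A _) (x := g)]
  constructor
  · intro h
    have h' : dualAct A g⁻¹ θ = θ := h
    rw [inv_mem_iff, mem_inertia]
    funext n
    rw [twist_apply]
    have h1 := congrArg Units.val (DFunLike.congr_fun h' n)
    rw [dualAct_apply] at h1
    refine Eq.trans ?_ h1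
    exact congrArg (fun z => (θ z : ℂ)) (Subtype.ext (by simp))
  · intro h
    rw [inv_mem_iff, mem_inertia] at h
    show dualAct A g⁻¹ θ = θ
    refine MonoidHom.ext fun n => Units.ext ?_
    rw [dualAct_apply]
    have h1 := congrFun h n
    rw [twist_apply] at h1
    refine Eq.trans ?_ h1
    exact congrArg (fun z => (θ z : ℂ)) (Subtype.ext (by simp))

variable {p : ℕ} [hp : Fact p.Prime]

/-- Stabilisers of linear characters have index `1` or `p`, and extensions kill commutators. -/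
theorem inertia_one_p [Fintype G]
    (hcd : ∀ χ : IrrCharacter G, charDegree (χ : G → ℂ) = 1 ∨ charDegree (χ : G → ℂ) = p)
    (A : Subgroup G) [A.Normal] (θ : A →* ℂˣ) (hθ : autFixer (dualAct A) θ ≠ ⊤) :
    (autFixer (dualAct A) θ).index = p ∧
      ∀ x ∈ autFixer (dualAct A) θ, ∀ y ∈ autFixer (dualAct A) θ,
        ∀ h : x * y * x⁻¹ * y⁻¹ ∈ A, θ ⟨_, h⟩ = 1 := by
  classical
  haveI hfin : ∀ L : Subgroup G, Fintype L := fun L => Fintype.ofFinite _
  rw [autFixer_dualAct] at hθ ⊢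
  set θ' : A → ℂ := fun a => (θ a : ℂ) with hθ'
  set T := inertia A θ' with hT
  have hθirr : IsIrrCharacter A θ' := H12.isIrrCharacter_monoidHom θ
  have hAT : A ≤ T :=
    le_inertia A (H12.IsCharacter.isClassFunction (H12.isCharacter_monoidHom θ))
  obtain ⟨χ, hne⟩ : ∃ χ : IrrCharacter G, classInner (fun a : A => (χ : G → ℂ) a) θ' ≠ 0 := by
    by_contra h0
    simp only [not_exists, not_not] at h0
    have hz : indFun A θ' = 0 := H12.eq_zero_of_classInner_irr_eq_zero
      (H12.indFun_isClassFunction A θ') fun χ => by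
      rw [classInner_indFun_left A θ' (H12.irr_isClassFunction χ), ← H12.conj_classInner,
        h0 χ, map_zero]
    have h1 := congrFun hz 1
    rw [indFun_apply_one, hθ', Pi.zero_apply] at h1
    simp [Subgroup.index_ne_zero_of_finite] at h1
  have hdeg := clifford_degree A χ.2 hθirr hne
  obtain ⟨e, he⟩ := H12.IsCharacter.classInner_nat
    (H12.IsCharacter.res (H12.isCharacter_irr χ) A) (H12.isCharacter_monoidHom θ)
  rw [he, H22.irr_one_eq_charDegree, show θ' 1 = 1 by simp [hθ'], mul_one] at hdeg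
  have hd : charDegree (χ : G → ℂ) = e * T.index := by exact_mod_cast hdeg
  have hTi : T.index ≠ 1 := fun h => hθ (Subgroup.index_eq_one.1 h)
  have hTdvd : T.index ∣ p := by
    rcases hcd χ with h | h
    · exact absurd (Nat.eq_one_of_mul_eq_one_left (hd ▸ h)) hTi
    · exact Dvd.intro_left e (hd ▸ h)
  have hTp : T.index = p := ((Nat.dvd_prime hp.out).1 hTdvd).resolve_left hTi
  refine ⟨hTp, fun x hx y hy h => ?_⟩
  obtain ⟨ψ, hψ, hψne, hind⟩ := clifford_correspondence_exists A hθirr hT hAT χ.2 hne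
  have hψ1 : ψ 1 = 1 := by
    have h1 := congrFun hind 1
    rw [indFun_apply_one, H22.irr_one_eq_charDegree, hTp] at h1
    rcases hcd χ with h2 | h2
    · exact absurd (Nat.eq_one_of_mul_eq_one_left (hd ▸ h2)) hTi
    · rw [h2] at h1
      exact mul_left_cancel₀ (Nat.cast_ne_zero.2 hp.out.ne_zero) (h1.trans (mul_one _).symm)
  obtain ⟨μ, rfl⟩ := H12.exists_monoidHom_of_apply_one_eq_one
    (H12.isCharacter_of_isIrrCharacter hψ) hψ1
  have hres : resTo hAT (fun t => (μ t : ℂ)) = θ' := by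
    have hl : IsIrrCharacter A (resTo hAT (fun t => (μ t : ℂ))) :=
      H12.isIrrCharacter_monoidHom (μ.comp (Subgroup.inclusion hAT))
    by_contra hd'
    apply hψne
    exact H12.classInner_irr_ne (χ := ⟨_, hl⟩) (ψ := ⟨_, hθirr⟩)
      (fun e => hd' (congrArg Subtype.val e))
  have h1 := congrFun hres ⟨_, h⟩
  rw [resTo_apply] at h1
  apply Units.ext
  rw [Units.val_one]
  refine Eq.trans h1.symm ?_
  have h2 : (⟨x * y * x⁻¹ * y⁻¹, hAT h⟩ : T) = ⟨x, hx⟩ * ⟨y, hy⟩ * (⟨x, hx⟩ : T)⁻¹ *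
      (⟨y, hy⟩ : T)⁻¹ := rfl
  show (μ ⟨x * y * x⁻¹ * y⁻¹, hAT h⟩ : ℂ) = 1
  rw [h2, map_mul, map_mul, map_mul, map_inv, map_inv, mul_inv_cancel_comm, mul_inv_cancel,
    Units.val_one]

theorem comm_rearrange {X : Type*} [CommGroup X] {A B C K L M : X}
    (h : A * B * C = K * (L * M)) : B * L⁻¹ * M⁻¹ = K * A⁻¹ * C⁻¹ := by
  apply Additive.ofMul.injective
  have h' := congrArg Additive.ofMul h
  simp only [ofMul_mul, ofMul_inv] at h' ⊢
  calc Additive.ofMul B + -Additive.ofMul L + -Additive.ofMul M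
      = (Additive.ofMul A + Additive.ofMul B + Additive.ofMul C) +
        (-Additive.ofMul A + -Additive.ofMul C + -Additive.ofMul L + -Additive.ofMul M) := by abel
    _ = _ := by rw [h']; abel

theorem comm_rearrange' {X : Type*} [CommGroup X] {A B K C L : X}
    (h : A * B = K * C * L) : A * K⁻¹ = C * (L * B⁻¹) := by
  apply Additive.ofMul.injective
  have h' := congrArg Additive.ofMul h
  simp only [ofMul_mul, ofMul_inv] at h' ⊢
  calc Additive.ofMul A + -Additive.ofMul K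
      = (Additive.ofMul A + Additive.ofMul B) + (-Additive.ofMul K + -Additive.ofMul B) := by abel
    _ = _ := by rw [h']; abel

/-- In a commutative action with all moved stabilisers of index `p` and not all equal, all
displacements lie in one invariant subgroup of order `p`. -/
theorem exists_common_image {Q X : Type*} [Group Q] [Finite Q] [CommGroup X] [Finite X]
    (φ : Q →* MulAut X) (hcomm : ∀ g h x, φ g (φ h x) = φ h (φ g x))
    (hidx : ∀ x, autFixer φ x ≠ ⊤ → (autFixer φ x).index = p)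
    (hnorm : ∀ x, (autFixer φ x).Normal) (hpow : ∀ (g : Q) x, φ (g ^ p) x = x)
    {x₁ x₂ : X} (hx₁ : autFixer φ x₁ ≠ ⊤) (hx₂ : autFixer φ x₂ ≠ ⊤)
    (hne : autFixer φ x₁ ≠ autFixer φ x₂) :
    ∃ c : X, c ^ p = 1 ∧ (∃ g x, c = φ g x / x) ∧ (∀ g, φ g c = c) ∧
      ∀ g x, φ g x / x ∈ Subgroup.zpowers c := by
  classical
  let T : X → Subgroup Q := fun x => autFixer φ x
  let D : Q → X → X := fun g x => φ g x / x
  have hgen : ∀ a, T a ≠ ⊤ → ∀ h, h ∉ T a → ∀ g, ∃ k : ℤ, (h ^ k)⁻¹ * g ∈ T a := by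
    intro a ha h hh g
    haveI : (T a).Normal := hnorm a
    have hz := zpowers_eq_top_of_prime_card (G := Q ⧸ T a) (p := p) (hidx a ha)
      (g := (h : Q ⧸ T a)) (fun e => hh ((QuotientGroup.eq_one_iff h).1 e))
    obtain ⟨k, hk⟩ : (g : Q ⧸ T a) ∈ Subgroup.zpowers (h : Q ⧸ T a) := by rw [hz]; trivial
    refine ⟨k, QuotientGroup.eq.1 ?_⟩
    rw [QuotientGroup.mk_zpow]
    exact hk
  have hdiff : ∀ a b, T a ≠ ⊤ → T b ≠ ⊤ → T a ≠ T b → ∃ h ∈ T a, h ∉ T b := by
    intro a b ha hb hab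
    by_contra hle
    simp only [not_exists, not_and, not_not] at hle
    refine hab (Subgroup.eq_of_le_of_card_ge hle (le_of_eq ?_))
    have h1 := (T a).card_mul_index
    rw [hidx a ha, ← (T b).card_mul_index, hidx b hb] at h1
    exact (Nat.eq_of_mul_eq_mul_right hp.out.pos h1).symm
  have hfixD : ∀ a, ∀ t ∈ T a, ∀ g, φ t (D g a) = D g a := fun a t ht g => by
    show φ t (φ g a / a) = φ g a / a
    rw [map_div, hcomm, show φ t a = a from ht]
  have hone : ∀ a h, h ∉ T a → D h a ≠ 1 := fun a h hh e => hh (div_eq_one.1 e)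
  -- if the displacement of a generator is invariant then the displacement map is a homomorphism
  have hspan : ∀ a, T a ≠ ⊤ → ∀ h, h ∉ T a → (∀ g, φ g (D h a) = D h a) →
      ∀ g, D g a ∈ Subgroup.zpowers (D h a) := by
    intro a ha h hh hfix g
    obtain ⟨j, hj⟩ := hgen a ha h hh g
    have : D g a = D (h ^ j) a := by
      show φ g a / a = φ (h ^ j) a / a
      rw [show g = h ^ j * ((h ^ j)⁻¹ * g) by group, map_mul, MulAut.mul_apply,
        show φ ((h ^ j)⁻¹ * g) a = a from hj]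
    rw [this]
    let S : Subgroup Q :=
      { carrier := {g | D g a ∈ Subgroup.zpowers (D h a)}
        one_mem' := by simp [D]
        mul_mem' := fun {g g'} (hg : D g a ∈ Subgroup.zpowers (D h a))
            (hg' : D g' a ∈ Subgroup.zpowers (D h a)) => by
          show D (g * g') a ∈ Subgroup.zpowers (D h a)
          have : D (g * g') a = φ g (D g' a) * D g a := by
            simp only [D]
            rw [map_mul φ, MulAut.mul_apply, map_div, div_mul_div_cancel]
          rw [this]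
          obtain ⟨i, hi⟩ := hg'
          refine mul_mem ?_ hg
          rw [← hi, map_zpow, hfix]
          exact Subgroup.zpow_mem _ (Subgroup.mem_zpowers _) i
        inv_mem' := fun {g} (hg : D g a ∈ Subgroup.zpowers (D h a)) => by
          show D g⁻¹ a ∈ Subgroup.zpowers (D h a)
          have : D g⁻¹ a = (φ g⁻¹ (D g a))⁻¹ := by
            simp only [D]
            rw [map_div, ← MulAut.mul_apply, ← map_mul φ, inv_mul_cancel, map_one,
              MulAut.one_apply, inv_div]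
          rw [this]
          obtain ⟨i, hi⟩ := hg
          refine inv_mem ?_
          rw [← hi, map_zpow, hfix]
          exact Subgroup.zpow_mem _ (Subgroup.mem_zpowers _) i }
    exact S.zpow_mem (Subgroup.mem_zpowers (D h a) : h ∈ S) j
  -- the key relation
  have key : ∀ x y, T x ≠ ⊤ → T y ≠ ⊤ → ∀ h1 ∈ T x, h1 ∉ T y → ∀ h2 ∈ T y, h2 ∉ T x →
      (∀ g, φ g (D h2 x) = D h2 x) ∧ ∃ k : ℤ, D h2 x = D (h1 ^ k) y := by
    intro x y hx hy h1 h1x h1y h2 h2y h2x
    have hxy : h1 ∉ T (x * y) := by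
      intro h
      have h' : φ h1 x * φ h1 y = x * y := by rw [← map_mul]; exact h
      rw [show φ h1 x = x from h1x] at h'
      exact h1y (mul_left_cancel h')
    have hxyT : T (x * y) ≠ ⊤ := fun h => hxy (h ▸ Subgroup.mem_top h1)
    obtain ⟨k, hk⟩ := hgen (x * y) hxyT h1 hxy h2
    have hrel : D h2 x = D (h1 ^ k) y := by
      have hk' : φ ((h1 ^ k)⁻¹ * h2) (x * y) = x * y := hk
      have h3 := congrArg (φ (h1 ^ k)) hk'
      rw [← MulAut.mul_apply, ← map_mul, mul_inv_cancel_left, map_mul, map_mul,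
        show φ h2 y = y from h2y, show φ (h1 ^ k) x = x from (T x).zpow_mem h1x k] at h3
      show φ h2 x / x = φ (h1 ^ k) y / y
      rw [div_eq_div_iff_mul_eq_mul, h3, mul_comm (φ (h1 ^ k) y) x]
    refine ⟨fun g => ?_, k, hrel⟩
    obtain ⟨j, hj⟩ := hgen x hx h2 h2x g
    have hfix2 : h2 ∈ autFixer φ (D h2 x) := by
      show φ h2 (D h2 x) = D h2 x
      conv_lhs => rw [hrel]
      conv_rhs => rw [hrel]
      exact hfixD y h2 h2y _
    have h4 := (autFixer φ (D h2 x)).mul_mem ((autFixer φ (D h2 x)).zpow_mem hfix2 j)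
      (hfixD x _ hj h2)
    rwa [mul_inv_cancel_left] at h4
  have pair : ∀ x y, T x ≠ ⊤ → T y ≠ ⊤ → T x ≠ T y → ∃ c : X, c ^ p = 1 ∧
      (∃ g z, c = φ g z / z) ∧ (∀ g, φ g c = c) ∧ (∀ g, D g x ∈ Subgroup.zpowers c) ∧
        ∀ g, D g y ∈ Subgroup.zpowers c := by
    intro x y hx hy hxy
    obtain ⟨h1, h1x, h1y⟩ := hdiff x y hx hy hxy
    obtain ⟨h2, h2y, h2x⟩ := hdiff y x hy hx (Ne.symm hxy)
    obtain ⟨hc, k, hk⟩ := key x y hx hy h1 h1x h1y h2 h2y h2x
    obtain ⟨he, -⟩ := key y x hy hx h2 h2y h2x h1 h1x h1y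
    have hordp : ∀ a h, (∀ g, φ g (D h a) = D h a) → D h a ^ p = 1 := by
      intro a h hh
      have hn : ∀ n : ℕ, D (h ^ n) a = D h a ^ n := by
        intro n
        induction n with
        | zero => simp [D]
        | succ n ih =>
          have : D (h ^ (n + 1)) a = φ h (D (h ^ n) a) * D h a := by
            simp only [D]
            rw [pow_succ', map_mul φ, MulAut.mul_apply, map_div, div_mul_div_cancel]
          rw [this, ih, map_pow, hh, pow_succ]
      rw [← hn]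
      exact div_eq_one.2 (hpow h a)
    refine ⟨D h2 x, hordp x h2 hc, ⟨h2, x, rfl⟩, hc, hspan x hx h2 h2x hc, fun g => ?_⟩
    have hce : D h2 x ∈ Subgroup.zpowers (D h1 y) := hk ▸ hspan y hy h1 h1y he (h1 ^ k)
    rw [zpowers_eq_of_mem_prime (hordp y h1 he) hce (hone x h2 h2x)]
    exact hspan y hy h1 h1y he g
  obtain ⟨c, hcp, hcD, hcinv, hc1, hc2⟩ := pair x₁ x₂ hx₁ hx₂ hne
  refine ⟨c, hcp, hcD, hcinv, fun g x => ?_⟩
  by_cases hx : T x = ⊤
  · rw [show φ g x / x = 1 from div_eq_one.2 (show g ∈ T x by rw [hx]; trivial)]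
    exact Subgroup.one_mem _
  have key' : ∀ z, T z ≠ ⊤ → (∀ h, D h z ∈ Subgroup.zpowers c) → T z ≠ T x →
      D g x ∈ Subgroup.zpowers c := by
    intro z hz hzc hzx
    obtain ⟨c', hc'p, -, -, hc'z, hc'x⟩ := pair z x hz hx hzx
    obtain ⟨h, hh⟩ : ∃ h, h ∉ T z := by
      by_contra hh
      simp only [not_exists, not_not] at hh
      exact hz (eq_top_iff.2 fun h _ => hh h)
    rw [← zpowers_eq_of_mem_prime hcp (hzc h) (hone z h hh),
      zpowers_eq_of_mem_prime hc'p (hc'z h) (hone z h hh)]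
    exact hc'x g
  by_cases h1x : T x₁ = T x
  · exact key' x₂ hx₂ hc2 (fun e => hne (h1x.trans e.symm))
  · exact key' x₁ hx₁ hc1 h1x

/-- Linear algebra of a commutator map with values in the span of two images. -/
theorem exists_index_p_of_span (a : G) (u : G →* Subgroup.center G)
    (hu : ∀ g, (u g : G) = g * a * g⁻¹ * a⁻¹)
    (huker : ∀ g, u g = 1 → ∃ (l : ℤ) (z : G), z ∈ Subgroup.center G ∧ g = z * a ^ l)
    (hup : ∀ g, u g ^ p = 1)
    (hspan : ∀ g h, ∃ i j : ℤ, g * h * g⁻¹ * h⁻¹ = ((u g ^ i * u h ^ j : Subgroup.center G) : G))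
    (hbig : ∀ g h, ∃ w, u w ∉ Subgroup.zpowers (u g) ⊔ Subgroup.zpowers (u h)) :
    ∃ B : Subgroup G, B.Normal ∧ (∀ x ∈ B, ∀ y ∈ B, x * y = y * x) ∧ B.index = p := by
  classical
  have hcz : ∀ g h : G, g * h * g⁻¹ * h⁻¹ ∈ Subgroup.center G := fun g h => by
    obtain ⟨i, j, e⟩ := hspan g h
    rw [e]; exact (u g ^ i * u h ^ j).2
  let cm : G → G → Subgroup.center G := fun g h => ⟨g * h * g⁻¹ * h⁻¹, hcz g h⟩
  have hspan' : ∀ g h, ∃ i j : ℤ, cm g h = u g ^ i * u h ^ j := fun g h => by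
    obtain ⟨i, j, e⟩ := hspan g h
    exact ⟨i, j, Subtype.ext e⟩
  have hbl : ∀ g h h', cm g (h * h') = cm g h * cm g h' := fun g h h' => by
    apply Subtype.ext
    show g * (h * h') * g⁻¹ * (h * h')⁻¹ = (g * h * g⁻¹ * h⁻¹) * (g * h' * g⁻¹ * h'⁻¹)
    calc g * (h * h') * g⁻¹ * (h * h')⁻¹
        = (g * h * g⁻¹ * h⁻¹) * (h * (g * h' * g⁻¹ * h'⁻¹) * h⁻¹) := by group
      _ = _ := by rw [Subgroup.mem_center_iff.1 (hcz g h') h, mul_inv_cancel_right]
  have hbr : ∀ g g' h, cm (g * g') h = cm g h * cm g' h := fun g g' h => by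
    apply Subtype.ext
    show g * g' * h * (g * g')⁻¹ * h⁻¹ = (g * h * g⁻¹ * h⁻¹) * (g' * h * g'⁻¹ * h⁻¹)
    calc g * g' * h * (g * g')⁻¹ * h⁻¹
        = g * (g' * h * g'⁻¹ * h⁻¹) * (h * g⁻¹ * h⁻¹) := by group
      _ = (g' * h * g'⁻¹ * h⁻¹) * g * (h * g⁻¹ * h⁻¹) := by
        rw [Subgroup.mem_center_iff.1 (hcz g' h) g]
      _ = (g' * h * g'⁻¹ * h⁻¹) * (g * h * g⁻¹ * h⁻¹) := by group
      _ = _ := (Subgroup.mem_center_iff.1 (hcz g' h) _).symm
  have hcent : ∀ g z, z ∈ Subgroup.center G → cm g z = 1 ∧ cm z g = 1 := fun g z hz => by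
    have h := Subgroup.mem_center_iff.1 hz g
    constructor <;> apply Subtype.ext
    · show g * z * g⁻¹ * z⁻¹ = 1
      rw [h]; group
    · show z * g * z⁻¹ * g⁻¹ = 1
      rw [← h]; group
  have hself : ∀ g, cm g g = 1 := fun g => Subtype.ext (by show g * g * g⁻¹ * g⁻¹ = 1; group)
  have hswap : ∀ g h, cm h g = (cm g h)⁻¹ := fun g h => Subtype.ext (by simp [cm, mul_assoc])
  have hcma : ∀ g, cm g a = u g := fun g => Subtype.ext (hu g).symm
  let rgt : G → G →* Subgroup.center G := fun g => MonoidHom.mk' (cm g) (hbl g)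
  let lft : G → G →* Subgroup.center G := fun h =>
    MonoidHom.mk' (fun g => cm g h) (fun g g' => hbr g g' h)
  have hua : u a = 1 := Subtype.ext (by rw [hu, OneMemClass.coe_one]; group)
  -- adjust one element
  obtain ⟨g₀, hg₀⟩ := hbig 1 1
  have hug₀ : u g₀ ≠ 1 := fun e => hg₀ (e ▸ Subgroup.one_mem _)
  obtain ⟨h₀, hh₀'⟩ := hbig g₀ g₀
  have hh₀ : u h₀ ∉ Subgroup.zpowers (u g₀) := fun h => hh₀' (Subgroup.mem_sup_left h)
  obtain ⟨i, j, hij⟩ := hspan' g₀ h₀
  obtain ⟨g₁, hg₁⟩ : ∃ g₁, g₁ = g₀ * a ^ j := ⟨_, rfl⟩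
  have hug : u g₁ = u g₀ := by rw [hg₁, map_mul, map_zpow, hua, one_zpow, mul_one]
  set v := rgt g₁ with hv
  have hvdef : ∀ h, v h = cm g₁ h := fun h => rfl
  have hv0 : v h₀ = u g₁ ^ i := by
    show lft h₀ g₁ = _
    conv_lhs => rw [hg₁, map_mul, map_zpow]
    show cm g₀ h₀ * cm a h₀ ^ j = _
    rw [hswap h₀ a, hcma, inv_zpow, hij, mul_inv_cancel_right, ← hug]
  have hva : v a = u g₁ := hcma g₁
  have hrange : ∀ h, v h ∈ Subgroup.zpowers (u g₁) := by
    intro h
    by_cases hh : u h ∈ Subgroup.zpowers (u g₁) ⊔ Subgroup.zpowers (u h₀)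
    · obtain ⟨s, ⟨i', rfl⟩, t, ⟨j', rfl⟩, he⟩ := Subgroup.mem_sup.1 hh
      obtain ⟨l, z, hz, hhz⟩ := huker (h * (g₁ ^ i' * h₀ ^ j')⁻¹) (by
        rw [map_mul, map_inv, map_mul, map_zpow, map_zpow]
        simp only [] at he
        rw [he, mul_inv_cancel])
      have hh' : h = z * a ^ l * (g₁ ^ i' * h₀ ^ j') := by rw [← hhz, inv_mul_cancel_right]
      rw [hh', map_mul, map_mul, map_mul, map_zpow, map_zpow, map_zpow, hva, hv0, hvdef z,
        (hcent g₁ z hz).1, one_mul, hvdef g₁, hself, one_zpow, one_mul]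
      exact mul_mem (Subgroup.zpow_mem _ (Subgroup.mem_zpowers _) l)
        (Subgroup.zpow_mem _ (Subgroup.zpow_mem _ (Subgroup.mem_zpowers _) i) j')
    · obtain ⟨i', j', he⟩ := hspan' g₁ h
      obtain ⟨k, l, he'⟩ := hspan' g₁ (h * h₀)
      rw [hvdef, he]
      rw [hbl, ← hvdef h₀, hv0, he, map_mul u, mul_zpow] at he'
      have he'' : u h ^ (j' - l) * u h₀ ^ (-l) = u g₁ ^ (k - i' - i) := by
        rw [zpow_sub, zpow_sub, zpow_sub, zpow_neg]
        exact comm_rearrange he'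
      have h1 : u h ^ (j' - l) = 1 := by
        refine zpow_eq_one_of_mem (hup h) hh ?_
        rw [← eq_mul_inv_iff_mul_eq] at he''
        rw [he'']
        exact mul_mem (Subgroup.mem_sup_left (Subgroup.zpow_mem _ (Subgroup.mem_zpowers _) _))
          (inv_mem (Subgroup.mem_sup_right (Subgroup.zpow_mem _ (Subgroup.mem_zpowers _) _)))
      rw [h1, one_mul] at he''
      have h2 : u h₀ ^ (-l) = 1 := zpow_eq_one_of_mem (hup h₀) (hug ▸ hh₀)
        (he'' ▸ Subgroup.zpow_mem _ (Subgroup.mem_zpowers _) _)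
      have hne1 : u h ≠ 1 := fun e => hh (e ▸ Subgroup.one_mem _)
      have hne0 : u h₀ ≠ 1 := fun e => hh₀ (e ▸ Subgroup.one_mem _)
      obtain ⟨q, hq⟩ := dvd_of_zpow_eq_one (hup h) hne1 h1
      obtain ⟨r, hr⟩ := dvd_of_zpow_eq_one (hup h₀) hne0 h2
      rw [show j' = (p : ℤ) * (q - r) by rw [mul_sub, ← hq, ← hr]; ring, zpow_mul, zpow_natCast,
        hup, one_zpow, mul_one]
      exact Subgroup.zpow_mem _ (Subgroup.mem_zpowers _) i'
  refine ⟨v.ker, inferInstance, ?_, ?_⟩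
  · have hl : ∀ l : ℤ, u g₁ ^ l = 1 → ∀ g, u g ^ l = 1 := by
      intro l hl g
      obtain ⟨q, rfl⟩ := dvd_of_zpow_eq_one (hup g₁) (hug ▸ hug₀) hl
      rw [zpow_mul, zpow_natCast, hup, one_zpow]
    -- the degenerate case
    have hdep : ∀ x y, v x = 1 → v y = 1 →
        u x ∈ Subgroup.zpowers (u y) ⊔ Subgroup.zpowers (u g₁) → cm x y = 1 := by
      intro x y hx hy hmem
      obtain ⟨s, ⟨i', rfl⟩, t, ⟨j', rfl⟩, he⟩ := Subgroup.mem_sup.1 hmem
      obtain ⟨l, z, hz, hxz⟩ := huker (x * (y ^ i' * g₁ ^ j')⁻¹) (by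
        rw [map_mul, map_inv, map_mul, map_zpow, map_zpow]
        simp only [] at he
        rw [he, mul_inv_cancel])
      have hx' : x = z * a ^ l * (y ^ i' * g₁ ^ j') := by rw [← hxz, inv_mul_cancel_right]
      have hvl : u g₁ ^ l = 1 := by
        rw [hx', map_mul, map_mul, map_mul, map_zpow, map_zpow, map_zpow, hva, hy, hvdef z,
          (hcent g₁ z hz).1, one_mul, hvdef g₁, hself, one_zpow, one_zpow, one_mul, mul_one] at hx
        exact hx
      show lft y x = 1
      rw [hx', map_mul, map_mul, map_mul, map_zpow, map_zpow, map_zpow]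
      show cm z y * cm a y ^ l * (cm y y ^ i' * cm g₁ y ^ j') = 1
      rw [(hcent y z hz).2, hswap y a, hcma, inv_zpow, hl l hvl y, hself, ← hvdef, hy]
      simp
    -- the independent case
    have hind : ∀ x y, v y = 1 →
        u x ∉ Subgroup.zpowers (u y) ⊔ Subgroup.zpowers (u g₁) →
        u y ∉ Subgroup.zpowers (u x) ⊔ Subgroup.zpowers (u g₁) →
        cm x y ∈ Subgroup.zpowers (u y) := by
      intro x y hy hx' hy'
      obtain ⟨i', j', he⟩ := hspan' x y
      obtain ⟨k, l, he'⟩ := hspan' (x * g₁) y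
      rw [hbr, ← hvdef, hy, mul_one, he, map_mul u, mul_zpow] at he'
      have he'' : u x ^ (i' - k) = u g₁ ^ k * u y ^ (l - j') := by
        rw [zpow_sub, zpow_sub]
        exact comm_rearrange' he'
      have h1 : u x ^ (i' - k) = 1 := by
        refine zpow_eq_one_of_mem (hup x) hx' ?_
        rw [he'']
        exact mul_mem (Subgroup.mem_sup_right (Subgroup.zpow_mem _ (Subgroup.mem_zpowers _) _))
          (Subgroup.mem_sup_left (Subgroup.zpow_mem _ (Subgroup.mem_zpowers _) _))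
      have h2 : u g₁ ^ k = 1 := by
        refine zpow_eq_one_of_mem (hup g₁) (L := Subgroup.zpowers (u y)) (fun hg => ?_) ?_
        · apply hy'
          refine Subgroup.mem_sup_right ?_
          rw [zpowers_eq_of_mem_prime (hup y) hg (hug ▸ hug₀)]
          exact Subgroup.mem_zpowers _
        · rw [h1, eq_comm, mul_eq_one_iff_eq_inv] at he''
          rw [he'']
          exact inv_mem (Subgroup.zpow_mem _ (Subgroup.mem_zpowers _) _)
      have hux : u x ≠ 1 := fun e => hx' (e ▸ Subgroup.one_mem _)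
      have h3 : u x ^ i' = 1 := by
        rw [← sub_add_cancel i' k, zpow_add, h1, hl k h2 x, one_mul]
      rw [he, h3, one_mul]
      exact Subgroup.zpow_mem _ (Subgroup.mem_zpowers _) j'
    intro x hx y hy
    have hc : cm x y = 1 := by
      by_cases h1 : u x ∈ Subgroup.zpowers (u y) ⊔ Subgroup.zpowers (u g₁)
      · exact hdep x y hx hy h1
      by_cases h2 : u y ∈ Subgroup.zpowers (u x) ⊔ Subgroup.zpowers (u g₁)
      · rw [hswap y x, hdep y x hy hx h2, inv_one]
      by_contra hne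
      have e1 := hind x y hy h1 h2
      have e2 : cm x y ∈ Subgroup.zpowers (u x) := by
        rw [hswap y x]
        exact inv_mem (hind y x hx h2 h1)
      apply h1
      refine Subgroup.mem_sup_left ?_
      rw [← zpowers_eq_of_mem_prime (hup y) e1 hne, zpowers_eq_of_mem_prime (hup x) e2 hne]
      exact Subgroup.mem_zpowers _
    have h : x * y * x⁻¹ * y⁻¹ = 1 := congrArg Subtype.val hc
    calc x * y = (x * y * x⁻¹ * y⁻¹) * (y * x) := by group
      _ = y * x := by rw [h, one_mul]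
  · rw [Subgroup.index_ker]
    have : v.range = Subgroup.zpowers (u g₁) := by
      refine le_antisymm ?_ (Subgroup.zpowers_le.2 ⟨a, hva⟩)
      rintro _ ⟨h, rfl⟩
      exact hrange h
    rw [this, Nat.card_zpowers, orderOf_eq_prime (hup g₁) (hug ▸ hug₀)]

/-- The structure of groups with degrees `1` and `p`. -/
theorem structure_one_p (hG : ∃ a b : G, a * b ≠ b * a)
    (hcd : ∀ χ : IrrCharacter G, charDegree (χ : G → ℂ) = 1 ∨ charDegree (χ : G → ℂ) = p) :
    (∃ A : Subgroup G, A.Normal ∧ (∀ a ∈ A, ∀ b ∈ A, a * b = b * a) ∧ A.index = p) ∨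
      (Subgroup.center G).index = p ^ 3 := by
  classical
  haveI := Fintype.ofFinite G
  obtain ⟨A, hAn, hGA, hAab, hself⟩ :=
    exists_self_centralizing (commutator_abelian_of_two_degrees hcd)
  haveI := hAn
  haveI hAc : IsMulCommutative A := ⟨⟨fun a b => Subtype.ext (hAab a a.2 b b.2)⟩⟩
  haveI : Finite (A →* ℂˣ) := Finite.of_injective _ (H12.linIrr_injective (G := A))
  have hcm : ∀ g h : G, g * h * g⁻¹ * h⁻¹ ∈ A := fun g h => hGA (by
    rw [commutator_def]
    exact Subgroup.commutator_mem_commutator (Subgroup.mem_top g) (Subgroup.mem_top h))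
  by_cases hAp : A.index = p
  · exact Or.inl ⟨A, hAn, hAab, hAp⟩
  set φ := dualAct A with hφ
  have hsep : ∀ a b : A, (∀ θ : A →* ℂˣ, θ a = θ b) → a = b := by
    intro a b h
    by_contra hne
    obtain ⟨θ, hθ⟩ := CommGroup.exists_apply_ne_one_of_hasEnoughRootsOfUnity A ℂ
      (a := a * b⁻¹) (fun h' => hne (mul_inv_eq_one.1 h'))
    exact hθ (by rw [map_mul, map_inv, h θ, mul_inv_cancel])
  have hker : ∀ g : G, (∀ x, φ g x = x) → g ∈ A := by
    intro g hg
    refine hself g fun a ha => ?_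
    have h1 := hsep (⟨g⁻¹ * a * g, by simpa using hAn.conj_mem _ ha g⁻¹⟩ : A) ⟨a, ha⟩
      fun θ => by
      have h2 := DFunLike.congr_fun (hg θ) ⟨a, ha⟩
      rwa [dualAct_apply] at h2
    have h3 : g⁻¹ * a * g = a := congrArg Subtype.val h1
    calc g * a = g * (g⁻¹ * a * g) := by rw [h3]
      _ = a * g := by group
  have hAfix : ∀ a ∈ A, ∀ x, φ a x = x := by
    intro a ha x
    refine MonoidHom.ext fun b => ?_
    rw [dualAct_apply]
    refine congrArg x (Subtype.ext ?_)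
    show a⁻¹ * b * a = b
    rw [mul_assoc, hAab b b.2 a ha, inv_mul_cancel_left]
  have hcomm : ∀ g h : G, ∀ x, φ g (φ h x) = φ h (φ g x) := by
    intro g h x
    rw [← MulAut.mul_apply, ← MulAut.mul_apply, ← map_mul, ← map_mul,
      show g * h = (g * h * g⁻¹ * h⁻¹) * (h * g) by group, map_mul, MulAut.mul_apply,
      hAfix _ (hcm g h)]
  have hTA : ∀ x, A ≤ autFixer φ x := fun x a ha => hAfix a ha x
  have hTn : ∀ x, (autFixer φ x).Normal := fun x => ⟨fun t ht g => by
    simpa using (autFixer φ x).mul_mem (hTA x (hcm g t)) ht⟩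
  have hTi : ∀ x, autFixer φ x ≠ ⊤ → (autFixer φ x).index = p :=
    fun x hx => (inertia_one_p hcd A x hx).1
  have hpow : ∀ g : G, g ^ p ∈ A := fun g => hker _ fun x => by
    by_cases hx : autFixer φ x = ⊤
    · exact (show g ^ p ∈ autFixer φ x by rw [hx]; trivial)
    · haveI := hTn x
      exact (show g ^ p ∈ autFixer φ x by rw [← hTi x hx]; exact Subgroup.pow_index_mem _ g)
  obtain ⟨x1, hx1⟩ : ∃ x, autFixer φ x ≠ ⊤ := by
    by_contra hall
    simp only [not_exists, not_not] at hall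
    obtain ⟨s, t, hst⟩ := hG
    have htop : A = ⊤ := eq_top_iff.2 fun g _ => hker g fun x =>
      (show g ∈ autFixer φ x by rw [hall]; trivial)
    exact hst (hAab s (htop ▸ Subgroup.mem_top s) t (htop ▸ Subgroup.mem_top t))
  obtain ⟨x2, hx2, hx12⟩ : ∃ x2, autFixer φ x2 ≠ ⊤ ∧ autFixer φ x1 ≠ autFixer φ x2 := by
    by_contra hall
    simp only [not_exists, not_and, not_not] at hall
    apply hAp
    rw [← hTi x1 hx1]
    refine congrArg Subgroup.index (le_antisymm (hTA x1) fun g hg => hker g fun x => ?_)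
    by_cases hx : autFixer φ x = ⊤
    · exact (show g ∈ autFixer φ x by rw [hx]; trivial)
    · exact (show g ∈ autFixer φ x from hall x hx ▸ hg)
  obtain ⟨c, hcp, ⟨gc, xc, hcdef⟩, hcinv, hall⟩ :=
    exists_common_image (X := A →* ℂˣ) φ hcomm hTi hTn (fun g x => hAfix _ (hpow g) x) hx1 hx2 hx12
  -- the centre
  have hZA : Subgroup.center G ≤ A := fun z hz =>
    hself z fun a _ => (Subgroup.mem_center_iff.1 hz a).symm
  have hcinv' : ∀ (g : G) (b : A) h, c ⟨g * b * g⁻¹, h⟩ = c b := by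
    intro g b h
    have h1 := DFunLike.congr_fun (hcinv g⁻¹) b
    rw [dualAct_apply] at h1
    exact Eq.trans (congrArg c (Subtype.ext (by simp))) h1
  have hcker : ∀ a : A, c a = 1 → (a : G) ∈ Subgroup.center G := by
    intro a ha
    rw [Subgroup.mem_center_iff]
    intro g
    have h1 := hsep (⟨g⁻¹ * a * g, by simpa using hAn.conj_mem _ a.2 g⁻¹⟩ : A) a fun θ => by
      obtain ⟨j, hj⟩ := hall g θ
      have h2 : (c ^ j) a = φ g θ a / θ a := DFunLike.congr_fun hj a
      rw [dualAct_apply] at h2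
      rw [← div_eq_one]
      refine h2.symm.trans ?_
      show (c a) ^ j = 1
      rw [ha, one_zpow]
    have h3 : g⁻¹ * a * g = a := congrArg Subtype.val h1
    calc g * a = g * (g⁻¹ * a * g) := by rw [h3]
      _ = a * g := by group
  have hczero : ∀ b : A, (b : G) ∈ Subgroup.center G → c b = 1 := by
    intro b hb
    rw [hcdef]
    show φ gc xc b / xc b = 1
    rw [dualAct_apply, div_eq_one]
    refine congrArg xc (Subtype.ext ?_)
    show gc⁻¹ * b * gc = b
    rw [mul_assoc, ← Subgroup.mem_center_iff.1 hb gc, inv_mul_cancel_left]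
  obtain ⟨a, ha⟩ : ∃ a : A, (a : G) ∉ Subgroup.center G := by
    by_contra hA'
    simp only [not_exists, not_not] at hA'
    obtain ⟨s, t, hst⟩ := hG
    have htop : A = ⊤ := eq_top_iff.2 fun g _ =>
      hself g fun a ha => Subgroup.mem_center_iff.1 (hA' ⟨a, ha⟩) g
    exact hst (hAab s (htop ▸ Subgroup.mem_top s) t (htop ▸ Subgroup.mem_top t))
  have hca : c a ≠ 1 := fun e => ha (hcker a e)
  have hcap : (c a) ^ p = 1 := by rw [← MonoidHom.pow_apply, hcp, MonoidHom.one_apply]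
  have hprim : IsPrimitiveRoot ((c a : ℂˣ) : ℂ) p := by
    have ho : orderOf ((c a : ℂˣ) : ℂ) = p := by
      rw [orderOf_units]; exact orderOf_eq_prime hcap hca
    exact ho ▸ IsPrimitiveRoot.orderOf _
  have hdec : ∀ b : A, ∃ (l : ℕ) (z : A), (z : G) ∈ Subgroup.center G ∧ b = z * a ^ l := by
    intro b
    have hbp : ((c b : ℂˣ) : ℂ) ^ p = 1 := by
      rw [← Units.val_pow_eq_pow_val, ← MonoidHom.pow_apply, hcp, MonoidHom.one_apply,
        Units.val_one]
    haveI : NeZero p := ⟨hp.out.ne_zero⟩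
    obtain ⟨l, -, hl⟩ := hprim.eq_pow_of_pow_eq_one hbp
    refine ⟨l, b * (a ^ l)⁻¹, hcker _ ?_, (inv_mul_cancel_right b (a ^ l)).symm⟩
    rw [map_mul, map_inv, map_pow, mul_inv_eq_one]
    exact Units.ext (by rw [Units.val_pow_eq_pow_val, hl])
  have hcidx : (Subgroup.center G).index = p * A.index := by
    rw [← Subgroup.relIndex_mul_index hZA]
    congr 1
    have hk : (Subgroup.center G).subgroupOf A = c.ker := by
      ext b
      exact ⟨hczero b, hcker b⟩
    rw [Subgroup.relIndex, hk, Subgroup.index_ker]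
    have hr : c.range = Subgroup.zpowers (c a) := by
      refine le_antisymm ?_ (Subgroup.zpowers_le.2 ⟨a, rfl⟩)
      rintro _ ⟨b, rfl⟩
      obtain ⟨l, z, hz, rfl⟩ := hdec b
      rw [map_mul, hczero z hz, one_mul, map_pow]
      exact Subgroup.pow_mem _ (Subgroup.mem_zpowers _) l
    rw [hr, Nat.card_zpowers, orderOf_eq_prime hcap hca]
  -- commutators with `a`
  have huz : ∀ g : G, g * a * g⁻¹ * (a : G)⁻¹ ∈ Subgroup.center G := by
    intro g
    refine hcker ⟨_, hcm g a⟩ ?_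
    rw [show (⟨g * a * g⁻¹ * (a : G)⁻¹, hcm g a⟩ : A) =
      ⟨g * a * g⁻¹, hAn.conj_mem _ a.2 g⟩ * a⁻¹ from rfl, map_mul, map_inv, hcinv',
      mul_inv_cancel]
  let u : G →* Subgroup.center G := MonoidHom.mk' (fun g => ⟨_, huz g⟩) (fun g h => by
    apply Subtype.ext
    show g * h * a * (g * h)⁻¹ * (a : G)⁻¹ =
      (g * a * g⁻¹ * (a : G)⁻¹) * (h * a * h⁻¹ * (a : G)⁻¹)
    calc g * h * a * (g * h)⁻¹ * (a : G)⁻¹
        = g * (h * a * h⁻¹ * (a : G)⁻¹) * (a * g⁻¹ * (a : G)⁻¹) := by group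
      _ = (h * a * h⁻¹ * (a : G)⁻¹) * g * (a * g⁻¹ * (a : G)⁻¹) := by
        rw [Subgroup.mem_center_iff.1 (huz h) g]
      _ = (h * a * h⁻¹ * (a : G)⁻¹) * (g * a * g⁻¹ * (a : G)⁻¹) := by group
      _ = _ := (Subgroup.mem_center_iff.1 (huz h) _).symm)
  have hu : ∀ g, (u g : G) = g * a * g⁻¹ * (a : G)⁻¹ := fun g => rfl
  have huA : ∀ b ∈ A, u b = 1 := fun b hb => Subtype.ext (by
    show b * a * b⁻¹ * (a : G)⁻¹ = 1
    rw [hAab b hb a a.2]; group)
  have hukA : ∀ g, u g = 1 → g ∈ A := by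
    intro g hg
    have hga : Commute g (a : G) := by
      have h1 : g * a * g⁻¹ * (a : G)⁻¹ = 1 := congrArg Subtype.val hg
      calc g * a = (g * a * g⁻¹ * (a : G)⁻¹) * (a * g) := by group
        _ = a * g := by rw [h1, one_mul]
    refine hself g fun b hb => ?_
    obtain ⟨l, z, hz, hbz⟩ := hdec ⟨b, hb⟩
    rw [show b = (z : G) * (a : G) ^ l by simpa using congrArg Subtype.val hbz]
    exact ((show Commute g (z : G) from Subgroup.mem_center_iff.1 hz g).mul_right
      (hga.pow_right l)).eq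
  have hup : ∀ g, u g ^ p = 1 := fun g => by rw [← map_pow, huA _ (hpow g)]
  have hindex : A.index = Nat.card u.range := by
    rw [← Subgroup.index_ker]
    congr 1
    ext g
    exact ⟨huA g, hukA g⟩
  obtain ⟨n, hn⟩ := IsPGroup.iff_card.1 (show IsPGroup p u.range from fun ⟨_, g, hg⟩ =>
    ⟨1, Subtype.ext (by simpa [← hg] using hup g)⟩)
  rcases (by omega : n = 0 ∨ n = 1 ∨ n = 2 ∨ 3 ≤ n) with rfl | rfl | rfl | hn3
  · obtain ⟨s, t, hst⟩ := hG
    have htop : A = ⊤ := Subgroup.index_eq_one.1 (by rw [hindex, hn, pow_zero])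
    exact absurd (hAab s (htop ▸ Subgroup.mem_top s) t (htop ▸ Subgroup.mem_top t)) hst
  · exact absurd (by rw [hindex, hn, pow_one]) hAp
  · right; rw [hcidx, hindex, hn]; ring
  left
  have hbig : ∀ g h, ∃ w, u w ∉ Subgroup.zpowers (u g) ⊔ Subgroup.zpowers (u h) := by
    intro g h
    by_contra hle
    simp only [not_exists, not_not] at hle
    have h1 : Nat.card u.range ≤
        Nat.card (Subgroup.zpowers (u g) × Subgroup.zpowers (u h)) := by
      refine le_trans (Subgroup.card_le_of_le (K := Subgroup.zpowers (u g) ⊔ Subgroup.zpowers (u h))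
        (by rintro _ ⟨w, rfl⟩; exact hle w)) ?_
      refine Nat.card_le_card_of_surjective
        (fun z : Subgroup.zpowers (u g) × Subgroup.zpowers (u h) =>
          (⟨(z.1 : Subgroup.center G) * z.2, Subgroup.mul_mem_sup z.1.2 z.2.2⟩ :
            (Subgroup.zpowers (u g) ⊔ Subgroup.zpowers (u h) : Subgroup _))) ?_
      rintro ⟨z, hz⟩
      obtain ⟨s, hs, t, ht, rfl⟩ := Subgroup.mem_sup.1 hz
      exact ⟨(⟨s, hs⟩, ⟨t, ht⟩), rfl⟩
    rw [hn, Nat.card_prod, Nat.card_zpowers, Nat.card_zpowers] at h1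
    have h2 : orderOf (u g) * orderOf (u h) ≤ p ^ 2 := by
      rw [pow_two]
      exact Nat.mul_le_mul (Nat.le_of_dvd hp.out.pos (orderOf_dvd_of_pow_eq_one (hup g)))
        (Nat.le_of_dvd hp.out.pos (orderOf_dvd_of_pow_eq_one (hup h)))
    have h3 : p ^ 2 < p ^ n := Nat.pow_lt_pow_right hp.out.one_lt (by omega)
    omega
  refine exists_index_p_of_span (a : G) u hu (fun g hg => ?_) hup ?_ hbig
  · obtain ⟨l, z, hz, hgz⟩ := hdec ⟨g, hukA g hg⟩
    exact ⟨l, z, hz, by simpa using congrArg Subtype.val hgz⟩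
  intro g h
  let uA : G →* A := (Subgroup.inclusion hZA).comp u
  set L' : Subgroup A := Subgroup.zpowers (uA g) ⊔ Subgroup.zpowers (uA h) with hL'
  suffices hmem : (⟨g * h * g⁻¹ * h⁻¹, hcm g h⟩ : A) ∈ L' by
    obtain ⟨s, ⟨i, rfl⟩, t, ⟨j, rfl⟩, he⟩ := Subgroup.mem_sup.1 hmem
    refine ⟨i, j, ?_⟩
    have h1 : uA g ^ i * uA h ^ j = ⟨g * h * g⁻¹ * h⁻¹, hcm g h⟩ := he
    have h2 := congrArg Subtype.val h1
    simpa [uA] using h2.symm
  have hexχ : ∀ v : A, v ∉ L' → ∃ θ : A →* ℂˣ, (∀ w ∈ L', θ w = 1) ∧ θ v ≠ 1 := by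
    intro v hv
    haveI : L'.Normal := Subgroup.normal_of_isMulCommutative L'
    obtain ⟨θ, hθ⟩ := CommGroup.exists_apply_ne_one_of_hasEnoughRootsOfUnity (A ⧸ L') ℂ
      (a := (v : A ⧸ L')) (fun e => hv ((QuotientGroup.eq_one_iff v).1 e))
    exact ⟨θ.comp (QuotientGroup.mk' L'), fun w hw => by
      rw [MonoidHom.comp_apply, QuotientGroup.mk'_apply, (QuotientGroup.eq_one_iff w).2 hw,
        map_one], hθ⟩
  by_contra hnot
  obtain ⟨θ, hθL, hθc⟩ := hexχ _ hnot
  obtain ⟨w, hw⟩ := hbig g h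
  obtain ⟨η, hηL, hηv⟩ := hexχ (uA w) (fun hw' => hw (by
    obtain ⟨s, ⟨i, rfl⟩, t, ⟨j, rfl⟩, he⟩ := Subgroup.mem_sup.1 hw'
    have h1 : Subgroup.inclusion hZA (u g ^ i * u h ^ j) = Subgroup.inclusion hZA (u w) := by
      rw [map_mul, map_zpow, map_zpow]; exact he
    rw [← Subgroup.inclusion_injective hZA h1]
    exact Subgroup.mul_mem_sup (Subgroup.zpow_mem _ (Subgroup.mem_zpowers _) i)
      (Subgroup.zpow_mem _ (Subgroup.mem_zpowers _) j)))
  -- stabilisers in terms of `u`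
  have hev : ∀ (θ : A →* ℂˣ) (g' : G), φ g'⁻¹ θ a = θ (uA g') * θ a := by
    intro θ g'
    rw [dualAct_apply, ← map_mul θ]
    exact congrArg θ (Subtype.ext (by simp [uA, hu, mul_assoc]))
  have hmem : ∀ (θ : A →* ℂˣ) g', θ (uA g') = 1 → g' ∈ autFixer φ θ := by
    intro θ g' h1
    refine inv_mem_iff.1 ?_
    show φ g'⁻¹ θ = θ
    refine MonoidHom.ext fun b => ?_
    obtain ⟨l, z, hz, rfl⟩ := hdec b
    rw [map_mul, map_mul, map_pow, map_pow, hev, h1, one_mul]
    congr 1
    rw [dualAct_apply]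
    refine congrArg θ (Subtype.ext ?_)
    show g'⁻¹⁻¹ * z * g'⁻¹ = z
    rw [inv_inv, Subgroup.mem_center_iff.1 hz g', mul_inv_cancel_right]
  have hkill : ∀ θ : A →* ℂˣ, autFixer φ θ ≠ ⊤ → (∀ w ∈ L', θ w = 1) →
      θ ⟨g * h * g⁻¹ * h⁻¹, hcm g h⟩ = 1 := fun θ hθT hθL =>
    (inertia_one_p hcd A θ hθT).2 g
      (hmem θ g (hθL _ (Subgroup.mem_sup_left (Subgroup.mem_zpowers _)))) h
      (hmem θ h (hθL _ (Subgroup.mem_sup_right (Subgroup.mem_zpowers _)))) (hcm g h)
  have hmove : ∀ θ : A →* ℂˣ, θ (uA w) ≠ 1 → autFixer φ θ ≠ ⊤ := by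
    intro θ h1 h2
    apply h1
    have h4 := DFunLike.congr_fun
      (show φ w⁻¹ θ = θ from show w⁻¹ ∈ autFixer φ θ by rw [h2]; trivial) a
    rw [hev] at h4
    exact mul_eq_right.1 h4
  by_cases hθw : θ (uA w) = 1
  · have h1 := hkill (θ * η) (hmove _ (by rw [MonoidHom.mul_apply, hθw, one_mul]; exact hηv))
      (fun v hv => by rw [MonoidHom.mul_apply, hθL v hv, hηL v hv, one_mul])
    rw [MonoidHom.mul_apply, hkill η (hmove η hηv) hηL, mul_one] at h1
    exact hθc h1
  · exact hθc (hkill θ (hmove θ hθw) hθL)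

end H21
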