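import Cfsg.Agent.H21.StabDefect
import Cfsg.Agent.H21.SelfCentralBlock
import Cfsg.Agent.H20.SecondMainApps
import Cfsg.Agent.H13.Linear
import Cfsg.Agent.S0887

/-!
Reynolds: a normal defect group is abelian exactly when all heights are zero.
-/

set_option autoImplicit false
set_option linter.style.haveILetI false
set_option linter.unusedSectionVars false

namespace H21

open Cfsg
open scoped ComplexConjugate

universe u

variable {G : Type u} [Group G] [Fintype G] {p : ℕ} [hp : Fact p.Prime]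
  {M : Ideal AlgInt} [hMp : M.IsPrime] {P : Subgroup G}

/-- In `G = P C(P)` every irreducible character of `P` raises the degree of a block member. -/
theorem exists_block_char_degree (hM : IsPModular p M) (hP : IsPGroup p P)
    (hG : P ⊔ Subgroup.centralizer (P : Set G) = ⊤) {B : Set (IrrCharacter G)}
    (hB : IsPBlock M B) (hD : IsDefectGroup p M B P) [Fintype P] (φ : IrrCharacter P) :
    ∃ χ ∈ B, (charDegree (χ : G → ℂ)).factorization p =
      P.index.factorization p + (charDegree (φ : P → ℂ)).factorization p := by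
  classical
  haveI hPn : P.Normal := Subgroup.normalizer_eq_top_iff.1 (top_le_iff.1
    (hG ▸ sup_le Subgroup.le_normalizer (Subgroup.centralizer_le_normalizer (P : Set G))))
  obtain ⟨⟨θ, ⟨hθB, hker⟩, -⟩, hdeg, -⟩ := self_central_block hM hP hG hB hD
  have hθP : ∀ u ∈ P, ∀ g, (θ : G → ℂ) (u * g) = (θ : G → ℂ) g := fun u hu g =>
    H12.IsCharacter.mul_left_of_eq_degree (H12.isCharacter_irr θ) (hker u hu) g
  have hvan : ∀ g, H20.pPart p g ∉ P → (θ : G → ℂ) g = 0 := by
    intro g hg
    refine H20.irr_eq_zero_of_pPart_notMem hM θ fun D hD' => ?_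
    rw [← H20.block_eq_blockOf hB hθB] at hD'
    obtain ⟨x, hx⟩ := H20.defectGroup_conj hM hB hD hD'
    rwa [← hx, conjSub_eq_self_of_normal x P]
  set X : IrrCharacter G := ⟨_, isIrrCharacter_secFun hP hG φ θ hθP hvan⟩ with hXdef
  have h1 : ∀ g : G, ¬ p ∣ orderOf g →
      (X : G → ℂ) g = (φ : P → ℂ) 1 * (θ : G → ℂ) g := fun g hg => secFun_regular P _ _ hg
  have h11 := h1 1 (by rw [orderOf_one]; exact hp.out.not_dvd_one)
  refine ⟨X, ?_, ?_⟩
  · have heq : H20.lam M X (H20.eRed M B) = H20.lam M θ (H20.eRed M B) := by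
      haveI := Fintype.ofFinite (ConjClasses G)
      rw [H20.lam_eq_sum, H20.lam_eq_sum]
      refine Finset.sum_congr rfl fun C _ => ?_
      rcases eq_or_ne ((H20.eRed M B).coeff C.out) 0 with h0 | h0
      · rw [h0, zero_mul, zero_mul]
      · have hreg := H20.regular_of_coeff_ne_zero hM hB h0
        have hω : centralChar (X : G → ℂ) C.out = centralChar (θ : G → ℂ) C.out := by
          have hφ0 := H12.irr_apply_one_ne_zero φ
          have hθ0 := H12.irr_apply_one_ne_zero θ
          rw [centralChar, centralChar, h1 _ hreg, h11]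
          field_simp
        rw [hω]
    rw [H20.lam_eRed hB, H20.lam_eRed hB, if_pos hθB] at heq
    by_contra hne
    rw [if_neg hne] at heq
    exact zero_ne_one heq
  · rw [H22.irr_one_eq_charDegree, H22.irr_one_eq_charDegree, H22.irr_one_eq_charDegree,
      ← Nat.cast_mul, Nat.cast_inj] at h11
    rw [h11, Nat.factorization_mul (H22.charDegree_pos φ).ne' (H22.charDegree_pos θ).ne',
      Finsupp.add_apply, hdeg θ hθB hker, add_comm]

/-- All heights are zero for an abelian normal defect group. -/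
theorem height_eq_zero_of_abelian (hM : IsPModular p M) {B : Set (IrrCharacter G)}
    (hB : IsPBlock M B) [P.Normal] (hD : IsDefectGroup p M B P)
    (hab : ∀ a ∈ P, ∀ c ∈ P, a * c = c * a) {χ : IrrCharacter G} (hχ : χ ∈ B) :
    blockHeight p B (χ : G → ℂ) = 0 := by
  classical
  haveI := Fintype.ofFinite P
  obtain ⟨θ, hθ⟩ := exists_constituent P χ
  have hθ1 : (θ : P → ℂ) 1 = ((1 : ℕ) : ℂ) := by
    rw [H13.degree_one_of_commutative (fun a b => Subtype.ext (hab a a.2 b b.2)) θ, Nat.cast_one]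
  have h := (Cfsg.Agent.S0887.result P (χ : G → ℂ) χ.2 (θ : P → ℂ) θ.2 hθ
    (charDegree (χ : G → ℂ)) 1 (H22.irr_one_eq_charDegree χ) hθ1).2
  rw [Nat.div_one] at h
  have h2 := (Nat.factorization_le_iff_dvd (H22.charDegree_pos χ).ne'
    Subgroup.index_ne_zero_of_finite).2 h p
  have h3 := H22.blockDefect_add_blockExp (p := p) hχ
  have h4 := H22.blockHeight_add_blockExp (p := p) hχ
  have hcard : Nat.card P = p ^ blockDefect p B := H22.card_isDefectGroup hM hB hD
  have h5 : (Nat.card G).factorization p = blockDefect p B + P.index.factorization p := by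
    rw [← P.card_mul_index, Nat.factorization_mul Nat.card_pos.ne'
      Subgroup.index_ne_zero_of_finite, hcard, hp.out.factorization_pow]
    simp
  omega

local notation "𝐋" => (P ⊔ Subgroup.centralizer (P : Set G) : Subgroup G)

/-- A nonabelian normal defect group gives positive heights. -/
theorem exists_height_pos_of_not_abelian (hM : IsPModular p M) {B : Set (IrrCharacter G)}
    (hB : IsPBlock M B) [hPn : P.Normal] (hD : IsDefectGroup p M B P)
    (hab : ¬ ∀ a ∈ P, ∀ c ∈ P, a * c = c * a) :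
    ∃ χ ∈ B, 0 < blockHeight p B (χ : G → ℂ) := by
  classical
  haveI := Fintype.ofFinite P
  have hP : IsPGroup p P := H20.IsDefectGroup.isPGroup hD
  obtain ⟨φ, hφ⟩ : ∃ φ : IrrCharacter P, 0 < (charDegree (φ : P → ℂ)).factorization p := by
    by_contra h
    push Not at h
    refine hab fun a ha c hc => congrArg Subtype.val
      (H13.commutative_of_all_linear (fun φ => ?_) (⟨a, ha⟩ : P) ⟨c, hc⟩)
    obtain ⟨k, hk⟩ := IsPGroup.iff_card.1 hP
    obtain ⟨i, -, hi⟩ := (Nat.dvd_prime_pow hp.out).1 (hk ▸ H22.charDegree_dvd_card φ)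
    have hi0 := h φ
    rw [hi, hp.out.factorization_pow, Finsupp.single_eq_same] at hi0
    rw [H22.irr_one_eq_charDegree, hi, Nat.le_zero.1 hi0, pow_zero, Nat.cast_one]
  obtain ⟨b, hbD, hind⟩ := first_main_exists hM hB hD
  haveI hLn : 𝐋.Normal := by
    haveI : (Subgroup.centralizer (P : Set G)).Normal := by infer_instance
    infer_instance
  haveI := Fintype.ofFinite 𝐋
  haveI := Fintype.ofFinite (P.subgroupOf 𝐋)
  have hPL : P ≤ 𝐋 := le_sup_left
  let e : P.subgroupOf 𝐋 ≃* P := Subgroup.subgroupOfEquivOfLe hPL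
  have htop : P.subgroupOf 𝐋 ⊔ Subgroup.centralizer (P.subgroupOf 𝐋 : Set 𝐋) = ⊤ := by
    refine top_le_iff.1 ?_
    refine (Subgroup.subgroupOf_self 𝐋).ge.trans ?_
    rw [Subgroup.subgroupOf_sup hPL le_sup_right]
    exact sup_le_sup_left (fun x hx => (mem_centralizer_subgroupOf hPL x).2
      (Subgroup.mem_subgroupOf.1 hx)) _
  obtain ⟨θ, hθb, hθdeg⟩ := exists_block_char_degree hM (hP.of_equiv e.symm) htop hind.1 hbD
    (H12.irrCongr e φ)
  have hφdeg : charDegree (H12.irrCongr e φ : P.subgroupOf 𝐋 → ℂ) = charDegree (φ : P → ℂ) := by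
    unfold charDegree
    rw [H12.irrCongr_apply, map_one]
  rw [hφdeg] at hθdeg
  -- a character over `θ`
  obtain ⟨χ, hne⟩ : ∃ χ : IrrCharacter G,
      classInner (fun n : 𝐋 => (χ : G → ℂ) n) (θ : 𝐋 → ℂ) ≠ 0 := by
    by_contra h0
    push Not at h0
    have h := congrFun (H12.eq_zero_of_classInner_irr_eq_zero
      (H12.indFun_isClassFunction 𝐋 (θ : 𝐋 → ℂ)) fun χ => by
        rw [H13.classInner_indFun_left 𝐋 _ (H12.irr_isClassFunction χ), ← H12.conj_classInner, h0,
          map_zero]) 1
    rw [H12.indFun_one, Pi.zero_apply, mul_eq_zero] at h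
    rcases h with h | h
    · exact Nat.cast_ne_zero.mpr Subgroup.index_ne_zero_of_finite h
    · exact H12.irr_apply_one_ne_zero θ h
  obtain ⟨χB, hχB⟩ := H20.block_nonempty hB
  have hχ : χ ∈ B := by
    refine (H20.mem_block_iff hB hχB χ).2 ((H20.sameBlock_iff χB χ).2 fun x => ?_)
    rw [← (isInducedBlock_iff hind.1 hB hθb hχB).1 hind _ (H20.isCl_clSum _ x), indLam_clSum]
    by_cases hx : x ∈ 𝐋
    · rw [H20.lam_clSum, centralChar_eq_induced 𝐋 χ θ hne ⟨x, hx⟩]
    · have h0 : inducedCentralChar 𝐋 (θ : 𝐋 → ℂ) x = 0 := by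
        rw [inducedCentralChar]
        exact finsum_mem_eq_zero_of_forall_eq_zero fun h hh =>
          absurd (mem_of_isConj 𝐋 h.2 (IsConj.symm hh)) hx
      rw [h0, H20.redC_zero]
      by_contra h1
      exact hx (le_sup_right (a := P)
        (H20.mem_centralizer_of_lam_ne_zero (Q := P) hM hP (Ne.symm h1)))
  refine ⟨χ, hχ, ?_⟩
  -- the stabiliser of `b`
  have hpow : ∀ (S : Submonoid G) (g : G), g ∈ S → g⁻¹ ∈ S := fun S g hg => by
    have : g⁻¹ = g ^ (orderOf g - 1) := by
      rw [inv_eq_iff_mul_eq_one, ← pow_succ', Nat.sub_add_cancel (orderOf_pos g),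
        pow_orderOf_eq_one]
    exact this ▸ pow_mem hg _
  let S : Submonoid G :=
    { carrier := {g | ∀ η ∈ b, conjChar 𝐋 g η ∈ b}
      one_mem' := fun η hη => by rwa [conjChar_one]
      mul_mem' := fun {a c} ha hc η hη => by
        first
          | (rw [← conjChar_conjChar]; exact ha _ (hc η hη))
          | (rw [← conjChar_conjChar]; exact hc _ (ha η hη)) }
  let T : Subgroup G := { S with inv_mem' := fun {g} hg => hpow S g hg }
  have hmemT : ∀ g, g ∈ T ↔ ∀ η ∈ b, conjChar 𝐋 g η ∈ b := fun g => Iff.rfl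
  have hT : ∀ g : G, g ∈ T ↔ (g ∈ Subgroup.normalizer (P : Set G) ∧ ∀ η ∈ b,
      ∀ η' : IrrCharacter 𝐋, (∀ h h' : 𝐋, (h' : G) = g * h * g⁻¹ →
        (η' : 𝐋 → ℂ) h' = (η : 𝐋 → ℂ) h) → η' ∈ b) := by
    intro g
    have hN : g ∈ Subgroup.normalizer (P : Set G) := by
      rw [Subgroup.normalizer_eq_top P]; trivial
    constructor
    · intro hg
      refine ⟨hN, fun η hη η' h' => ?_⟩
      have hg' : g⁻¹ ∈ T := T.inv_mem hg
      rw [show η' = conjChar 𝐋 g⁻¹ η from Subtype.ext (funext fun n => by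
        rw [conjChar_apply]
        exact h' _ _ (by simp [mul_assoc]))]
      exact (hmemT _).1 hg' η hη
    · rintro ⟨-, hg⟩
      rw [← inv_inv g]
      refine T.inv_mem ((hmemT _).2 fun η hη => hg η hη _ fun h h' hh => ?_)
      rw [conjChar_apply]
      refine congrArg _ (Subtype.ext ?_)
      simp [hh, mul_assoc]
  have hrel : ¬ p ∣ 𝐋.relIndex T := (defect_of_stabilizer hM hP hbD hind T hT).1 hD
  have hI : H13.inertia 𝐋 (θ : 𝐋 → ℂ) ≤ T := fun t ht => by
    refine (hmemT t).2 fun η hη => ?_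
    have e1 : conjChar 𝐋 t θ = θ := Subtype.ext (funext fun n => by
      rw [conjChar_apply]
      exact congrFun ((H13.mem_inertia 𝐋).1 ht) n)
    refine (H20.mem_block_iff hind.1 hθb _).2 ?_
    have := sameBlock_conjChar 𝐋 t (H20.sameBlock_of_mem hind.1 hθb hη)
    rwa [e1] at this
  have hLI : 𝐋 ≤ H13.inertia 𝐋 (θ : 𝐋 → ℂ) := H13.le_inertia 𝐋 (H12.irr_isClassFunction θ)
  set I := H13.inertia 𝐋 (θ : 𝐋 → ℂ) with hIdef
  obtain ⟨r, hr⟩ := H12.IsCharacter.classInner_nat
    (H12.IsCharacter.res (H12.isCharacter_irr χ) 𝐋) (H12.isCharacter_irr θ)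
  have hcl := H13.clifford_degree 𝐋 χ.2 θ.2 hne
  rw [hr, H22.irr_one_eq_charDegree θ, H22.irr_one_eq_charDegree χ, ← hIdef, ← Nat.cast_mul,
    ← Nat.cast_mul, Nat.cast_inj] at hcl
  have hr0 : r ≠ 0 := fun h0 => hne (by rw [hr, h0, Nat.cast_zero])
  have hIL : (𝐋.relIndex I).factorization p = 0 := by
    refine Nat.factorization_eq_zero_of_not_dvd fun h => hrel (h.trans ?_)
    exact ⟨I.relIndex T, (Subgroup.relIndex_mul_relIndex 𝐋 I T hLI hI).symm⟩
  have h1 : 𝐋.index.factorization p = I.index.factorization p := by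
    rw [← Subgroup.relIndex_mul_index hLI, Nat.factorization_mul
      (by exact Subgroup.index_ne_zero_of_finite) Subgroup.index_ne_zero_of_finite,
      Finsupp.add_apply, hIL, zero_add]
  have h2 : P.index.factorization p =
      (P.subgroupOf 𝐋).index.factorization p + 𝐋.index.factorization p := by
    rw [← Subgroup.relIndex_mul_index hPL, Nat.factorization_mul
      (by exact Subgroup.index_ne_zero_of_finite) Subgroup.index_ne_zero_of_finite]
    rfl
  have h3 : (charDegree (χ : G → ℂ)).factorization p = r.factorization p +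
      I.index.factorization p + (charDegree (θ : 𝐋 → ℂ)).factorization p := by
    rw [hcl, Nat.factorization_mul (Nat.mul_ne_zero hr0 Subgroup.index_ne_zero_of_finite)
      (H22.charDegree_pos θ).ne', Nat.factorization_mul hr0 Subgroup.index_ne_zero_of_finite]
    rfl
  have h4 := H22.blockDefect_add_blockExp (p := p) hχ
  have h5 := H22.blockHeight_add_blockExp (p := p) hχ
  have hcard : Nat.card P = p ^ blockDefect p B := H22.card_isDefectGroup hM hB hD
  have h6 : (Nat.card G).factorization p = blockDefect p B + P.index.factorization p := by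
    rw [← P.card_mul_index, Nat.factorization_mul Nat.card_pos.ne'
      Subgroup.index_ne_zero_of_finite, hcard, hp.out.factorization_pow]
    simp
  omega

/-- **Reynolds**. -/
theorem reynolds (hM : IsPModular p M) {B : Set (IrrCharacter G)} (hB : IsPBlock M B) [P.Normal]
    (hD : IsDefectGroup p M B P) :
    (∀ a ∈ P, ∀ c ∈ P, a * c = c * a) ↔ ∀ χ ∈ B, blockHeight p B (χ : G → ℂ) = 0 := by
  refine ⟨fun h χ hχ => height_eq_zero_of_abelian hM hB hD h hχ, fun h => ?_⟩
  by_contra hne
  obtain ⟨χ, hχ, hpos⟩ := exists_height_pos_of_not_abelian hM hB hD hne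
  exact hpos.ne' (h χ hχ)

end H21
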