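import Cfsg.Agent.H21.Laradji
import Cfsg.Agent.H13.PermChar
import Cfsg.Agent.H20.DefectApps

/-!
Counting blocks when every block has defect zero or full defect and the classes of `p'`-length are
central up to their `p`-part: the blocks of full defect correspond to the characters of the centre.
-/

set_option autoImplicit false
set_option linter.unusedSectionVars false
set_option linter.style.haveILetI false

namespace H21.BlockCount

open Cfsg
open scoped Classical ComplexConjugate

universe u

variable {G : Type u} [Group G] [Fintype G] {p : ℕ} {M : Ideal AlgInt} [hMp : M.IsPrime]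

/-- the value of the central character of `χ` on a central subgroup -/
noncomputable def eta (χ : IrrCharacter G) (Z : Subgroup G) : Z → ℂ :=
  fun z => (χ : G → ℂ) (z : G) / (χ : G → ℂ) 1

theorem eta_mul (χ : IrrCharacter G) {Z : Subgroup G} (hZ : Z ≤ Subgroup.center G) (z w : Z) :
    eta χ Z (z * w) = eta χ Z z * eta χ Z w := by
  simp only [eta, Subgroup.coe_mul]
  rw [apply_central_mul χ (hZ z.2) w]
  have := H12.irr_apply_one_ne_zero χ
  field_simp

/-- the central character as a homomorphism -/
noncomputable def etaHom (χ : IrrCharacter G) {Z : Subgroup G} (hZ : Z ≤ Subgroup.center G) :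
    Z →* ℂˣ :=
  MonoidHom.toHomUnits
    { toFun := eta χ Z
      map_one' := by
        simp only [eta, OneMemClass.coe_one]
        exact div_self (H12.irr_apply_one_ne_zero χ)
      map_mul' := eta_mul χ hZ }

theorem coe_etaHom (χ : IrrCharacter G) {Z : Subgroup G} (hZ : Z ≤ Subgroup.center G) (z : Z) :
    (etaHom χ hZ z : ℂ) = eta χ Z z := rfl

/-- Every character of a central `p'`-subgroup lies under an irreducible character of `p'`-degree. -/
theorem exists_over_eta (hp : p.Prime) {Z : Subgroup G} (hZ : Z ≤ Subgroup.center G)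
    (hZp : ¬ p ∣ Nat.card Z) (f : Z →* ℂˣ) :
    ∃ χ : IrrCharacter G, ¬ p ∣ H12.degree (χ : G → ℂ) ∧ etaHom χ hZ = f := by
  haveI := Fact.mk hp
  haveI : Fintype Z := Fintype.ofFinite _
  let U : Sylow p G := default
  haveI : Fintype (G ⧸ (U : Subgroup G)) := Fintype.ofFinite _
  set π := (permRep ℂ G (G ⧸ (U : Subgroup G))).character with hπ
  obtain ⟨m, hm⟩ := H12.IsCharacter.exists_mult (H12.isCharacter_character
    (permRep ℂ G (G ⧸ (U : Subgroup G))))
  have hval : ∀ z : Z, π (z : G) = if z = 1 then (Nat.card (G ⧸ (U : Subgroup G)) : ℂ) else 0 := by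
    intro z
    rw [hπ, ← H13.permChar_eq]
    show (Nat.card (MulAction.fixedBy (G ⧸ (U : Subgroup G)) (z : G)) : ℂ) = _
    split_ifs with h
    · subst h
      rw [Nat.card_congr (Equiv.subtypeUnivEquiv fun x => by
        show ((1 : Z) : G) • x = x
        simp)]
    · rw [Nat.cast_eq_zero, Nat.card_eq_zero]
      left
      constructor
      rintro ⟨x, hx⟩
      induction x using QuotientGroup.induction_on with | _ a => ?_
      change (z : G) • (a : G ⧸ (U : Subgroup G)) = _ at hx
      rw [MulAction.Quotient.smul_coe, smul_eq_mul, QuotientGroup.eq] at hx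
      have hzU : ((z : G))⁻¹ ∈ (U : Subgroup G) := by
        have e : ((z : G) * a)⁻¹ * a = (z : G)⁻¹ := by
          rw [← Subgroup.mem_center_iff.1 (hZ z.2) a, _root_.mul_inv_rev, mul_assoc, inv_mul_cancel,
            mul_one]
        rwa [e] at hx
      have hzU' : (z : G) ∈ (U : Subgroup G) := inv_mem_iff.1 hzU
      obtain ⟨k, hk⟩ := IsPGroup.iff_orderOf.1 U.2 ⟨(z : G), hzU'⟩
      rw [Subgroup.orderOf_mk] at hk
      have hd := orderOf_dvd_natCard z
      rw [← Subgroup.orderOf_coe, hk] at hd
      rcases Nat.eq_zero_or_pos k with rfl | hk0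
      · rw [pow_zero, orderOf_eq_one_iff] at hk
        exact h (Subtype.ext hk)
      · exact hZp ((dvd_pow_self p hk0.ne').trans hd)
  have hsum : ∑ χ : IrrCharacter G, (m χ : ℂ) * (χ : G → ℂ) 1 *
      (∑ z : Z, eta χ Z z * (f z⁻¹ : ℂ)) = (Nat.card (G ⧸ (U : Subgroup G)) : ℂ) := by
    have h1 : ∑ z : Z, π (z : G) * (f z⁻¹ : ℂ) = (Nat.card (G ⧸ (U : Subgroup G)) : ℂ) := by
      simp only [hval, ite_mul, zero_mul, Finset.sum_ite_eq', Finset.mem_univ, if_true]
      simp
    rw [← h1]
    simp only [Finset.mul_sum]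
    rw [Finset.sum_comm]
    refine Finset.sum_congr rfl fun z _ => ?_
    have h2 : π (z : G) = ∑ χ : IrrCharacter G, (m χ : ℂ) * (χ : G → ℂ) (z : G) := by
      have := congrFun hm (z : G)
      simpa using this
    rw [h2, Finset.sum_mul]
    refine Finset.sum_congr rfl fun χ _ => ?_
    simp only [eta]
    have := H12.irr_apply_one_ne_zero χ
    field_simp
  have horth : ∀ χ : IrrCharacter G,
      (∑ z : Z, eta χ Z z * (f z⁻¹ : ℂ)) = if etaHom χ hZ = f then (Nat.card Z : ℂ) else 0 := by
    intro χ
    let g : Z →* ℂˣ := etaHom χ hZ * f⁻¹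
    have e : ∀ z : Z, eta χ Z z * (f z⁻¹ : ℂ) = (g z : ℂ) := fun z => by
      simp [g, coe_etaHom]
    simp only [e]
    split_ifs with h
    · have hg : g = 1 := MonoidHom.ext fun z => by simp [g, h]
      simp [hg, Nat.card_eq_fintype_card]
    · have hg : g ≠ 1 := fun e' => h (MonoidHom.ext fun z => by
        have := DFunLike.congr_fun e' z
        simpa [g, mul_inv_eq_one] using this)
      obtain ⟨a, ha⟩ : ∃ a, g a ≠ 1 := by
        by_contra hne
        push Not at hne
        exact hg (MonoidHom.ext hne)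
      have h3 : (g a : ℂ) * ∑ z : Z, (g z : ℂ) = ∑ z : Z, (g z : ℂ) := by
        rw [Finset.mul_sum]
        exact Fintype.sum_equiv (Equiv.mulLeft a) _ _ fun z => by simp
      by_contra hne
      apply ha
      exact Units.ext (mul_right_cancel₀ hne (by rw [h3, Units.val_one, one_mul]))
  by_contra hno
  push Not at hno
  refine U.not_dvd_index ?_
  rw [Subgroup.index_eq_card]
  have hnat : Nat.card Z * ∑ χ : IrrCharacter G,
      (if etaHom χ hZ = f then m χ * H12.degree (χ : G → ℂ) else 0) =
      Nat.card (G ⧸ (U : Subgroup G)) := by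
    apply Nat.cast_injective (R := ℂ)
    rw [← hsum, Nat.cast_mul, Nat.cast_sum, Finset.mul_sum]
    refine Finset.sum_congr rfl fun χ _ => ?_
    rw [horth χ]
    split_ifs <;> simp [H12.irr_apply_one, mul_comm]
  rw [← hnat]
  refine dvd_mul_of_dvd_right (Finset.dvd_sum fun χ _ => ?_) _
  split_ifs with h
  · exact dvd_mul_of_dvd_right (by
      by_contra hd
      exact hno χ hd h) _
  · exact dvd_zero p

/-- Two characters of `p'`-degree with the same central character lie in the same block, if every
class of `p'`-length has central `p'`-part. -/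
theorem sameBlock_of_eta (hM : IsPModular p M) {Z : Subgroup G}
    (hcen : ∀ g : G, ¬ p ∣ (Subgroup.centralizer ({g} : Set G)).index → H20.qPart p g ∈ Z)
    {χ ψ : IrrCharacter G} (hχ : ¬ p ∣ H12.degree (χ : G → ℂ))
    (hψ : ¬ p ∣ H12.degree (ψ : G → ℂ)) (h : eta χ Z = eta ψ Z) :
    SameBlock M (χ : G → ℂ) (ψ : G → ℂ) := by
  intro g
  by_cases hg : p ∣ (Subgroup.centralizer ({g} : Set G)).index
  · have key : ∀ φ : IrrCharacter G, ¬ p ∣ H12.degree (φ : G → ℂ) →
        MemLocalIdeal M (centralChar (φ : G → ℂ) g) := by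
      intro φ hφ
      have e : centralChar (φ : G → ℂ) g = ((H12.degree (φ : G → ℂ) : ℂ)⁻¹ * (φ : G → ℂ) g) *
          ((Subgroup.centralizer ({g} : Set G)).index : ℂ) := by
        rw [centralChar, H12.irr_apply_one]; ring
      rw [e]
      exact H20.memIdeal_mul (H20.memRing_mul (H20.inv_natCast_memRing hM hφ) (H20.memRing_irr φ g))
        ((H20.natCast_memIdeal_iff hM _).2 hg)
    have h2 := H20.memIdeal_mul (H20.memRing_neg (H20.memRing_natCast 1)) (key ψ hψ)
    have h3 := H20.memIdeal_add (key χ hχ) h2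
    convert h3 using 1
    push_cast
    ring
  · set z : Z := ⟨H20.qPart p g, hcen g hg⟩ with hz
    have key : ∀ φ : IrrCharacter G, ¬ p ∣ H12.degree (φ : G → ℂ) →
        MemLocalIdeal M (centralChar (φ : G → ℂ) g -
          ((Subgroup.centralizer ({g} : Set G)).index : ℂ) * eta φ Z z) := by
      intro φ hφ
      have h2 : MemLocalIdeal M ((φ : G → ℂ) g - (φ : G → ℂ) (H20.qPart p g)) :=
        (H20.redC_eq_iff (H20.memRing_irr φ g) (H20.memRing_irr φ _)).1 (H20.redC_irr_qPart hM φ g)
      have h3 := H20.memIdeal_mul (H20.memRing_mul (H20.memRing_natCast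
        (Subgroup.centralizer ({g} : Set G)).index) (H20.inv_natCast_memRing hM hφ)) h2
      convert h3 using 1
      rw [centralChar, eta, H12.irr_apply_one]
      ring
    have h2 := H20.memIdeal_mul (H20.memRing_neg (H20.memRing_natCast 1)) (key ψ hψ)
    have h3 := H20.memIdeal_add (key χ hχ) h2
    convert h3 using 1
    rw [h]
    push_cast
    ring

theorem eta_of_sameBlock (hM : IsPModular p M) {Z : Subgroup G} (hZ : Z ≤ Subgroup.center G)
    (hZp : ¬ p ∣ Nat.card Z) {χ ψ : IrrCharacter G} (h : SameBlock M (χ : G → ℂ) (ψ : G → ℂ)) :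
    etaHom χ hZ = etaHom ψ hZ := by
  refine MonoidHom.ext fun z => Units.ext ?_
  have hidx : (Subgroup.centralizer ({(z : G)} : Set G)).index = 1 := by
    rw [Subgroup.index_eq_one, eq_top_iff]
    exact fun x _ => Subgroup.mem_centralizer_singleton_iff.2 (Subgroup.mem_center_iff.1 (hZ z.2) x)
  have e : ∀ φ : IrrCharacter G, centralChar (φ : G → ℂ) (z : G) = eta φ Z z := fun φ => by
    rw [centralChar, hidx, eta, Nat.cast_one, one_mul]
  have hroot : ∀ φ : IrrCharacter G, eta φ Z z ^ Nat.card Z = 1 := fun φ => by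
    rw [← coe_etaHom φ hZ, ← Units.val_pow_eq_pow_val, ← map_pow, pow_card_eq_one', map_one,
      Units.val_one]
  have h1 := h (z : G)
  rw [e, e] at h1
  rw [coe_etaHom, coe_etaHom]
  exact H20.eq_of_pow_eq_one hM hZp (hroot χ) (hroot ψ) h1

theorem exists_not_dvd_of_full (hp : p.Prime) {B : Set (IrrCharacter G)} (hne : B.Nonempty)
    (hfull : blockDefect p B = (Nat.card G).factorization p) (hpos : p ∣ Nat.card G) :
    ∃ χ ∈ B, ¬ p ∣ H12.degree (χ : G → ℂ) := by
  obtain ⟨χ, hχ, he⟩ := Nat.sInf_mem
    (Set.Nonempty.image (fun χ : IrrCharacter G => (charDegree (χ : G → ℂ)).factorization p) hne)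
  refine ⟨χ, hχ, fun hd => ?_⟩
  have h1 := hp.factorization_pos_of_dvd (H12.irr_degree_pos χ).ne' hd
  have h0 := hp.factorization_pos_of_dvd Nat.card_pos.ne' hpos
  rw [blockDefect] at hfull
  have he' : (H12.degree (χ : G → ℂ)).factorization p =
      sInf ((fun χ : IrrCharacter G => (charDegree (χ : G → ℂ)).factorization p) '' B) := he
  omega

/-- The number of blocks is the order of the centre plus one. -/
theorem card_blocks_eq (hM : IsPModular p M) (hpos : p ∣ Nat.card G)
    (hdich : ∀ B : Set (IrrCharacter G), IsPBlock M B →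
      blockDefect p B = 0 ∨ blockDefect p B = (Nat.card G).factorization p)
    (hzero : Nat.card {B : Set (IrrCharacter G) // IsPBlock M B ∧ blockDefect p B = 0} = 1)
    {Z : Subgroup G} (hZ : Z ≤ Subgroup.center G) (hZp : ¬ p ∣ Nat.card Z)
    (hcen : ∀ g : G, ¬ p ∣ (Subgroup.centralizer ({g} : Set G)).index → H20.qPart p g ∈ Z) :
    Nat.card {B : Set (IrrCharacter G) // IsPBlock M B} = Nat.card Z + 1 := by
  have hp := hM.1
  haveI : Fintype Z := Fintype.ofFinite _
  choose χ hχd hχe using exists_over_eta hp hZ hZp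
  have hfullblock : ∀ f, blockDefect p (blockOf M (χ f : G → ℂ)) = (Nat.card G).factorization p := by
    intro f
    rw [blockDefect]
    have : sInf ((fun χ : IrrCharacter G => (charDegree (χ : G → ℂ)).factorization p) ''
        blockOf M (χ f : G → ℂ)) = 0 := by
      refine Nat.eq_zero_of_le_zero ((Nat.sInf_le (Set.mem_image_of_mem _ (H20.mem_blockOf_self (χ f)))).trans ?_)
      exact (Nat.factorization_eq_zero_of_not_dvd (hχd f)).le
    rw [this, Nat.sub_zero]
  let e : (Z →* ℂˣ) → {B : Set (IrrCharacter G) // IsPBlock M B ∧ ¬ blockDefect p B = 0} :=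
    fun f => ⟨blockOf M (χ f : G → ℂ), H20.isPBlock_blockOf _, by
      rw [hfullblock f]
      exact (hp.factorization_pos_of_dvd Nat.card_pos.ne' hpos).ne'⟩
  have he : Function.Bijective e := by
    constructor
    · intro f f' h
      have hs : χ f' ∈ blockOf M (χ f : G → ℂ) := by
        rw [show blockOf M (χ f : G → ℂ) = blockOf M (χ f' : G → ℂ) from congrArg Subtype.val h]
        exact H20.mem_blockOf_self _
      rw [← hχe f, ← hχe f']
      exact eta_of_sameBlock hM hZ hZp hs
    · rintro ⟨B, hB, hB0⟩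
      obtain ⟨ψ, hψB, hψd⟩ := exists_not_dvd_of_full hp (H20.block_nonempty hB)
        ((hdich B hB).resolve_left hB0) hpos
      refine ⟨etaHom ψ hZ, Subtype.ext ?_⟩
      show blockOf M (χ (etaHom ψ hZ) : G → ℂ) = B
      rw [H20.block_eq_blockOf hB hψB]
      refine H20.blockOf_eq_blockOf (sameBlock_of_eta hM hcen (hχd _) hψd ?_)
      funext z
      rw [← coe_etaHom _ hZ, hχe, coe_etaHom]
  have hne := Nat.card_congr (Equiv.ofBijective e he)
  haveI : Finite {B : Set (IrrCharacter G) // IsPBlock M B} := inferInstance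
  have hsplit : Nat.card {B : Set (IrrCharacter G) // IsPBlock M B} =
      Nat.card {B : Set (IrrCharacter G) // IsPBlock M B ∧ blockDefect p B = 0} +
      Nat.card {B : Set (IrrCharacter G) // IsPBlock M B ∧ ¬ blockDefect p B = 0} := by
    rw [← Nat.card_sum]
    exact Nat.card_congr (((Equiv.sumCongr (Equiv.subtypeSubtypeEquivSubtypeInter _ _).symm
      (Equiv.subtypeSubtypeEquivSubtypeInter _ _).symm).trans (Equiv.sumCompl
        (fun B : {B : Set (IrrCharacter G) // IsPBlock M B} => blockDefect p B.1 = 0))).symm)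
  have hcard : Nat.card (Z →* ℂˣ) = Nat.card Z := by
    rw [H12.card_monoidHom_units]
    have : commutator Z = ⊥ := by
      rw [commutator_eq_closure, Subgroup.closure_eq_bot_iff]
      rintro _ ⟨a, b, rfl⟩
      exact commutatorElement_eq_one_iff_mul_comm.2 (Subtype.ext (Subgroup.mem_center_iff.1 (hZ b.2) a))
    rw [this, Subgroup.index_bot]
  rw [hsplit, hzero, ← hne, hcard, add_comm]

end H21.BlockCount
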