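import Cfsg.Agent.H22.SLDefectGroup
import Cfsg.Agent.H37.Card
import Cfsg.Agent.H37.Sylow
import Cfsg.Agent.H21.BlockCount

/-!
In `SL_n` a class of `p'`-length has central `p'`-part.
-/

set_option autoImplicit false
set_option linter.unusedSectionVars false

namespace H21

open Cfsg Matrix H22.SLDefect

variable {n : ℕ} {F : Type*} [Field F] [Fintype F] {p : ℕ} [Fact p.Prime] [CharP F p]

theorem dvd_card_SL (hn : 2 ≤ n) : p ∣ Nat.card (Matrix.SpecialLinearGroup (Fin n) F) := by
  refine dvd_trans ?_ (Subgroup.card_subgroup_dvd_card (H37.unitriangularSL n F))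
  rw [H37.card_unitriangularSL, Nat.card_eq_fintype_card]
  obtain ⟨k, -, hk⟩ := FiniteField.card F p
  rw [hk, ← pow_mul]
  refine dvd_pow_self p (Nat.mul_ne_zero k.ne_zero ?_)
  exact (Nat.choose_pos hn).ne'

theorem qPart_central_SL (hn : 2 ≤ n) (g : Matrix.SpecialLinearGroup (Fin n) F)
    (hg : ¬ p ∣ (Subgroup.centralizer ({g} : Set (Matrix.SpecialLinearGroup (Fin n) F))).index) :
    H20.qPart p g ∈ Subgroup.center (Matrix.SpecialLinearGroup (Fin n) F) := by
  classical
  set C := Subgroup.centralizer ({g} : Set (Matrix.SpecialLinearGroup (Fin n) F))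
  obtain ⟨Q, hQ⟩ : ∃ Q : Sylow p C, True := ⟨default, trivial⟩
  let S : Subgroup (Matrix.SpecialLinearGroup (Fin n) F) := (Q : Subgroup C).map C.subtype
  have hSp : IsPGroup p S := Q.2.map _
  have hSidx : ¬ p ∣ S.index := by
    rw [show S.index = (Q : Subgroup C).index * C.index from Subgroup.index_map_subtype _]
    exact fun h => ((Fact.out : p.Prime).dvd_mul.1 h).elim Q.not_dvd_index hg
  let P : Sylow p (Matrix.SpecialLinearGroup (Fin n) F) := hSp.toSylow hSidx
  have hPS : (P : Subgroup (Matrix.SpecialLinearGroup (Fin n) F)) = S := rfl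
  have hS1 : S ≠ ⊥ := by
    intro h
    rw [h, Subgroup.index_bot] at hSidx
    exact hSidx (dvd_card_SL hn)
  set W := fixSpace S with hW
  have hW0 : W ≠ ⊥ := fixSpace_ne_bot (p := p) (by omega) hSp
  have hW1 : W ≠ ⊤ := by
    intro h
    refine hS1 (eq_bot_iff.2 fun d hd => Subgroup.mem_bot.2 (Subtype.ext ?_))
    refine Matrix.ext_of_mulVec_single fun j => ?_
    show d.1 *ᵥ Pi.single j 1 = (1 : Matrix.SpecialLinearGroup (Fin n) F).1 *ᵥ Pi.single j 1
    rw [mv_one]
    exact (show Pi.single j 1 ∈ W from h ▸ Submodule.mem_top) d hd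
  have hRS : (radical W : Subgroup (Matrix.SpecialLinearGroup (Fin n) F)) ≤ S := by
    have hsup : IsPGroup p ((radical W : Subgroup (Matrix.SpecialLinearGroup (Fin n) F)) ⊔ S : Subgroup _) :=
      IsPGroup.to_sup_of_normal_left' (isPGroup_radical p W) hSp
        ((Subgroup.le_normalizer).trans (normalizer_le S))
    have := P.3 hsup (hPS ▸ le_sup_right)
    rw [hPS] at this
    exact le_sup_left.trans this.le
  set y := H20.qPart p g with hy
  have hyS : y ∈ Subgroup.centralizer (S : Set (Matrix.SpecialLinearGroup (Fin n) F)) := by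
    rw [Subgroup.mem_centralizer_iff]
    rintro s ⟨c, -, rfl⟩
    exact Subgroup.mem_centralizer_singleton_iff.1 (H20.centralizer_le_centralizer_qPart g c.2)
  obtain ⟨c, hc, hc1, hc2⟩ := centralizer_radical hW0 hW1
    (Subgroup.centralizer_le (SetLike.coe_subset_coe.2 hRS) hyS)
  have hgp : y.1 ^ p = c ^ p • (1 : Matrix (Fin n) (Fin n) F) := by
    have h := pow_p_eq_one (p := p) (W := W) (x := c⁻¹ • y.1)
      (fun w hw => by rw [smul_mulVec, hc1 w hw, inv_smul_smul₀ hc])
      (fun v => by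
        have := W.smul_mem c⁻¹ (hc2 v)
        rwa [smul_sub, inv_smul_smul₀ hc, ← smul_mulVec] at this)
    rw [smul_pow] at h
    rw [← h, smul_smul, inv_pow, mul_inv_cancel₀ (pow_ne_zero _ hc), one_smul]
  obtain ⟨e, he⟩ : ∃ e : ℕ, (y ^ p) ^ e = y :=
    exists_pow_eq_self_of_coprime (((Fact.out : p.Prime).coprime_iff_not_dvd).2
      (H20.not_dvd_orderOf_qPart g))
  rw [Subgroup.mem_center_iff]
  intro x
  rw [← he]
  refine Subtype.ext ?_
  simp only [Matrix.SpecialLinearGroup.coe_mul, Matrix.SpecialLinearGroup.coe_pow]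
  rw [hgp, smul_pow, one_pow, mul_smul_comm, smul_mul_assoc, mul_one, one_mul]

end H21
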