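import Cfsg.Agent.H85.Cyclic.RepAux
import Cfsg.Agent.H85.Cyclic.Sep
import Cfsg.Agent.H20.PPart
import Mathlib.GroupTheory.Sylow
import Mathlib.LinearAlgebra.Eigenspace.Triangularizable

/-!
Brauer: over an algebraically closed field of characteristic `p` the simple modules of a finite group
are as many as its `p`-regular classes.
-/

set_option autoImplicit false
set_option linter.unusedSectionVars false
set_option linter.style.haveILetI false
set_option maxHeartbeats 200000

open scoped MonoidAlgebra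
open H85.Cyc (subR quotR)

namespace H21.BC

universe u v w

/-- the `p`-regular classes -/
abbrev RegCl (p : ℕ) (G : Type u) [Group G] : Type u :=
  {c : ConjClasses G // ∃ g, ConjClasses.mk g = c ∧ ¬ p ∣ orderOf g}

section TraceSplit

variable {k : Type v} [Field k] {V : Type w} [AddCommGroup V] [Module k V] [FiniteDimensional k V]

/-- the trace splits along an invariant subspace -/
theorem trace_split (W : Submodule k V) (f : Module.End k V) (hf : ∀ x ∈ W, f x ∈ W) :
    LinearMap.trace k V f = LinearMap.trace k W (f.restrict hf) +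
      LinearMap.trace k (V ⧸ W) (W.mapQ W f fun x hx => hf x hx) := by
  obtain ⟨r, hr⟩ := LinearMap.exists_leftInverse_of_injective W.subtype W.ker_subtype
  obtain ⟨s₀, hs₀⟩ := LinearMap.exists_rightInverse_of_surjective W.mkQ W.range_mkQ
  set s : (V ⧸ W) →ₗ[k] V := (LinearMap.id - W.subtype ∘ₗ r) ∘ₗ s₀ with hs
  have h1 : ∀ w : W, r (w : V) = w := fun w => LinearMap.congr_fun hr w
  have h0 : ∀ z, W.mkQ (s₀ z) = z := fun z => LinearMap.congr_fun hs₀ z
  have h2 : ∀ z, W.mkQ (s z) = z := fun z => by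
    simp only [hs, LinearMap.comp_apply, LinearMap.sub_apply, LinearMap.id_apply, Submodule.subtype_apply, map_sub]
    rw [h0, (W.mkQ.map_coe_ker ⟨_, (Submodule.ker_mkQ W).symm ▸ (r (s₀ z)).2⟩ : W.mkQ (r (s₀ z) : V) = 0), sub_zero]
  have h3 : W.subtype ∘ₗ r + s ∘ₗ W.mkQ = LinearMap.id := LinearMap.ext fun v => by
    have hmem : v - s₀ (W.mkQ v) ∈ W := by
      rw [← Submodule.Quotient.eq]
      exact (h0 (W.mkQ v)).symm
    have h4 := h1 ⟨_, hmem⟩
    have h5 : ((r v : W) : V) - r (s₀ (W.mkQ v)) = v - s₀ (W.mkQ v) := by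
      rw [← Submodule.coe_sub, ← map_sub]
      exact congrArg Subtype.val h4
    simp only [hs, LinearMap.add_apply, LinearMap.comp_apply, LinearMap.sub_apply, LinearMap.id_apply,
      Submodule.subtype_apply]
    linear_combination (norm := abel) h5
  have e1 : f ∘ₗ W.subtype = W.subtype ∘ₗ f.restrict hf := LinearMap.ext fun w => rfl
  have e2 : W.mkQ ∘ₗ f = (W.mapQ W f fun x hx => hf x hx) ∘ₗ W.mkQ := LinearMap.ext fun w => rfl
  calc LinearMap.trace k V f = LinearMap.trace k V (f ∘ₗ (W.subtype ∘ₗ r) + f ∘ₗ (s ∘ₗ W.mkQ)) := by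
        rw [← LinearMap.comp_add, h3, LinearMap.comp_id]
    _ = _ := by
        rw [map_add, ← LinearMap.comp_assoc r W.subtype f, e1, LinearMap.trace_comp_comm',
          ← LinearMap.comp_assoc W.mkQ s f, LinearMap.trace_comp_comm' W.mkQ (f ∘ₗ s)]
        congr 1
        · congr 1
          rw [← LinearMap.comp_assoc, hr, LinearMap.id_comp]
        · congr 1
          rw [← LinearMap.comp_assoc, e2, LinearMap.comp_assoc, show W.mkQ ∘ₗ s = LinearMap.id from LinearMap.ext h2,
            LinearMap.comp_id]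

end TraceSplit

variable {k : Type v} [Field k] [IsAlgClosed k] {G : Type u} [Group G] [Finite G]

/-- transport to `Fin n → k` -/
theorem exists_fin {V : Type w} [AddCommGroup V] [Module k V] [FiniteDimensional k V]
    (ρ : Representation k G V) [ρ.IsIrreducible] :
    ∃ σ : Representation k G (Fin (Module.finrank k V) → k), σ.IsIrreducible ∧
      ∃ e : V ≃ₗ[k] (Fin (Module.finrank k V) → k),
        (∀ g v, e (ρ g v) = σ g (e v)) ∧ ∀ a, LinearMap.trace k _ (σ.asAlgebraHom a) = LinearMap.trace k V (ρ.asAlgebraHom a) := by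
  let e : V ≃ₗ[k] (Fin (Module.finrank k V) → k) := (Module.finBasis k V).equivFun
  let σ : Representation k G (Fin (Module.finrank k V) → k) :=
    { toFun := fun g => e.conj (ρ g)
      map_one' := by rw [map_one]; exact LinearMap.ext fun x => by simp [LinearEquiv.conj_apply]
      map_mul' := fun g h => by
        rw [map_mul]; exact LinearMap.ext fun x => by simp [LinearEquiv.conj_apply] }
  have he : ∀ g v, e (ρ g v) = σ g (e v) := fun g v => by
    show _ = e.conj (ρ g) (e v)
    simp [LinearEquiv.conj_apply]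
  refine ⟨σ, ?_, e, he, fun a => ?_⟩
  · obtain ⟨v, hv⟩ := H85.Cyc.exists_ne_zero ρ
    refine H85.Cyc.isIrreducible_of σ ⟨e v, fun h => hv (e.map_eq_zero_iff.1 h)⟩ fun S hS => ?_
    rcases H85.Cyc.eq_bot_or_top ρ (S.comap e.toLinearMap) fun g x hx => by
      rw [Submodule.mem_comap] at hx ⊢
      rw [LinearEquiv.coe_coe, he]
      exact hS g _ hx with h | h
    · refine Or.inl (eq_bot_iff.2 fun x hx => ?_)
      have : e.symm x ∈ S.comap e.toLinearMap := by simpa using hx
      rw [h, Submodule.mem_bot] at this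
      simpa using congrArg e this
    · refine Or.inr (eq_top_iff.2 fun x _ => ?_)
      have : e.symm x ∈ S.comap e.toLinearMap := h ▸ Submodule.mem_top
      simpa using this
  · have : σ.asAlgebraHom a = e.conj (ρ.asAlgebraHom a) := LinearMap.ext fun x => by
      have key : ∀ v, e (ρ.asAlgebraHom a v) = σ.asAlgebraHom a (e v) := by
        induction a using MonoidAlgebra.induction_on with
        | of g => intro v; rw [Representation.asAlgebraHom_of, Representation.asAlgebraHom_of]; exact he g v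
        | add a b ha hb => intro v; simp [map_add, ha, hb]
        | smul c a ha => intro v; simp [map_smul, ha]
      simpa [LinearEquiv.conj_apply] using (key (e.symm x)).symm
    rw [this, LinearMap.trace_conj']

/-- An element with vanishing traces on the simple modules has vanishing traces against every endomorphism
of every module. -/
theorem trace_zero (a : k[G])
    (ha : ∀ (n : ℕ) (σ : Representation k G (Fin n → k)), σ.IsIrreducible →
      LinearMap.trace k _ (σ.asAlgebraHom a) = 0) :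
    ∀ (m : ℕ) (V : Type w) [AddCommGroup V] [Module k V] [FiniteDimensional k V]
      (ρ : Representation k G V) (φ : Module.End k V), Module.finrank k V = m →
      (∀ g, φ * ρ g = ρ g * φ) → LinearMap.trace k V (ρ.asAlgebraHom a * φ) = 0 := by
  intro m
  induction m using Nat.strong_induction_on with
  | _ m ih =>
  intro V _ _ _ ρ φ hm hc
  by_cases hV : ∃ v : V, v ≠ 0
  swap
  · push Not at hV
    rw [show ρ.asAlgebraHom a * φ = 0 from LinearMap.ext fun v => by simp [hV v], map_zero]
  haveI : Nontrivial V := ⟨⟨hV.choose, 0, hV.choose_spec⟩⟩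
  by_cases hirr : ∀ S : Submodule k V, (∀ g, ∀ v ∈ S, ρ g v ∈ S) → S = ⊥ ∨ S = ⊤
  · haveI := H85.Cyc.isIrreducible_of ρ hV hirr
    obtain ⟨c, rfl⟩ := H85.Cyc.eq_smul_of_commute ρ φ hc
    obtain ⟨σ, hσ, -, -, he⟩ := exists_fin ρ
    rw [mul_smul_comm, mul_one, map_smul, ← he, ha _ σ hσ, smul_zero]
  push Not at hirr
  obtain ⟨S, hS, hS0, hS1⟩ := hirr
  obtain ⟨W, hW, hW0, hW1, hWφ⟩ : ∃ W : Submodule k V, (∀ g, ∀ v ∈ W, ρ g v ∈ W) ∧ W ≠ ⊥ ∧ W ≠ ⊤ ∧
      ∀ v ∈ W, φ v ∈ W := by
    obtain ⟨μ, hμ⟩ := Module.End.exists_eigenvalue φ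
    by_cases hE : φ.eigenspace μ = ⊤
    · refine ⟨S, hS, hS0, hS1, fun v hv => ?_⟩
      have : v ∈ φ.eigenspace μ := hE ▸ Submodule.mem_top
      rw [Module.End.mem_eigenspace_iff.1 this]
      exact S.smul_mem μ hv
    · refine ⟨φ.eigenspace μ, fun g v hv => ?_, hμ, hE, fun v hv => ?_⟩
      · rw [Module.End.mem_eigenspace_iff] at hv ⊢
        rw [← Module.End.mul_apply, hc, Module.End.mul_apply, hv, map_smul]
      · rw [Module.End.mem_eigenspace_iff] at hv ⊢
        rw [hv, map_smul, hv]
  have hmem : ∀ x ∈ W, (ρ.asAlgebraHom a * φ) x ∈ W := fun x hx =>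
    H85.Cyc.asAlgebraHom_mem ρ W hW a (hWφ x hx)
  rw [trace_split W _ hmem]
  have e1 : (ρ.asAlgebraHom a * φ).restrict hmem = (subR ρ W hW).asAlgebraHom a * φ.restrict hWφ :=
    LinearMap.ext fun x => Subtype.ext (by
      rw [Module.End.mul_apply, H85.Cyc.coe_subR]
      rfl)
  have e2 : W.mapQ W (ρ.asAlgebraHom a * φ) (fun x hx => hmem x hx) =
      (quotR ρ W hW).asAlgebraHom a * W.mapQ W φ hWφ := Submodule.linearMap_qext _ (LinearMap.ext fun x => by
      simp [H85.Cyc.quotR_mk])
  rw [e1, e2, ih _ (hm ▸ Submodule.finrank_lt hW1) W _ _ rfl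
      (fun g => LinearMap.ext fun x => Subtype.ext (by exact LinearMap.congr_fun (hc g) (x : V))),
    ih _ (hm ▸ by
      have := Submodule.finrank_quotient_add_finrank W
      have : 0 < Module.finrank k W := by
        rw [Module.finrank_pos_iff]; exact Submodule.nontrivial_iff_ne_bot.2 hW0
      omega) (V ⧸ W) _ _ rfl
      (fun g => Submodule.linearMap_qext _ (LinearMap.ext fun x =>
        congrArg Submodule.Quotient.mk (LinearMap.congr_fun (hc g) x))),
    add_zero]

section Perm

theorem trace_funLeft {α : Type w} [Finite α] (f : α → α) :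
    LinearMap.trace k (α → k) (LinearMap.funLeft k k f) = (Nat.card {x // f x = x} : k) := by
  classical
  haveI := Fintype.ofFinite α
  rw [LinearMap.trace_eq_matrix_trace k (Pi.basisFun k α), Matrix.trace, Nat.card_eq_fintype_card,
    Fintype.card_subtype, ← Finset.sum_boole]
  refine Finset.sum_congr rfl fun x _ => ?_
  rw [Matrix.diag_apply, LinearMap.toMatrix_apply, Pi.basisFun_repr, Pi.basisFun_apply,
    LinearMap.funLeft_apply, Pi.single_apply]

end Perm

variable {p : ℕ} [hp : Fact p.Prime] [CharP k p]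

/-- Vanishing of all simple traces forces a combination of representatives of regular classes to be zero. -/
theorem coeff_eq_zero [Fintype (RegCl p G)] (rep : RegCl p G → G)
    (hrep : ∀ K, ConjClasses.mk (rep K) = K.1 ∧ ¬ p ∣ orderOf (rep K)) (c : RegCl p G → k)
    (ha : ∀ (n : ℕ) (σ : Representation k G (Fin n → k)), σ.IsIrreducible →
      ∑ K, c K * LinearMap.trace k _ (σ (rep K)) = 0) : c = 0 := by
  classical
  funext K₀
  show c K₀ = 0
  set g := rep K₀ with hg
  set C : Subgroup G := Subgroup.centralizer {g} with hC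
  obtain ⟨P⟩ : Nonempty (Sylow p C) := inferInstance
  set Q : Subgroup G := (P : Subgroup C).map C.subtype with hQ
  have hQC : ∀ q ∈ Q, q * g = g * q := by
    rintro _ ⟨⟨q, hq⟩, -, rfl⟩
    exact (Subgroup.mem_centralizer_singleton_iff.1 hq)
  have hR : ∀ a b : G, (QuotientGroup.leftRel Q) a b → ((a * g : G) : G ⧸ Q) = ((b * g : G) : G ⧸ Q) := by
    intro a b hab
    rw [QuotientGroup.leftRel_apply] at hab
    rw [QuotientGroup.eq, show (a * g)⁻¹ * (b * g) = g⁻¹ * ((a⁻¹ * b) * g) by group, hQC _ hab,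
      inv_mul_cancel_left]
    exact hab
  let R : G ⧸ Q → G ⧸ Q := Quotient.lift (fun a => ((a * g : G) : G ⧸ Q)) hR
  have hR' : ∀ a : G, R (a : G ⧸ Q) = ((a * g : G) : G ⧸ Q) := fun a => rfl
  have hRG : ∀ (x : G) (z : G ⧸ Q), R (x • z) = x • R z := fun x z => by
    induction z using QuotientGroup.induction_on with
    | _ a => rw [MulAction.Quotient.smul_coe, hR', hR', MulAction.Quotient.smul_coe, smul_eq_mul, smul_eq_mul, mul_assoc]
  let ρ : Representation k G (G ⧸ Q → k) :=
    { toFun := fun x => LinearMap.funLeft k k fun z => x⁻¹ • z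
      map_one' := LinearMap.ext fun f => funext fun z => by simp
      map_mul' := fun x y => LinearMap.ext fun f => funext fun z => by simp [mul_smul] }
  let φ : Module.End k (G ⧸ Q → k) := LinearMap.funLeft k k R
  have hc : ∀ x, φ * ρ x = ρ x * φ := fun x => LinearMap.ext fun f => funext fun z => by
    show f (x⁻¹ • R z) = f (R (x⁻¹ • z))
    rw [hRG]
  have h0 := trace_zero (∑ K, c K • MonoidAlgebra.of k G (rep K))
    (fun n σ hσ => by
      simp only [map_sum, map_smul, Representation.asAlgebraHom_of, smul_eq_mul]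
      exact ha n σ hσ) _ _ ρ φ rfl hc
  simp only [map_sum, map_smul, Representation.asAlgebraHom_of, Finset.sum_mul, smul_mul_assoc,
    smul_eq_mul] at h0
  have hfix : ∀ x : G, ¬ p ∣ orderOf x → ∀ y : G,
      (R (x⁻¹ • (y : G ⧸ Q)) = (y : G ⧸ Q) ↔ y⁻¹ * x * y = g) := by
    intro x hx y
    rw [MulAction.Quotient.smul_coe, smul_eq_mul, hR', QuotientGroup.eq]
    constructor
    · intro h
      set u := (x⁻¹ * y * g)⁻¹ * y with hu
      have e : y⁻¹ * x * y = g * u := by rw [hu]; group
      obtain ⟨j, hj⟩ : ∃ j, orderOf u = p ^ j := by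
        obtain ⟨v, hv, hvu⟩ := h
        obtain ⟨j, hj⟩ := (IsPGroup.iff_orderOf.1 P.2) ⟨v, hv⟩
        rw [Subgroup.orderOf_mk] at hj
        exact ⟨j, by rw [← hvu, orderOf_injective C.subtype C.subtype_injective]; exact hj⟩
      have hg' := (hrep K₀).2
      rw [← hg] at hg'
      have hcop : Nat.Coprime (orderOf g) (orderOf u) := by
        rw [hj]; exact ((hp.out.coprime_iff_not_dvd.2 hg').symm).pow_right j
      have hord := (Commute.orderOf_mul_eq_mul_orderOf_of_coprime (hQC u h).symm hcop)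
      rw [← e, show y⁻¹ * x * y = MulAut.conj y⁻¹ x by simp, MulEquiv.orderOf_eq] at hord
      rcases j with - | j
      · rw [pow_zero, orderOf_eq_one_iff] at hj
        rw [e, hj, mul_one]
      · exact absurd (hord ▸ (dvd_mul_of_dvd_right (hj ▸ dvd_pow_self p j.succ_ne_zero) _)) hx
    · intro h
      rw [show (x⁻¹ * y * g)⁻¹ * y = 1 by rw [← h]; group]
      exact one_mem _
  have hcount : ∀ K, LinearMap.trace k _ (ρ (rep K) * φ) =
      if K = K₀ then (Q.relIndex C : k) else 0 := by
    intro K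
    have e : ρ (rep K) * φ = LinearMap.funLeft k k fun z => R ((rep K)⁻¹ • z) := rfl
    rw [e, trace_funLeft]
    by_cases hK : K = K₀
    · subst hK
      rw [if_pos rfl]
      congr 1
      have hset : QuotientGroup.mk ⁻¹' {z : G ⧸ Q | R ((rep K)⁻¹ • z) = z} = (C : Set G) := by
        ext y
        rw [Set.mem_preimage, Set.mem_setOf_eq, ← hg, hfix g (hrep K).2 y, SetLike.mem_coe, hC,
          Subgroup.mem_centralizer_singleton_iff]
        constructor
        · intro h; calc y * g = y * (y⁻¹ * g * y) := by rw [h]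
            _ = g * y := by group
        · intro h; rw [mul_assoc, ← h, inv_mul_cancel_left]
      have h1 := QuotientGroup.card_preimage_mk Q {z : G ⧸ Q | R ((rep K)⁻¹ • z) = z}
      rw [hset] at h1
      have h2 : Nat.card Q * Q.relIndex C = Nat.card C := by
        rw [Subgroup.relIndex, ← Nat.card_congr (Subgroup.subgroupOfEquivOfLe (Subgroup.map_subtype_le _)).toEquiv]
        exact Subgroup.card_mul_index _
      exact Nat.eq_of_mul_eq_mul_left Nat.card_pos (h1.symm.trans h2.symm)
    · haveI : IsEmpty {z : G ⧸ Q // R ((rep K)⁻¹ • z) = z} := ⟨fun ⟨z, hz⟩ => by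
        obtain ⟨y, rfl⟩ := QuotientGroup.mk_surjective z
        refine hK (Subtype.ext ?_)
        rw [← (hrep K).1, ← (hrep K₀).1, ConjClasses.mk_eq_mk_iff_isConj, isConj_iff, ← hg]
        exact ⟨y⁻¹, by rw [inv_inv]; exact (hfix _ (hrep K).2 y).1 hz⟩⟩
      rw [if_neg hK, Nat.card_of_isEmpty, Nat.cast_zero]
  rw [Finset.sum_congr rfl fun K _ => congrArg _ (hcount K)] at h0
  simp only [mul_ite, mul_zero, Finset.sum_ite_eq', Finset.mem_univ, if_true] at h0
  refine (mul_eq_zero.1 h0).resolve_right ?_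
  intro h1
  apply P.not_dvd_index
  rw [CharP.cast_eq_zero_iff k p, Subgroup.relIndex,
    show Q.subgroupOf C = (P : Subgroup C) from Subgroup.comap_map_eq_self_of_injective C.subtype_injective _] at h1
  exact h1

omit hp [CharP k p] in
/-- separating elements for finitely many simple modules -/
theorem exists_delta {Ω : Type*} (n : Ω → ℕ) (ρ : ∀ ω, Representation k G (Fin (n ω) → k))
    (hirr : ∀ ω, (ρ ω).IsIrreducible)
    (hne : ∀ ω ω', ω ≠ ω' → ∀ T : (Fin (n ω') → k) →ₗ[k] (Fin (n ω) → k),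
      (∀ g w, T (ρ ω' g w) = ρ ω g (T w)) → T = 0) (ω₀ : Ω) (s : Finset Ω) (hs : ω₀ ∉ s) :
    ∃ a : k[G], (ρ ω₀).asAlgebraHom a = 1 ∧ ∀ ω ∈ s, (ρ ω).asAlgebraHom a = 0 := by
  classical
  induction s using Finset.induction with
  | empty => exact ⟨1, map_one _, by simp⟩
  | insert b t hb ih =>
    obtain ⟨a, ha, ha'⟩ := ih fun h => hs (Finset.mem_insert_of_mem h)
    haveI := hirr ω₀; haveI := hirr b
    obtain ⟨a₂, h1, h2⟩ := H85.Cyc.exists_sep (ρ ω₀) (ρ b)
      (hne ω₀ b fun e => hs (e ▸ Finset.mem_insert_self b t))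
    refine ⟨a * a₂, by rw [map_mul, ha, h1, one_mul], fun ω hω => ?_⟩
    rw [map_mul]
    rcases Finset.mem_insert.1 hω with rfl | hω
    · rw [h2, mul_zero]
    · rw [ha' ω hω, zero_mul]

/-- the trace only sees the `p'`-part -/
theorem trace_qPart {n : ℕ} (σ : Representation k G (Fin n → k)) (g : G) :
    LinearMap.trace k _ (σ g) = LinearMap.trace k _ (σ (H20.qPart p g)) := by
  haveI : CharP k[G] p := charP_of_injective_algebraMap (algebraMap k k[G]).injective p
  set x := MonoidAlgebra.of k G (H20.pPart p g) with hx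
  set y := MonoidAlgebra.of k G (H20.qPart p g) with hy
  obtain ⟨j, hj⟩ := H20.exists_orderOf_pPart (p := p) g
  have hnil : IsNilpotent (x - 1) := ⟨p ^ j, by
    rw [sub_pow_char_pow_of_commute p j (Commute.one_right x), one_pow, hx, ← map_pow, ← hj,
      pow_orderOf_eq_one, map_one, sub_self]⟩
  have hcomm : Commute (x - 1) y :=
    (((H20.commute_pPart_qPart g).map (MonoidAlgebra.of k G)).sub_left (Commute.one_left y))
  have h := (LinearMap.isNilpotent_trace_of_isNilpotent
    ((hcomm.isNilpotent_mul_right hnil).map σ.asAlgebraHom)).eq_zero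
  rw [sub_mul, one_mul, map_sub, map_sub, sub_eq_zero, hx, hy, ← map_mul, H20.pPart_mul_qPart,
    Representation.asAlgebraHom_of, Representation.asAlgebraHom_of] at h
  exact h

/-- Brauer's count -/
theorem card_eq {Ω : Type*} [Finite Ω] (n : Ω → ℕ) (ρ : ∀ ω, Representation k G (Fin (n ω) → k))
    (hirr : ∀ ω, (ρ ω).IsIrreducible)
    (hne : ∀ ω ω', ω ≠ ω' → ∀ T : (Fin (n ω') → k) →ₗ[k] (Fin (n ω) → k),
      (∀ g w, T (ρ ω' g w) = ρ ω g (T w)) → T = 0)
    (hall : ∀ (m : ℕ) (σ : Representation k G (Fin m → k)), σ.IsIrreducible →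
      ∃ ω, ∃ T : (Fin m → k) →ₗ[k] (Fin (n ω) → k), (∀ g w, T (σ g w) = ρ ω g (T w)) ∧ T ≠ 0) :
    Nat.card Ω = Nat.card (RegCl p G) := by
  classical
  haveI := Fintype.ofFinite Ω
  haveI : Finite (ConjClasses G) := Finite.of_surjective ConjClasses.mk Quotient.mk''_surjective
  haveI : Finite (RegCl p G) := Subtype.finite
  haveI := Fintype.ofFinite (RegCl p G)
  let rep : RegCl p G → G := fun K => K.2.choose
  have hrep : ∀ K, ConjClasses.mk (rep K) = K.1 ∧ ¬ p ∣ orderOf (rep K) := fun K => K.2.choose_spec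
  let Φ : k[G] →ₗ[k] (Ω → k) :=
    LinearMap.pi fun ω => LinearMap.trace k _ ∘ₗ (ρ ω).asAlgebraHom.toLinearMap
  have hΦ : ∀ g ω, Φ (MonoidAlgebra.of k G g) ω = LinearMap.trace k _ (ρ ω g) := fun g ω => by
    simp [Φ, Representation.asAlgebraHom_of]
  let Ψ : (RegCl p G → k) →ₗ[k] (Ω → k) :=
    Φ ∘ₗ Fintype.linearCombination k (fun K => MonoidAlgebra.of k G (rep K))
  have hΨ : ∀ c ω, Ψ c ω = ∑ K, c K * LinearMap.trace k _ (ρ ω (rep K)) := fun c ω => by
    show Φ (Fintype.linearCombination k (fun K => MonoidAlgebra.of k G (rep K)) c) ω = _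
    rw [Fintype.linearCombination_apply, map_sum, Finset.sum_apply]
    exact Finset.sum_congr rfl fun K _ => by rw [map_smul, Pi.smul_apply, hΦ, smul_eq_mul]
  have hinj : Function.Injective Ψ := by
    rw [← LinearMap.ker_eq_bot, LinearMap.ker_eq_bot']
    intro c hc
    refine coeff_eq_zero rep hrep c fun m σ hσ => ?_
    obtain ⟨ω, T, hT, hT0⟩ := hall m σ hσ
    haveI := hirr ω
    haveI := hσ
    let e := LinearEquiv.ofBijective T (H85.Cyc.bijective_of_hom (ρ ω) σ hT hT0)
    have htr : ∀ g, LinearMap.trace k _ (σ g) = LinearMap.trace k _ (ρ ω g) := fun g => by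
      rw [← LinearMap.trace_conj' (σ g) e]
      congr 1
      refine LinearMap.ext fun x => ?_
      obtain ⟨w, rfl⟩ := e.surjective x
      rw [LinearEquiv.conj_apply_apply, e.symm_apply_apply]
      exact hT g w
    simp only [htr]
    rw [← hΨ, hc]; rfl
  have hΦsurj : Function.Surjective Φ := by
    rw [← LinearMap.range_eq_top, eq_top_iff, ← (Pi.basisFun k Ω).span_eq, Submodule.span_le]
    rintro _ ⟨ω₀, rfl⟩
    haveI := hirr ω₀
    obtain ⟨a, ha, ha'⟩ := exists_delta n ρ hirr hne ω₀ (Finset.univ.erase ω₀) (Finset.notMem_erase ω₀ _)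
    obtain ⟨v, hv⟩ := H85.Cyc.exists_ne_zero (ρ ω₀)
    obtain ⟨i, -⟩ := Function.ne_iff.1 hv
    obtain ⟨b, hb⟩ := H85.Cyc.asAlgebraHom_surjective (ρ ω₀)
      ((LinearMap.proj i : (Fin (n ω₀) → k) →ₗ[k] k).smulRight (Pi.single i 1))
    refine ⟨a * b, funext fun ω => ?_⟩
    show LinearMap.trace k _ ((ρ ω).asAlgebraHom (a * b)) = _
    rw [map_mul, Pi.basisFun_apply]
    by_cases h : ω = ω₀
    · subst h
      rw [ha, one_mul, hb, LinearMap.trace_smulRight]
      simp
    · rw [ha' ω (Finset.mem_erase.2 ⟨h, Finset.mem_univ _⟩), zero_mul, map_zero, Pi.single_eq_of_ne h]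
  have hsurj : Function.Surjective Ψ := by
    rw [← LinearMap.range_eq_top, eq_top_iff]
    intro x _
    obtain ⟨a, rfl⟩ := hΦsurj x
    induction a using MonoidAlgebra.induction_on with
    | of g =>
      let K : RegCl p G := ⟨ConjClasses.mk (H20.qPart p g), _, rfl, H20.not_dvd_orderOf_qPart g⟩
      refine ⟨Pi.single K 1, funext fun ω => ?_⟩
      rw [hΨ, hΦ, trace_qPart (p := p) (ρ ω) g]
      obtain ⟨c, hc⟩ := isConj_iff.1 (ConjClasses.mk_eq_mk_iff_isConj.1 (hrep K).1)
      rw [Finset.sum_eq_single K (fun b _ hb => by rw [Pi.single_eq_of_ne hb, zero_mul])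
        (fun h => absurd (Finset.mem_univ K) h), Pi.single_eq_same, one_mul, ← hc, map_mul (ρ ω),
        LinearMap.trace_mul_comm, ← map_mul (ρ ω), ← mul_assoc, inv_mul_cancel, one_mul]
    | add a b ha hb => rw [map_add]; exact add_mem (ha trivial) (hb trivial)
    | smul r a ha => rw [map_smul]; exact Submodule.smul_mem _ r (ha trivial)
  have h := (LinearEquiv.ofBijective Ψ ⟨hinj, hsurj⟩).finrank_eq
  rw [Module.finrank_fintype_fun_eq_card, Module.finrank_fintype_fun_eq_card] at h
  rw [Nat.card_eq_fintype_card, Nat.card_eq_fintype_card, h]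

end H21.BC
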