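import Cfsg.Agent.H21.UWeight
import Cfsg.Agent.H14.Basic
import Cfsg.Agent.H12.Induction

/-!
An irreducible character of degree `|U|` that vanishes on `U \ 1` is the Steinberg character.
-/

set_option autoImplicit false
set_option linter.unusedSectionVars false
set_option linter.style.haveILetI false

namespace H21.DZUnique

open Cfsg
open H53 (RootGroupSys)
open H53.RootGroupSys
open H56 (toW)
open scoped Classical ComplexConjugate

variable {G : Type*} [Group G] [Fintype G]

/-- the vectors fixed by a subgroup -/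
def fixedBy {V : Type*} [AddCommGroup V] [Module ℂ V] (ρ : Representation ℂ G V) (H : Subgroup G) :
    Submodule ℂ V where
  carrier := {v | ∀ h ∈ H, ρ h v = v}
  add_mem' {a b} ha hb h hh := by rw [map_add, ha h hh, hb h hh]
  zero_mem' h _ := map_zero _
  smul_mem' c v hv h hh := by rw [map_smul, hv h hh]

theorem sum_character_eq {V : Type*} [AddCommGroup V] [Module ℂ V] [FiniteDimensional ℂ V]
    (ρ : Representation ℂ G V) (H : Subgroup G) [Fintype H] :
    ∑ h : H, ρ.character (h : G) = (Nat.card H : ℂ) * Module.finrank ℂ (fixedBy ρ H) := by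
  have hH : (Nat.card H : ℂ) ≠ 0 := Nat.cast_ne_zero.2 Nat.card_pos.ne'
  set A : Module.End ℂ V := (Nat.card H : ℂ)⁻¹ • ∑ h : H, ρ (h : G) with hA
  have hproj : LinearMap.IsProj (fixedBy ρ H) A := by
    constructor
    · intro v k hk
      rw [hA, LinearMap.smul_apply, map_smul, LinearMap.sum_apply, map_sum]
      congr 1
      refine Fintype.sum_equiv (Equiv.mulLeft (⟨k, hk⟩ : H)) _ _ fun h => ?_
      rw [← UW.rho_mul]
      rfl
    · intro v hv
      rw [hA, LinearMap.smul_apply, LinearMap.sum_apply,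
        Finset.sum_congr rfl fun (h : H) _ => hv (h : G) h.2, Finset.sum_const, Finset.card_univ,
        ← Nat.cast_smul_eq_nsmul ℂ, smul_smul, ← Nat.card_eq_fintype_card, inv_mul_cancel₀ hH, one_smul]
  have h := hproj.trace
  rw [hA, map_smul, map_sum, smul_eq_mul] at h
  rw [← h, ← mul_assoc, mul_inv_cancel₀ hH, one_mul]
  rfl

theorem classInner_fixedPointCharacter {V : Type*} [AddCommGroup V] [Module ℂ V] [FiniteDimensional ℂ V]
    (ρ : Representation ℂ G V) (H : Subgroup G) :
    classInner (fixedPointCharacter H) ρ.character = (Module.finrank ℂ (fixedBy ρ H) : ℂ) := by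
  haveI := Fintype.ofFinite H
  have e : fixedPointCharacter H = indFun H (fun _ => 1) := by
    funext g
    rw [H14.indFun_one_eq_fixed]
    rfl
  have hcl : IsClassFunction G ρ.character := fun g h => ρ.char_conj g h
  rw [e, H12.classInner_indFun H _ hcl, H12.classInner_def]
  simp only [one_mul, ← map_sum]
  rw [sum_character_eq ρ H, map_mul, Complex.conj_natCast, Complex.conj_natCast, ← mul_assoc,
    inv_mul_cancel₀ (Nat.cast_ne_zero.2 Nat.card_pos.ne'), one_mul]

variable {ι R : Type*} [Finite R] {S : RootGroupSys G ι R}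

/-- explicit rank-one data -/
structure RankOneData (S : RootGroupSys G ι R) where
  X : ι → G → G
  Hh : ι → G → G
  spec : ∀ i, ∀ x ∈ S.U (S.a i), x ≠ 1 → X i x ∈ S.U (S.a i) ∧ X i x ≠ 1 ∧ Hh i x ∈ S.H ∧
    ∃ x₂ ∈ S.U (S.a i), S.n i * x * (S.n i)⁻¹ = X i x * Hh i x * S.n i * x₂
  inj : ∀ i, Set.InjOn (X i) {x | x ∈ S.U (S.a i) ∧ x ≠ 1}
  one : ∀ i, ∃ x ∈ S.U (S.a i), x ≠ 1 ∧ Hh i x = 1
  gen : S.H ≤ Subgroup.closure
    {h | ∃ i, ∃ x ∈ S.U (S.a i), x ≠ 1 ∧ h = (S.n i)⁻¹ * Hh i x * S.n i}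

variable (hS : S.Axioms) (hsep : Sep S)

/-- what the rank-one analysis gives at `i` -/
def uT_eq (D : RankOneData S) {V : Type*} [AddCommGroup V] [Module ℂ V] (ρ : Representation ℂ G V)
    (v : V) (i : ι) : Prop :=
  UW.uT S ρ i v = -v ∧ ∀ x ∈ S.U (S.a i), x ≠ 1 →
    ρ ((S.n i)⁻¹ * D.Hh i x * S.n i) v = v

include hS hsep in
/-- `χ` is the Steinberg character. -/
theorem eq_bnSt [instS : Fintype (pair hS hsep).S]
    (huniq : ∀ w w' : H56.Weyl (pair hS hsep), IsTop _ w → IsTop _ w' → w = w')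
    {n₀ : (pair hS hsep).N} (htop : IsTop (pair hS hsep) (toW _ n₀)) (D : RankOneData S)
    (hirr : IsIrrCharacter G (bnSt (pair hS hsep))) (χ : IrrCharacter G)
    (hdeg : (χ : G → ℂ) 1 = (Nat.card S.Uplus : ℂ))
    (hvan : ∀ u ∈ S.Uplus, u ≠ 1 → (χ : G → ℂ) u = 0) :
    (χ : G → ℂ) = bnSt (pair hS hsep) := by
  obtain ⟨d, ρ, hρ, hχ⟩ := χ.2
  haveI := hρ
  haveI := Fintype.ofFinite S.Uplus
  have hd : d = Nat.card S.Uplus := by
    have h1 : ρ.character 1 = (Nat.card S.Uplus : ℂ) := by rw [hχ]; exact hdeg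
    rw [Representation.char_one] at h1
    simpa using h1
  -- the fixed line of `U`
  have hline : Module.finrank ℂ (fixedBy ρ S.Uplus) = 1 := by
    have h := sum_character_eq ρ S.Uplus
    rw [Finset.sum_eq_single (1 : S.Uplus), OneMemClass.coe_one, hχ, hdeg] at h
    · have h1 : (Module.finrank ℂ (fixedBy ρ S.Uplus) : ℂ) = 1 :=
        mul_left_cancel₀ (Nat.cast_ne_zero.2 (Nat.card_pos (α := S.Uplus)).ne') (h.symm.trans (mul_one _).symm)
      exact_mod_cast h1
    · intro u _ hu
      rw [hχ]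
      exact hvan u u.2 fun e => hu (Subtype.ext e)
    · intro h'; exact absurd (Finset.mem_univ _) h'
  obtain ⟨⟨v, hv⟩, hv0, hspan⟩ := finrank_eq_one_iff'.1 hline
  have hv0' : v ≠ 0 := fun e => hv0 (Subtype.ext e)
  have hscal : ∀ w, UW.UFix S ρ w → ∃ c : ℂ, w = c • v := fun w hw => by
    obtain ⟨c, hc⟩ := hspan ⟨w, hw⟩
    exact ⟨c, (congrArg Subtype.val hc).symm⟩
  have hU : UW.UFix S ρ v := hv
  have hH : UW.HEig S ρ v := fun h hh => hscal _ fun u hu => by
    rw [← UW.rho_mul, show u * h = h * (h⁻¹ * u * h) by group, UW.rho_mul,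
      hU _ (by simpa using H_conj_Uplus hS (inv_mem hh) hu)]
  have hT : UW.TEig S ρ v := fun i => hscal _ fun u hu => by
    haveI := Fintype.ofFinite (S.U (S.a i))
    obtain ⟨v', hv', x, hx, rfl⟩ := Uplus_split hS i hu
    rw [UW.uT_apply, map_sum]
    refine Fintype.sum_equiv (Equiv.mulLeft (⟨x, hx⟩ : S.U (S.a i))) _ _ fun y => ?_
    rw [← UW.rho_mul, Equiv.coe_mulLeft, Subgroup.coe_mul]
    have hy : (x * (y : G))⁻¹ * v' * (x * y) ∈ S.Uhat i := by
      simpa using Ua_conj_Uhat hS i (inv_mem (mul_mem hx y.2)) hv'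
    rw [show v' * x * ((y : G) * S.n i) = (x * y * S.n i) *
        ((S.n i)⁻¹ * ((x * (y : G))⁻¹ * v' * (x * y)) * S.n i) by group, UW.rho_mul,
      hU _ (Uhat_le_Uplus i (n_inv_conj_Uhat hS i hy))]
  -- the basis `u n₀ v`
  let fam : S.Uplus → (Fin d → ℂ) := fun u => ρ ((u : G) * (n₀ : G)) v
  have htopspan : ⊤ ≤ Submodule.span ℂ (Set.range fam) := by
    have hsub : ∀ g, ρ g v ∈ Submodule.span ℂ (Set.range fam) := fun g => by
      refine Submodule.span_mono ?_ (UW.rho_mem_span hS hsep hU hH huniq hT htop g)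
      rintro _ ⟨u, hu, rfl⟩
      exact ⟨⟨u, hu⟩, rfl⟩
    let Z : Subrepresentation ρ :=
      ⟨Submodule.span ℂ (Set.range fun g => ρ g v), fun g w hw => by
        have hle : (Submodule.span ℂ (Set.range fun g => ρ g v)).map (ρ g) ≤
            Submodule.span ℂ (Set.range fun g => ρ g v) := by
          rw [Submodule.map_span_le]
          rintro _ ⟨g', rfl⟩
          exact Submodule.subset_span ⟨g * g', UW.rho_mul ρ g g' v⟩
        exact hle ⟨w, hw, rfl⟩⟩
    rcases eq_bot_or_eq_top Z with hZ | hZ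
    · exfalso
      have : v ∈ Z.toSubmodule := Submodule.subset_span ⟨1, by simp⟩
      rw [hZ] at this
      exact hv0' ((Submodule.mem_bot (R := ℂ)).1 this)
    · intro w _
      have : w ∈ Z.toSubmodule := by rw [hZ]; trivial
      exact (Submodule.span_le.2 (by rintro _ ⟨g, rfl⟩; exact hsub g)) this
  have hli : LinearIndependent ℂ fam :=
    linearIndependent_of_top_le_span_of_card_eq_finrank htopspan (by
      rw [Module.finrank_fin_fun, hd, Nat.card_eq_fintype_card])
  -- the family `x n_i v`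
  have hlocal : ∀ i, LinearIndependent ℂ fun x : S.U (S.a i) => ρ ((x : G) * S.n i) v := by
    intro i
    obtain ⟨π₀, hπ₀⟩ := exists_acts hS (show (n₀ : G) ∈ S.N from n₀.2)
    have hneg : ¬ S.pos (π₀ (S.a i)) := H21.not_pos_of_isTop hS hsep hπ₀ htop i
    set n' := (n₀ : G) * (S.n i)⁻¹ with hn'
    have hπ' : S.Acts n' (π₀ * S.σ i) := by
      have h := acts_mul hπ₀ (acts_inv (acts_n hS i))
      rwa [sigma_inv hS] at h
    have hU' : ∀ x : S.U (S.a i), n' * (x : G) * n'⁻¹ ∈ S.Uplus := fun x =>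
      U_le_Uplus (UW.pos_of_up hS i hπ₀ hneg) (acts_conj_mem hπ' x.2)
    let emb : S.U (S.a i) → S.Uplus := fun x => ⟨_, hU' x⟩
    have hemb : Function.Injective emb := fun x y e => Subtype.ext (by
      simpa [emb] using congrArg Subtype.val e)
    refine LinearIndependent.of_comp (ρ n') ?_
    have e : ((ρ n') ∘ fun x : S.U (S.a i) => ρ ((x : G) * S.n i) v) = fam ∘ emb := by
      funext x
      simp only [Function.comp_apply, fam, emb, ← UW.rho_mul]
      congr 2
      rw [hn']; group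
    rw [e]
    exact hli.comp emb hemb
  have hrank : ∀ i, uT_eq D ρ v i := by
    intro i
    haveI := Fintype.ofFinite (S.U (S.a i))
    set f : S.U (S.a i) → (Fin d → ℂ) := fun x => ρ ((x : G) * S.n i) v with hf
    have hLI : LinearIndependent ℂ f := hlocal i
    obtain ⟨μ, hμ⟩ := hT i
    rw [UW.uT_apply] at hμ
    change ∑ x, f x = μ • v at hμ
    have hμ0 : μ ≠ 0 := fun e => by
      rw [e, zero_smul] at hμ
      exact one_ne_zero (Fintype.linearIndependent_iff.1 hLI (fun _ => (1 : ℂ)) (by simpa using hμ) 1)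
    obtain ⟨c₂, hc₂⟩ := hH _ (hS.n_sq i)
    have hc₂0 : c₂ ≠ 0 := UW.hEig_ne_zero hv0' hc₂
    have hν : ∀ x : S.U (S.a i), x ≠ 1 → ∃ c : ℂ,
        ρ ((S.n i)⁻¹ * D.Hh i x * S.n i) v = c • v := fun x hx =>
      hH _ (by
        simpa using UW.conj_mem_H hS hsep (inv_mem (n_mem_N (S := S) i))
          (D.spec i x x.2 fun e => hx (Subtype.ext e)).2.2.1)
    choose ν hν using hν
    let X' : {x : S.U (S.a i) // x ≠ 1} → {x : S.U (S.a i) // x ≠ 1} := fun x =>
      ⟨⟨D.X i x.1, (D.spec i x.1 x.1.2 fun e => x.2 (Subtype.ext e)).1⟩, fun e =>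
        (D.spec i x.1 x.1.2 fun e => x.2 (Subtype.ext e)).2.1 (congrArg Subtype.val e)⟩
    have hX' : Function.Bijective X' := Finite.injective_iff_bijective.1 fun x y e =>
      Subtype.ext (Subtype.ext (D.inj i ⟨x.1.2, fun e' => x.2 (Subtype.ext e')⟩
        ⟨y.1.2, fun e' => y.2 (Subtype.ext e')⟩ (congrArg (fun z => ((z.1 : S.U (S.a i)) : G)) e)))
    have hone : ρ (S.n i) (f 1) = c₂ • v := by
      rw [hf]
      simp only [OneMemClass.coe_one, one_mul]
      rw [← UW.rho_mul, hc₂]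
    have hne : ∀ x : {x : S.U (S.a i) // x ≠ 1},
        ρ (S.n i) (f x.1) = (c₂ * ν x.1 x.2) • f (X' x).1 := by
      intro x
      obtain ⟨h1, -, -, x₂, hx₂, e⟩ := D.spec i x.1 x.1.2 fun e => x.2 (Subtype.ext e)
      rw [hf]
      simp only [X']
      rw [← UW.rho_mul, show S.n i * ((x.1 : G) * S.n i) =
        (S.n i * x.1 * (S.n i)⁻¹) * (S.n i * S.n i) by group, e, UW.rho_mul, hc₂, map_smul,
        UW.rho_mul _ _ x₂, hU _ (U_le_Uplus (hS.pos_a i) hx₂),
        show D.X i x.1 * D.Hh i x.1 * S.n i = D.X i x.1 * S.n i *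
          ((S.n i)⁻¹ * D.Hh i x.1 * S.n i) by group, UW.rho_mul, hν x.1 x.2, map_smul, smul_smul]
    let e' := (Equiv.ofBijective X' hX').symm
    let g : S.U (S.a i) → ℂ := fun y => c₂ * μ⁻¹ +
      if hy : y = 1 then -μ else c₂ * ν (e' ⟨y, hy⟩).1 (e' ⟨y, hy⟩).2
    have hsum : ∑ y, g y • f y = 0 := by
      have h1 := congrArg (ρ (S.n i)) hμ
      rw [map_sum, map_smul, ← Finset.add_sum_erase _ _ (Finset.mem_univ (1 : S.U (S.a i))), hone,
        Finset.sum_subtype (Finset.univ.erase (1 : S.U (S.a i))) (p := fun x => x ≠ 1) (by simp),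
        Finset.sum_congr rfl fun x _ => hne x] at h1
      have hn1 : ρ (S.n i) v = f 1 := by simp [hf]
      have hv' : c₂ • v = ∑ y, (c₂ * μ⁻¹) • f y := by
        rw [← Finset.smul_sum, hμ, smul_smul, mul_assoc, inv_mul_cancel₀ hμ0, mul_one]
      rw [hn1, hv'] at h1
      have h2 : ∑ x : {x : S.U (S.a i) // x ≠ 1}, (c₂ * ν x.1 x.2) • f (X' x).1 =
          ∑ y : S.U (S.a i), (if hy : y = 1 then (0 : ℂ) else c₂ * ν (e' ⟨y, hy⟩).1 (e' ⟨y, hy⟩).2) • f y := by
        rw [← Finset.add_sum_erase _ _ (Finset.mem_univ (1 : S.U (S.a i))), dif_pos rfl, zero_smul,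
          zero_add, Finset.sum_subtype (Finset.univ.erase (1 : S.U (S.a i))) (p := fun x => x ≠ 1) (by simp)]
        refine Fintype.sum_equiv (Equiv.ofBijective X' hX') _ _ fun x => ?_
        rw [dif_neg (Equiv.ofBijective X' hX' x).2]
        simp only [e', Subtype.coe_eta, Equiv.symm_apply_apply]
        rfl
      have h3 : ∑ y : S.U (S.a i), (if y = 1 then μ else 0) • f y = μ • f 1 := by
        simp [ite_smul]
      rw [h2, ← h3, ← Finset.sum_add_distrib, ← sub_eq_zero, ← Finset.sum_sub_distrib] at h1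
      rw [← h1]
      refine Finset.sum_congr rfl fun y _ => ?_
      simp only [g]
      split_ifs with hy <;> module
    have hg := Fintype.linearIndependent_iff.1 hLI g hsum
    have hsq : c₂ * μ⁻¹ = μ := by
      have := hg 1
      simp only [g, dif_pos] at this
      linear_combination this
    have hν' : ∀ x (hx : x ≠ 1), ν x hx = -μ⁻¹ := by
      intro x hx
      have h := hg (X' ⟨x, hx⟩).1
      simp only [g, dif_neg (X' ⟨x, hx⟩).2] at h
      have he : e' ⟨(X' ⟨x, hx⟩).1, (X' ⟨x, hx⟩).2⟩ = ⟨x, hx⟩ :=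
        (Equiv.ofBijective X' hX').symm_apply_apply ⟨x, hx⟩
      rw [he] at h
      apply mul_left_cancel₀ hc₂0
      linear_combination h
    obtain ⟨x0, hx0, hx01, hh0⟩ := D.one i
    have hμ1 : μ = -1 := by
      have h1 := hν ⟨x0, hx0⟩ fun e => hx01 (congrArg Subtype.val e)
      rw [show D.Hh i ((⟨x0, hx0⟩ : S.U (S.a i)) : G) = 1 from hh0, mul_one, inv_mul_cancel, map_one,
        Module.End.one_apply, hν' _ _] at h1
      have h2 : ((1 : ℂ) + μ⁻¹) • v = 0 := by rw [add_smul, one_smul]; nth_rw 1 [h1]; module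
      have h3 := (smul_eq_zero.1 h2).resolve_right hv0'
      field_simp at h3
      linear_combination h3
    refine ⟨by rw [UW.uT_apply, hμ, hμ1, neg_one_smul], fun x hx hx1 => ?_⟩
    have := hν ⟨x, hx⟩ fun e => hx1 (congrArg Subtype.val e)
    rw [hν', hμ1] at this
    simpa using this
  have hH1 : ∀ h ∈ S.H, ρ h v = v := by
    intro h hh
    have hcl := D.gen hh
    clear hh
    induction hcl using Subgroup.closure_induction with
    | mem y hy =>
      obtain ⟨i, x, hx, hx1, rfl⟩ := hy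
      exact (hrank i).2 x hx hx1
    | one => simp
    | mul a b _ _ ha hb =>
      rw [UW.rho_mul]
      rw [hb, ha]
    | inv a _ ha => rw [← ha, ← UW.rho_mul, inv_mul_cancel, map_one]; exact ha.symm
  have hB : fixedBy ρ (par (pair hS hsep) (∅ : Set (pair hS hsep).S)) = fixedBy ρ S.Uplus := by
    have hpar : par (pair hS hsep) (∅ : Set (pair hS hsep).S) = S.B := by
      rw [par, Cfsg.BNPair.parabolic, Set.image_empty, Subgroup.closure_empty, sup_bot_eq]
      rfl
    rw [hpar]
    refine le_antisymm (fun w hw u hu => hw u (Uplus_le_B hu)) fun w hw b hb => ?_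
    obtain ⟨c, rfl⟩ := hscal w hw
    obtain ⟨u, hu, h, hh, rfl⟩ := mem_B hS hb
    rw [map_smul, UW.rho_mul, hH1 h hh, hU u hu]
  have hP : ∀ K : Finset (pair hS hsep).S, K.Nonempty →
      fixedBy ρ (par (pair hS hsep) (K : Set (pair hS hsep).S)) = ⊥ := by
    intro K hK
    obtain ⟨⟨_, i, rfl⟩, hi⟩ := hK
    haveI := Fintype.ofFinite (S.U (S.a i))
    rw [Submodule.eq_bot_iff]
    intro w hw
    have hwU : UW.UFix S ρ w := fun u hu => hw u (Subgroup.mem_sup_left (show u ∈ S.B from Uplus_le_B hu))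
    obtain ⟨c, rfl⟩ := hscal w hwU
    by_cases hc : c = 0
    · rw [hc, zero_smul]
    exfalso
    have hn : ρ (S.n i) v = v := by
      have h1 := hw (S.n i) (Subgroup.mem_sup_right (Subgroup.subset_closure ⟨_, Finset.mem_coe.2 hi, rfl⟩))
      rw [map_smul] at h1
      have := congrArg (fun z => c⁻¹ • z) h1
      simpa only [inv_smul_smul₀ hc] using this
    have h2 := (hrank i).1
    rw [UW.uT_apply, Finset.sum_congr rfl fun (x : S.U (S.a i)) _ => show ρ ((x : G) * S.n i) v = v by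
      rw [UW.rho_mul, hn, hU _ (U_le_Uplus (hS.pos_a i) x.2)], Finset.sum_const, Finset.card_univ,
      ← Nat.cast_smul_eq_nsmul ℂ] at h2
    have h3 : ((Fintype.card (S.U (S.a i)) : ℂ) + 1) • v = 0 := by
      rw [add_smul, h2, one_smul, neg_add_cancel]
    have h4 := (smul_eq_zero.1 h3).resolve_right hv0'
    norm_cast at h4
  have hinner : classInner (bnSt (pair hS hsep)) (χ : G → ℂ) = 1 := by
    rw [classInner_bnSt_left, Finset.sum_eq_single (∅ : Finset (pair hS hsep).S)]
    · rw [Finset.card_empty, pow_zero, one_mul, ← hχ, classInner_fixedPointCharacter, Finset.coe_empty,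
        hB, hline, Nat.cast_one]
    · intro K _ hK
      rw [← hχ, classInner_fixedPointCharacter, hP K (Finset.nonempty_iff_ne_empty.2 hK), finrank_bot,
        Nat.cast_zero, mul_zero]
    · intro h'; exact absurd (Finset.mem_univ _) h'
  have h := H12.classInner_irr (⟨_, hirr⟩ : IrrCharacter G) χ
  rw [show ((⟨_, hirr⟩ : IrrCharacter G) : G → ℂ) = bnSt (pair hS hsep) from rfl, hinner] at h
  by_contra hne
  rw [if_neg fun e => hne (congrArg Subtype.val e).symm] at h
  exact one_ne_zero h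

end H21.DZUnique
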