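import Cfsg.Agent.H21.DefectZeroBound
import Cfsg.Agent.H21.DefectZeroUnique
import Cfsg.Agent.H21.SteinbergChev
import Cfsg.Agent.H54.ChevSylow
import Cfsg.Agent.H24.DefectZero
import Cfsg.Agent.H22.ValueMod

/-!
The Steinberg character is the only character of defect zero of a Chevalley group.
-/

set_option autoImplicit false
set_option linter.unusedSectionVars false
set_option linter.style.haveILetI false

namespace H21.DZChev

open Cfsg Cfsg.Lie
open H53 (RootGroupSys ChevSys WeylFor)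
open H53.RootGroupSys
open scoped Classical

section ChevSys

variable {D : ChevalleyDatum} {F : Type*} [Field F] {G : Type*} [Group G] {W : WeylFor D}
  {X : ChevSys D F G}

/-- the parameter of a root element -/
noncomputable def param (X : ChevSys D F G) (r : Fin D.nroots) (g : G) : F :=
  Classical.epsilon fun t => g = X.x r t

theorem param_spec (hX : ChevSys.Rel W X) {r : Fin D.nroots} {g : G} (hg : g ∈ ChevSys.Usub X r) :
    g = X.x r (param X r g) :=
  Classical.epsilon_spec (p := fun t => g = X.x r t) ((ChevSys.mem_Usub hX).1 hg)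

variable (hX : ChevSys.Rel W X) (hinj : ∀ r, Function.Injective (X.x r))

/-- the constant of `n` on its root -/
noncomputable def cst (i : Fin D.rank) : F := (hX.conj_n i (ChevSys.sa W i)).choose

theorem cst_ne (i : Fin D.rank) : cst hX i ≠ 0 := (hX.conj_n i (ChevSys.sa W i)).choose_spec.1

theorem conj_eq (i : Fin D.rank) (t : F) :
    ChevSys.nEl W X i 1 * X.x (ChevSys.sa W i) t * (ChevSys.nEl W X i 1)⁻¹ =
      X.x (ChevSys.na W i) (cst hX i * t) := by
  have h := (hX.conj_n i (ChevSys.sa W i)).choose_spec.2 t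
  have e : W.data.act i (ChevSys.sa W i) = ChevSys.na W i := (ChevSys.axioms hX).sigma_a i
  rw [h, mul_inv_cancel_right]
  exact congrArg (fun r => X.x r (cst hX i * t)) e

include hX hinj in
theorem param_x (r : Fin D.nroots) (t : F) : param X r (X.x r t) = t :=
  (hinj r (param_spec hX ((ChevSys.mem_Usub hX).2 ⟨t, rfl⟩))).symm

include hX in
theorem param_ne {r : Fin D.nroots} {g : G} (hg : g ∈ ChevSys.Usub X r) (h1 : g ≠ 1) :
    param X r g ≠ 0 := fun e => h1 (by rw [param_spec hX hg, e, ChevSys.x_zero hX])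

/-- the rank-one data of a system of root elements -/
noncomputable def rankOneData : DZUnique.RankOneData (ChevSys.sys W X) where
  X i g := X.x (ChevSys.sa W i) (cst hX i * param X (ChevSys.sa W i) g)⁻¹
  Hh i g := ChevSys.hEl W X i (-(cst hX i * param X (ChevSys.sa W i) g)⁻¹)
  spec i g hg hg1 := by
    have hu : cst hX i * param X (ChevSys.sa W i) g ≠ 0 := mul_ne_zero (cst_ne hX i) (param_ne hX hg hg1)
    refine ⟨(ChevSys.mem_Usub hX).2 ⟨_, rfl⟩, fun e => inv_ne_zero hu (hinj _ (e.trans (ChevSys.x_zero hX _).symm)),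
      ChevSys.hEl_mem hX i (neg_ne_zero.2 (inv_ne_zero hu)),
      X.x (ChevSys.sa W i) (cst hX i * param X (ChevSys.sa W i) g)⁻¹, (ChevSys.mem_Usub hX).2 ⟨_, rfl⟩, ?_⟩
    have e : ChevSys.nEl W X i 1 * g * (ChevSys.nEl W X i 1)⁻¹ =
        X.x (ChevSys.na W i) (cst hX i * param X (ChevSys.sa W i) g) := by
      rw [← conj_eq hX i, ← param_spec hX (show g ∈ ChevSys.Usub X (ChevSys.sa W i) from hg)]
    show ChevSys.nEl W X i 1 * g * (ChevSys.nEl W X i 1)⁻¹ = _
    rw [e]
    generalize cst hX i * param X (ChevSys.sa W i) g = u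
    show _ = X.x (ChevSys.sa W i) u⁻¹ * ChevSys.hEl W X i (-u⁻¹) * ChevSys.nEl W X i 1 *
      X.x (ChevSys.sa W i) u⁻¹
    rw [mul_assoc (X.x (ChevSys.sa W i) u⁻¹) (ChevSys.hEl W X i (-u⁻¹)), ← ChevSys.nEl_eq hX,
      ChevSys.nEl, inv_neg, inv_inv, neg_neg, ← ChevSys.x_inv hX (ChevSys.sa W i) u⁻¹]
    group
  inj i := by
    rintro g ⟨hg, -⟩ g' ⟨hg', -⟩ e
    have h := mul_left_cancel₀ (cst_ne hX i) (inv_injective (hinj _ e))
    exact (param_spec hX hg).trans ((congrArg (X.x _) h).trans (param_spec hX hg').symm)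
  one i := by
    refine ⟨X.x (ChevSys.sa W i) (-(cst hX i)⁻¹), (ChevSys.mem_Usub hX).2 ⟨_, rfl⟩, fun e => ?_, ?_⟩
    · exact neg_ne_zero.2 (inv_ne_zero (cst_ne hX i)) (hinj _ (e.trans (ChevSys.x_zero hX _).symm))
    · rw [param_x hX hinj, mul_neg, mul_inv_cancel₀ (cst_ne hX i), inv_neg, inv_one, neg_neg, ChevSys.hEl,
        ChevSys.nEl_neg hX, mul_inv_cancel]
  gen := by
    show ChevSys.Hsub W X ≤ _
    refine (Subgroup.closure_le _).2 ?_
    rintro _ ⟨i, t, ht, rfl⟩
    set n := ChevSys.nEl W X i 1 with hn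
    set c := t ^ D.cartan i.val (ChevSys.sa W i).val with hc
    have hmem : ∀ s : F, s ≠ 0 → n⁻¹ * ChevSys.hEl W X i s * n ∈ Subgroup.closure
        {h : G | ∃ (j : Fin D.rank), ∃ x ∈ (ChevSys.sys W X).U ((ChevSys.sys W X).a j), x ≠ 1 ∧
          h = ((ChevSys.sys W X).n j)⁻¹ *
            ChevSys.hEl W X j (-(cst hX j * param X (ChevSys.sa W j) x)⁻¹) * (ChevSys.sys W X).n j} := by
      intro s hs
      refine Subgroup.subset_closure ⟨i, X.x (ChevSys.sa W i) (-(cst hX i)⁻¹ * s⁻¹),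
        (ChevSys.mem_Usub hX).2 ⟨_, rfl⟩, fun e => ?_, ?_⟩
      · exact mul_ne_zero (neg_ne_zero.2 (inv_ne_zero (cst_ne hX i))) (inv_ne_zero hs)
          (hinj _ (e.trans (ChevSys.x_zero hX _).symm))
      · rw [param_x hX hinj, ← mul_assoc, mul_neg, mul_inv_cancel₀ (cst_ne hX i), neg_one_mul, inv_neg,
          inv_inv, neg_neg]
        rfl
    have h1 := ChevSys.h_conj_n hX i i ht
    rw [ChevSys.nEl_eq hX i c] at h1
    have h2 : ChevSys.hEl W X i t =
        (n⁻¹ * ChevSys.hEl W X i c * n)⁻¹ * (n⁻¹ * ChevSys.hEl W X i t * n) := by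
      rw [← hn] at h1
      calc ChevSys.hEl W X i t
          = n⁻¹ * (ChevSys.hEl W X i c)⁻¹ * ((ChevSys.hEl W X i c * n) * ChevSys.hEl W X i t) := by group
        _ = n⁻¹ * (ChevSys.hEl W X i c)⁻¹ * (ChevSys.hEl W X i t * n) := by
            rw [← h1, inv_mul_cancel_right]
        _ = _ := by group
    rw [SetLike.mem_coe, h2]
    exact mul_mem (inv_mem (hmem c (zpow_ne_zero _ ht))) (hmem t ht)

end ChevSys

theorem steinberg_unique {D : ChevalleyDatum} {T : H52.Tables} {F : Type*} [Field F] [Fintype F]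
    (K : H52.BNData D T) (p : ℕ) [Fact p.Prime] [CharP F p] (χ : ↥(D.group F) → ℂ)
    (hχ : IsIrrCharacter ↥(D.group F) χ)
    (hdeg : ∃ d : ℕ, χ 1 = (d : ℂ) ∧ p ^ (Nat.card ↥(D.group F)).factorization p ∣ d) :
    χ = D.steinbergCharacter F := by
  haveI := Fintype.ofFinite ↥(D.group F)
  haveI instS : Fintype (K.pair F).S := Fintype.ofFinite _
  obtain ⟨n, hn⟩ := H21.exists_top (F := F) K
  have huniq := H21.top_unique (K.axioms' (F := F)) K.sep (H21.chev_hasc K)
  let χ' : IrrCharacter ↥(D.group F) := ⟨χ, hχ⟩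
  obtain ⟨d, hd, hpd⟩ := hdeg
  have hd' : charDegree (χ' : ↥(D.group F) → ℂ) = d := by
    show ⌊(χ 1).re⌋₊ = d
    rw [hd, Complex.natCast_re, Nat.floor_natCast]
  have hdc : d ∣ Nat.card ↥(D.group F) := by
    obtain ⟨m, hm⟩ := H12.irr_degree_dvd_card χ'
    exact ⟨m, by rw [← hd']; exact hm⟩
  have hp : p.Prime := Fact.out
  have hd0 : d ≠ 0 := fun e => Nat.card_pos.ne' (Nat.eq_zero_of_zero_dvd (e ▸ hdc))
  have hdz : H22.TauSum.DefZero p χ' := by
    show (charDegree _).factorization p = _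
    rw [hd']
    exact le_antisymm ((Nat.factorization_le_iff_dvd hd0 Nat.card_pos.ne').2 hdc p)
      ((hp.pow_dvd_iff_le_factorization hd0).1 hpd)
  have hC : H54.Ctx D := ⟨T, K.chk, K.W, K.ok⟩
  have hmapU := K.map_Uplus (F := F)
  have hcardU : Nat.card (K.sys F).Uplus = p ^ (Nat.card ↥(D.group F)).factorization p := by
    obtain ⟨P, hP⟩ := hC.exists_sylow (F := F) p
    rw [← H52.BNData.eq_subgroupOf hmapU] at hP
    rw [← hP]
    exact P.card_eq_multiplicity
  have hUp : IsPGroup p (K.sys F).Uplus := IsPGroup.of_card hcardU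
  obtain ⟨f, -, hcard⟩ := FiniteField.card F p
  have hq : ∀ i, p ∣ Nat.card ((K.sys F).U ((K.sys F).a i)) := fun i => by
    rw [K.card_U, hcard]
    exact dvd_pow_self p f.ne_zero
  have hcomm : ∀ a ∈ (K.sys F).H, ∀ b ∈ (K.sys F).H, a * b = b * a := fun a ha b hb =>
    Subtype.ext (K.chk.diag_comm
      ((K.map_H (F := F)) ▸ Subgroup.mem_map_of_mem (D.group F).subtype ha)
      ((K.map_H (F := F)) ▸ Subgroup.mem_map_of_mem (D.group F).subtype hb))
  obtain ⟨M, hM⟩ := H22.exists_isPModular p hp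
  haveI := H20.isPrime_of_modular hM
  have hle := DZBound.degree_le K.axioms' K.sep huniq hn hUp hq hcomm hM hdz
  have hle' : d ≤ Nat.card (K.sys F).Uplus := by rwa [← hd']
  have hdeq : d = Nat.card (K.sys F).Uplus :=
    le_antisymm hle' (hcardU.symm ▸ Nat.le_of_dvd (Nat.pos_of_ne_zero hd0) hpd)
  have hvan : ∀ u ∈ (K.sys F).Uplus, u ≠ 1 → χ u = 0 := fun u hu hu1 => by
    refine H24.vanish_of_defect_zero hM χ' hdz u hu1 ?_
    obtain ⟨j, hj⟩ := hUp ⟨u, hu⟩
    exact ⟨j, congrArg Subtype.val hj⟩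
  have hrel : ChevSys.Rel K.W (H53.matSys D F) := H53.matRel K.chk K.W K.ok
    fun _ _ hr hs hrs hneg t u => K.chk.comm_formula hr hs hrs hneg t u
  have hinj : ∀ r, Function.Injective ((H53.matSys D F).x r) := fun r a b e => by
    refine K.chk.rt_injective r.isLt ?_
    exact congrArg Subtype.val e
  have hirr : IsIrrCharacter ↥(D.group F) (bnSt (K.pair F)) := by
    rw [← H21.steinberg_eq K]; exact H21.steinberg_irr K
  rw [H21.steinberg_eq K]
  exact @DZUnique.eq_bnSt _ _ _ _ _ _ (K.sys F) (K.axioms' (F := F)) K.sep instS huniq n hn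
    (rankOneData hrel hinj) hirr χ' (hd.trans (by rw [hdeq])) hvan

end H21.DZChev
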