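import Cfsg.Agent.H21.SteinbergValue
import Cfsg.Agent.H21.DefectZeroChev
import Cfsg.Agent.S0165

/-!
The values of the Steinberg character of a Chevalley group at semisimple elements.
-/

set_option autoImplicit false
set_option linter.unusedSectionVars false
set_option linter.style.haveILetI false

namespace H21.StValueChev

open Cfsg Cfsg.Lie
open H53.RootGroupSys
open scoped Classical

variable {D : ChevalleyDatum} {T : H52.Tables} {F : Type*} [Field F] [Fintype F] (K : H52.BNData D T)

include K in
theorem steinberg_one_card : D.steinbergCharacter F 1 = (Nat.card (K.sys F).Uplus : ℂ) := by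
  rw [H21.steinberg_one K, ← Subgroup.card_map_of_injective (D.group F).subtype_injective, K.map_Uplus,
    K.chk.card_posUnipotent, Nat.cast_pow]

theorem card_Uplus_eq (p : ℕ) [Fact p.Prime] [CharP F p] :
    Nat.card (K.sys F).Uplus = p ^ (Nat.card ↥(D.group F)).factorization p := by
  have hC : H54.Ctx D := ⟨T, K.chk, K.W, K.ok⟩
  obtain ⟨P, hP⟩ := hC.exists_sylow (F := F) p
  rw [← H52.BNData.eq_subgroupOf (K.map_Uplus (F := F))] at hP
  rw [← hP]
  exact P.card_eq_multiplicity

include K in
theorem steinberg_value (p : ℕ) [Fact p.Prime] [CharP F p] (g : ↥(D.group F)) (hg : ¬ p ∣ orderOf g) :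
    D.steinbergCharacter F g =
        ((p ^ (Nat.card ↥(Subgroup.centralizer ({g} : Set ↥(D.group F)))).factorization p : ℕ) : ℂ) ∨
      D.steinbergCharacter F g =
        -((p ^ (Nat.card ↥(Subgroup.centralizer ({g} : Set ↥(D.group F)))).factorization p : ℕ) : ℂ) := by
  haveI := Fintype.ofFinite ↥(D.group F)
  haveI instS : Fintype (K.pair F).S := Fintype.ofFinite _
  have hp : p.Prime := Fact.out
  obtain ⟨M, hM⟩ := H22.exists_isPModular p hp
  let χ : IrrCharacter ↥(D.group F) := ⟨D.steinbergCharacter F, H21.steinberg_irr K⟩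
  have hcardU := card_Uplus_eq (F := F) K p
  have hdeg : (χ : ↥(D.group F) → ℂ) 1 = (Nat.card (K.sys F).Uplus : ℂ) := steinberg_one_card K
  have hvan : ∀ x : ↥(D.group F), p ∣ orderOf x → (χ : ↥(D.group F) → ℂ) x = 0 := by
    intro x hx
    obtain ⟨d, ρ, hρ, hρχ⟩ := χ.2
    haveI := hρ
    rw [← hρχ]
    refine Cfsg.Agent.S0165.result ρ p _ hp (Nat.ordProj_dvd _ p)
      (Nat.pow_succ_factorization_not_dvd Nat.card_pos.ne' hp) ?_ x hx
    have h1 : ρ.character 1 = (Nat.card (K.sys F).Uplus : ℂ) := by rw [hρχ]; exact hdeg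
    rw [Representation.char_one] at h1
    rw [Nat.cast_injective h1, hcardU]
  exact @StValue.value_eq _ _ _ _ _ _ (K.sys F) (K.axioms' (F := F)) K.sep instS
    (H21.top_unique (K.axioms' (F := F)) K.sep (H21.chev_hasc K)) p _ M hM (IsPGroup.of_card hcardU) χ
    (H21.steinberg_eq K) hdeg hvan g hg

end H21.StValueChev
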