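import Cfsg.Agent.H21.DefectZeroChev
import Cfsg.Agent.H21.SteinbergValueChev
import Cfsg.Agent.H21.BlockCount
import Cfsg.Agent.H20.FirstMain
import Cfsg.Agent.H20.DefectApps
import Cfsg.Agent.H13.BT.Main
import Cfsg.Agent.H52.Seven

/-!
The blocks of a Chevalley group in its own characteristic: defect zero or full defect, and exactly
two of them.
-/

set_option autoImplicit false
set_option linter.unusedSectionVars false
set_option linter.style.haveILetI false

namespace H21.ChevBlocks

open Cfsg Cfsg.Lie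
open scoped Classical

variable {D : ChevalleyDatum} (C : H54.Ctx D) {F : Type*} [Field F] [Fintype F]
  (p : ℕ) [Fact p.Prime] [CharP F p]

include C in
/-- An element of `p'`-order centralising a conjugate of `U_J` is trivial. -/
theorem eq_one_of_centralizes (hS : ∀ r < D.nroots, ∀ j < D.rank, (H52.crt D r j = 0 ↔ C.T.co r j = 0))
    (hadd : H54.addCheck D = true) {J : Set ℕ} (hJ : ∃ k < D.rank, k ∉ J)
    (x : ↥(D.group F)) {y : ↥(D.group F)} (hy : ¬ p ∣ orderOf y)
    (hc : ∀ r : ↥(D.group F), (r : GL D.Idx F) ∈ D.unipotentRadical F J → y * (x * r * x⁻¹) = x * r * x⁻¹ * y) :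
    y = 1 := by
  have hp : p.Prime := Fact.out
  set z : ↥(D.group F) := x⁻¹ * y * x with hz
  have hzU : (z : GL D.Idx F) ∈ D.posUnipotent F := by
    refine C.centralizer_radical_le hS hadd hJ z.2 fun r hr => ?_
    have hmem : H52.rt D r (1 : F) ∈ D.unipotentRadical F J :=
      Subgroup.subset_closure ⟨r, 1, hr.1, hr.2, C.hC.coe_rt _ _⟩
    have hle : D.unipotentRadical F J ≤ D.group F := by
      refine le_trans ((Subgroup.closure_le _).2 ?_) C.pos_le_group
      rintro g ⟨s, t, hs, -, hg⟩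
      exact Subgroup.subset_closure ⟨s, t, hs, hg⟩
    have h1 := congrArg (fun g : ↥(D.group F) => x⁻¹ * g * x) (hc ⟨_, hle hmem⟩ hmem)
    replace h1 := h1
    have h2 : z * ⟨H52.rt D r (1 : F), hle hmem⟩ = ⟨H52.rt D r (1 : F), hle hmem⟩ * z := by
      rw [hz]
      simpa [mul_assoc] using h1
    exact congrArg Subtype.val h2
  obtain ⟨k, hk⟩ := IsPGroup.iff_orderOf.1 (C.isPGroup_pos (F := F) p) ⟨(z : GL D.Idx F), hzU⟩
  rw [Subgroup.orderOf_mk, Subgroup.orderOf_coe, hz] at hk
  have e : orderOf (x⁻¹ * y * x) = orderOf y := by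
    simpa using (MulAut.conj x⁻¹).orderOf_eq y
  rw [e] at hk
  rcases Nat.eq_zero_or_pos k with h | h
  · rw [h, pow_zero, orderOf_eq_one_iff] at hk; exact hk
  · exact absurd (hk ▸ dvd_pow_self p h.ne') hy

variable {C}
variable (hadd : H54.addCheck D = true)
  (hS : ∀ r < D.nroots, ∀ j < D.rank, (H52.crt D r j = 0 ↔ C.T.co r j = 0))
  {M : Ideal AlgInt} (hM : IsPModular p M)

include hadd hS hM in
theorem card_defect_eq {B : Set (IrrCharacter ↥(D.group F))} (hB : IsPBlock M B)
    {Dd : Subgroup ↥(D.group F)} (hD : IsDefectGroup p M B Dd) (hD1 : Dd ≠ ⊥) :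
    Nat.card Dd = p ^ (Nat.card ↥(D.group F)).factorization p := by
  haveI := H20.isPrime_of_modular hM
  haveI := Fintype.ofFinite ↥(D.group F)
  have hDp : IsPGroup p Dd := H20.IsDefectGroup.isPGroup hD
  obtain ⟨g, hg, J, hJ, hNP, hDR⟩ := H13.BT.borel_tits C (Dd.map (D.group F).subtype) hS p
    (Subgroup.map_subtype_le _) (hDp.map _) (fun h => hD1 ((Subgroup.map_eq_bot_iff_of_injective _
      (D.group F).subtype_injective).1 h))
  set x : ↥(D.group F) := ⟨g, hg⟩ with hx
  set R : Subgroup ↥(D.group F) :=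
    ((D.unipotentRadical F J).map (MulAut.conj g).toMonoidHom).subgroupOf (D.group F) with hR
  have hUJ : D.unipotentRadical F J ≤ D.posUnipotent F := by
    refine (Subgroup.closure_le _).2 ?_
    rintro z ⟨s, t, hs, -, hz⟩
    exact Subgroup.subset_closure ⟨s, t, hs, hz⟩
  have hRp : IsPGroup p R :=
    (((C.isPGroup_pos (F := F) p).to_le hUJ).map _).comap_of_injective _
      (D.group F).subtype_injective
  have hDR' : Dd ≤ R := fun d hd => Subgroup.mem_subgroupOf.2 (hDR ⟨d, hd, rfl⟩)
  set N := Subgroup.normalizer (Dd : Set ↥(D.group F)) with hN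
  have hNR : N ≤ Subgroup.normalizer (R : Set ↥(D.group F)) := by
    intro n hn
    have hn' : (n : GL D.Idx F) ∈ (D.parabolicSubgroup F J).map (MulAut.conj g).toMonoidHom := by
      refine hNP ⟨?_, n.2⟩
      refine Subgroup.mem_normalizer_iff.2 fun z => ⟨?_, ?_⟩
      · rintro ⟨d, hd, rfl⟩
        exact ⟨n * d * n⁻¹, (Subgroup.mem_normalizer_iff.1 hn d).1 hd, rfl⟩
      · rintro ⟨d, hd, he⟩
        refine ⟨n⁻¹ * d * n, (Subgroup.mem_normalizer_iff.1 hn _).2 (by simpa [mul_assoc] using hd), ?_⟩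
        simp only [Subgroup.coe_subtype, Subgroup.coe_mul, InvMemClass.coe_inv] at he ⊢
        rw [he]; group
    obtain ⟨q, hq, hqe⟩ := hn'
    have hqn := (C.hC.levi_decomposition hS J).1 hq
    have hnn : (n : GL D.Idx F) = g * q * g⁻¹ := hqe.symm
    refine Subgroup.mem_normalizer_iff.2 fun z => ?_
    simp only [hR, Subgroup.mem_subgroupOf, Subgroup.mem_map, Subgroup.coe_mul, InvMemClass.coe_inv,
      MulEquiv.coe_toMonoidHom, MulAut.conj_apply]
    constructor
    · rintro ⟨r, hr, hre⟩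
      exact ⟨q * r * q⁻¹, (Subgroup.mem_normalizer_iff.1 hqn r).1 hr, by rw [← hre, hnn]; group⟩
    · rintro ⟨r, hr, hre⟩
      refine ⟨q⁻¹ * r * q, (Subgroup.mem_normalizer_iff.1 hqn _).2 ?_, ?_⟩
      · simpa [mul_assoc] using hr
      · calc g * (q⁻¹ * r * q) * g⁻¹ = (g * q * g⁻¹)⁻¹ * (g * r * g⁻¹) * (g * q * g⁻¹) := by group
          _ = _ := by rw [hre, ← hnn]; group
  haveI : Fintype N := Fintype.ofFinite _
  obtain ⟨b, hb, hbD, -⟩ := H20.first_main_exists hM hDp hB hD
  haveI : (R.subgroupOf N).Normal := Subgroup.normal_subgroupOf_of_le_normalizer hNR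
  have hRD : R ≤ Dd := by
    by_contra hle
    haveI : Group.IsNilpotent R := hRp.isNilpotent
    have hlt : Dd.subgroupOf R < ⊤ := lt_top_iff_ne_top.2 fun h => hle fun z hz =>
      Subgroup.mem_subgroupOf.1 (h ▸ Subgroup.mem_top (⟨z, hz⟩ : R))
    obtain ⟨z, hz, hzD⟩ := SetLike.exists_of_lt
      (Group.normalizerCondition_of_isNilpotent (Dd.subgroupOf R) hlt)
    have hzN : (z : ↥(D.group F)) ∈ N := Subgroup.mem_normalizer_iff.2 fun d => by
      constructor
      · intro hd
        exact Subgroup.mem_subgroupOf.1 ((Subgroup.mem_normalizer_iff.1 hz ⟨d, hDR' hd⟩).1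
          (Subgroup.mem_subgroupOf.2 hd))
      · intro hd
        have hdR : d ∈ R := by
          have := mul_mem (mul_mem (inv_mem z.2) (hDR' hd)) z.2
          simpa [mul_assoc] using this
        exact Subgroup.mem_subgroupOf.1 ((Subgroup.mem_normalizer_iff.1 hz ⟨d, hdR⟩).2
          (Subgroup.mem_subgroupOf.2 hd))
    exact hzD (Subgroup.mem_subgroupOf.2 (Subgroup.mem_subgroupOf.1
      (H20.normal_le_defectGroup hM hb (Q := R.subgroupOf N) hRp.comap_subtype hbD
        (x := ⟨z, hzN⟩) (Subgroup.mem_subgroupOf.2 z.2))))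
  obtain ⟨c, hc, hSyl⟩ := id hD
  have hcC : c ∈ Subgroup.centralizer (Dd : Set ↥(D.group F)) := H20.IsSylC.mem_centralizer hSyl
  have hreg : ¬ p ∣ orderOf c :=
    H20.regular_of_coeff_ne_zero hM hB ((H20.isDefectClass_iff hB c).1 hc).1
  have hc1 : c = 1 := eq_one_of_centralizes C p hS hadd hJ x hreg fun r hr =>
    (Subgroup.mem_centralizer_iff.1 hcC _ (hRD (Subgroup.mem_subgroupOf.2 ⟨_, hr, rfl⟩))).symm
  rw [H20.IsSylC.card hSyl, hc1]
  have htop : Subgroup.centralizer ({1} : Set ↥(D.group F)) = ⊤ :=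
    eq_top_iff.2 fun x _ => Subgroup.mem_centralizer_singleton_iff.2 (by simp)
  rw [htop, Subgroup.card_top]

include hadd hS hM in
/-- Every block has defect zero or full defect. -/
theorem defect_zero_or_full (B : Set (IrrCharacter ↥(D.group F))) (hB : IsPBlock M B) :
    blockDefect p B = 0 ∨ blockDefect p B = (Nat.card ↥(D.group F)).factorization p := by
  haveI := H20.isPrime_of_modular hM
  haveI := Fintype.ofFinite ↥(D.group F)
  obtain ⟨Dd, hD⟩ := H20.exists_defectGroup hM hB
  have hc := H20.card_defectGroup hM hB hD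
  by_cases hD1 : Dd = ⊥
  · left
    subst hD1
    rw [Subgroup.card_bot] at hc
    exact ((Nat.pow_eq_one).1 hc.symm).resolve_left (Fact.out : p.Prime).one_lt.ne'
  · right
    rw [card_defect_eq p hadd hS hM hB hD hD1] at hc
    exact (Nat.pow_right_injective (Fact.out : p.Prime).two_le hc).symm

include hadd hS hM in
/-- A Chevalley group has exactly two blocks in its own characteristic. -/
theorem card_blocks_eq_two (hrank : 0 < D.rank) :
    Nat.card {B : Set (IrrCharacter ↥(D.group F)) // IsPBlock M B} = 2 := by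
  haveI := H20.isPrime_of_modular hM
  haveI := Fintype.ofFinite ↥(D.group F)
  have hp : p.Prime := Fact.out
  let K : H52.BNData D C.T := ⟨C.hC, C.hok, C.W⟩
  have hpos : p ∣ Nat.card ↥(D.group F) := by
    refine dvd_trans ?_ (Subgroup.card_subgroup_dvd_card ((K.sys F).U ((K.sys F).a ⟨0, hrank⟩)))
    obtain ⟨f, -, hcard⟩ := FiniteField.card F p
    rw [K.card_U, hcard]
    exact dvd_pow_self p f.ne_zero
  let St : IrrCharacter ↥(D.group F) := ⟨D.steinbergCharacter F, H21.steinberg_irr K⟩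
  have hdegSt : charDegree (St : ↥(D.group F) → ℂ) = p ^ (Nat.card ↥(D.group F)).factorization p := by
    show ⌊(D.steinbergCharacter F 1).re⌋₊ = _
    rw [StValueChev.steinberg_one_card K, Complex.natCast_re, Nat.floor_natCast,
      StValueChev.card_Uplus_eq K p]
  have hzero : Nat.card {B : Set (IrrCharacter ↥(D.group F)) //
      IsPBlock M B ∧ blockDefect p B = 0} = 1 := by
    rw [Nat.card_eq_one_iff_unique]
    have hsing : blockOf M (St : ↥(D.group F) → ℂ) = {St} := by
      refine (H20.blockOf_eq_singleton_iff hM St).1 ?_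
      rw [hdegSt]
      exact Nat.not_dvd_ordCompl hp Nat.card_pos.ne'
    have hd0 : blockDefect p (blockOf M (St : ↥(D.group F) → ℂ)) = 0 := by
      rw [hsing, blockDefect, Set.image_singleton, csInf_singleton, hdegSt,
        hp.factorization_pow, Finsupp.single_eq_same, Nat.sub_self]
    refine ⟨⟨fun ⟨B, hB, hB0⟩ ⟨B', hB', hB0'⟩ => ?_⟩, ⟨⟨_, H20.isPBlock_blockOf _, hd0⟩⟩⟩
    have key : ∀ B : Set (IrrCharacter ↥(D.group F)), IsPBlock M B → blockDefect p B = 0 → B = {St} := by
      intro B hB hB0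
      obtain ⟨χ, hχ⟩ := H20.block_nonempty hB
      have hs := H20.singleton_of_defect_zero hM hB hB0 hχ
      rw [hs, blockDefect, Set.image_singleton, csInf_singleton, Nat.sub_eq_zero_iff_le] at hB0
      have e := DZChev.steinberg_unique K p (χ : ↥(D.group F) → ℂ) χ.2
        ⟨charDegree (χ : ↥(D.group F) → ℂ), H24.irr_one χ,
          (hp.pow_dvd_iff_le_factorization (H12.irr_degree_pos χ).ne').2 hB0⟩
      rw [hs, show χ = St from Subtype.ext e]
    exact Subtype.ext ((key B hB hB0).trans (key B' hB' hB0').symm)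
  have hcen : ∀ g : ↥(D.group F), ¬ p ∣ (Subgroup.centralizer ({g} : Set ↥(D.group F))).index →
      H20.qPart p g ∈ (⊥ : Subgroup ↥(D.group F)) := by
    intro g hg
    rw [Subgroup.mem_bot]
    obtain ⟨P₀, hP₀⟩ := C.exists_sylow (F := F) p
    obtain ⟨Q⟩ := (Sylow.nonempty : Nonempty (Sylow p (Subgroup.centralizer ({g} : Set ↥(D.group F)))))
    let S₀ := (Q : Subgroup (Subgroup.centralizer ({g} : Set ↥(D.group F)))).map (Subgroup.subtype _)
    have hSidx : ¬ p ∣ S₀.index := by
      rw [show S₀.index = _ from Subgroup.index_map_subtype _]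
      exact fun h => (hp.dvd_mul.1 h).elim Q.not_dvd_index hg
    obtain ⟨x, hx⟩ := MulAction.exists_smul_eq ↥(D.group F) P₀ ((Q.2.map _).toSylow hSidx)
    refine eq_one_of_centralizes C p hS hadd (J := (∅ : Set ℕ)) ⟨0, hrank, by simp⟩ x
      (H20.not_dvd_orderOf_qPart g) fun r hr => ?_
    have hrP : r ∈ (P₀ : Subgroup ↥(D.group F)) := by
      rw [hP₀, Subgroup.mem_subgroupOf]
      refine (Subgroup.closure_le (K := D.posUnipotent F)).2 ?_ hr
      rintro z ⟨s, t, hs, -, hz⟩
      exact Subgroup.subset_closure ⟨s, t, hs, hz⟩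
    have hmem : x * r * x⁻¹ ∈ S₀ := by
      have h1 : x * r * x⁻¹ ∈ ((x • P₀ : Sylow p ↥(D.group F)) : Subgroup ↥(D.group F)) :=
        ⟨r, hrP, rfl⟩
      rwa [hx] at h1
    obtain ⟨c, -, hc⟩ := hmem
    have hc' := Subgroup.mem_centralizer_singleton_iff.1 (H20.centralizer_le_centralizer_qPart (p := p) g c.2)
    rw [← show (c : ↥(D.group F)) = x * r * x⁻¹ from hc]
    exact hc'.symm
  rw [BlockCount.card_blocks_eq hM hpos (defect_zero_or_full p hadd hS hM) hzero
    (Z := ⊥) bot_le (by rw [Subgroup.card_bot]; exact hp.not_dvd_one) hcen, Subgroup.card_bot]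

end H21.ChevBlocks
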