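import Cfsg.Agent.H21.WeightCount
import Cfsg.Agent.H21.SteinbergChev
import Cfsg.Agent.H21.DefectZeroChev
import Cfsg.Agent.H52.TorusCard
import Cfsg.Agent.H54.ChevSylow

/-!
The count of semisimple classes of the Chevalley groups whose torus is the full `(Fˣ)^l`.
-/

set_option autoImplicit false
set_option linter.unusedSectionVars false
set_option linter.style.haveILetI false
set_option maxHeartbeats 200000

namespace H21.CC

open Cfsg Cfsg.Lie
open H53 (RootGroupSys ChevSys WeylFor nGL matSys)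
open H53.RootGroupSys
open H21.TW

variable {D : ChevalleyDatum} {T : H52.Tables} {F : Type*} [Field F] (K : H52.BNData D T)

include K in
theorem torus_mem (c : Fin D.rank → Fˣ) : H52.torus D c ∈ D.group F := by
  have h : H52.torus D c ∈ D.diagonalSubgroup F := by rw [K.chk.diagonalSubgroup_eq]; exact ⟨c, rfl⟩
  rw [← K.map_H] at h
  obtain ⟨g, -, hg⟩ := h
  rw [← hg]
  exact g.2

/-- the torus inside the group -/
noncomputable def phi : (Fin D.rank → Fˣ) →* ↥(D.group F) :=
  (H52.torus D).codRestrict (D.group F) (torus_mem K)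

theorem coe_phi (c : Fin D.rank → Fˣ) : ((phi K c : ↥(D.group F)) : GL D.Idx F) = H52.torus D c := rfl

theorem hEl_eq (i : Fin D.rank) (t : Fˣ) :
    ChevSys.hEl K.W (matSys D F) i (t : F) = phi K (Pi.mulSingle i t) := by
  refine Subtype.ext (Units.ext ?_)
  rw [coe_phi, ← K.chk.hElt_simple_eq_torus i t, K.chk.coe_hElt, H53.coe_hEl K.chk K.W]

theorem coe_n_eq (i : Fin D.rank) :
    (((K.sys F).n i : ↥(D.group F)) : GL D.Idx F) = nGL D (D.simple i.val) (1 : F) :=
  Units.ext (by rw [H53.coe_nGL K.chk]; exact H53.coe_nEl K.chk K.W i 1)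

theorem pL_eq (L : List (Fin D.rank)) (r : Fin D.nroots) :
    pL (K.sys F) L r = L.foldr K.W.data.act r := by
  induction L with
  | nil => rfl
  | cons x L ih => rw [pL_cons, Equiv.Perm.mul_apply, ih, List.foldr_cons]; rfl

theorem conj_nGL (L : List (Fin D.rank)) (r : Fin D.nroots) :
    ∃ ε : F, (ε = 1 ∨ ε = -1) ∧
      ((nL (K.sys F) L : ↥(D.group F)) : GL D.Idx F) * nGL D r.val (1 : F) *
        ((nL (K.sys F) L : ↥(D.group F)) : GL D.Idx F)⁻¹ = nGL D (pL (K.sys F) L r).val ε := by
  induction L with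
  | nil => exact ⟨1, Or.inl rfl, by simp [nL, pL]⟩
  | cons x L ih =>
    obtain ⟨ε, hε, e⟩ := ih
    set s := pL (K.sys F) L r with hs
    refine ⟨(T.eps x.val s.val : F) * ε, ?_, ?_⟩
    · rcases H52.Checked.eps_eq_or (T := T) x.val s.val with h | h <;> rcases hε with rfl | rfl <;> simp [h]
    · rw [nL_cons, Subgroup.coe_mul, show ∀ a b c : GL D.Idx F, a * b * c * (a * b)⁻¹ = a * (b * c * b⁻¹) * a⁻¹
          from fun a b c => by group, e, coe_n_eq, H53.nGL_conj K.chk x.isLt s.isLt]
      congr 1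
      rw [pL_cons, Equiv.Perm.mul_apply, ← hs]
      exact (K.W.act_eq x s).symm

variable [Fintype F]

include K in
theorem phi_injective {d : Fin D.rank → ℕ} (hd : H52.HasDivisors D d)
    (hg : ∀ i, (Fintype.card F - 1).gcd (d i) = 1) : Function.Injective (H52.torus D (F := F)) := by
  have h := K.chk.card_diagonal (F := F) hd
  rw [Finset.prod_congr rfl fun i _ => hg i, Finset.prod_const_one, one_mul, K.chk.diagonalSubgroup_eq] at h
  have hc : Nat.card (Fin D.rank → Fˣ) = Nat.card (H52.torus D (F := F)).range := by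
    rw [h, Nat.card_pi, Finset.prod_const, Finset.card_univ, Fintype.card_fin, Nat.card_units,
      Nat.card_eq_fintype_card]
  have := (Nat.bijective_iff_surjective_and_card (H52.torus D (F := F)).rangeRestrict).2
    ⟨(H52.torus D).rangeRestrict_surjective, hc⟩
  intro a b e
  exact this.1 (Subtype.ext e)

/-- the parametrised torus -/
noncomputable def torusData (hinj : Function.Injective (H52.torus D (F := F))) :
    TorusData (K.sys F) F where
  φ := phi K
  inj a b e := hinj (congrArg Subtype.val e)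
  range_eq := by
    refine Subgroup.map_injective (D.group F).subtype_injective ?_
    rw [K.map_H, K.chk.diagonalSubgroup_eq, MonoidHom.map_range]
    rfl
  m i j := -D.cartan j.val (ChevSys.sa K.W i).val
  n_conj i j t := by
    have hX : ChevSys.Rel K.W (matSys D F) := H53.matRel K.chk K.W K.ok
      fun _ _ hr hs hrs hneg t u => K.chk.comm_formula hr hs hrs hneg t u
    have h1 := ChevSys.h_conj_n hX i j t.ne_zero
    set c : Fˣ := t ^ D.cartan j.val (ChevSys.sa K.W i).val with hc
    rw [← Units.val_zpow_eq_zpow_val, ← hc, ChevSys.nEl_eq hX i (c : F), hEl_eq, hEl_eq] at h1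
    rw [show t ^ (-D.cartan j.val (ChevSys.sa K.W i).val) = c⁻¹ from zpow_neg _ _, Pi.mulSingle_inv, map_inv]
    generalize phi K (Pi.mulSingle j t) = hj at h1 ⊢
    generalize phi K (Pi.mulSingle i c) = hi at h1 ⊢
    show ChevSys.nEl K.W (matSys D F) i 1 * hj * (ChevSys.nEl K.W (matSys D F) i 1)⁻¹ = _
    generalize ChevSys.nEl K.W (matSys D F) i (1 : F) = n at h1 ⊢
    calc n * hj * n⁻¹ = hi⁻¹ * (hi * n) * hj * n⁻¹ := by group
      _ = hi⁻¹ * hj := by rw [← h1]; group
  n_conj_self i t := by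
    have hX : ChevSys.Rel K.W (matSys D F) := H53.matRel K.chk K.W K.ok
      fun _ _ hr hs hrs hneg t u => K.chk.comm_formula hr hs hrs hneg t u
    have h1 := ChevSys.h_conj_n hX i i t.ne_zero
    have h2 : D.cartan i.val (ChevSys.sa K.W i).val = 2 := by
      rw [show (ChevSys.sa K.W i).val = D.simple i.val from K.W.simple_eq i]
      exact (K.chk.simple_facts i.isLt).2.2.1
    set c : Fˣ := t ^ (2 : ℤ) with hc
    rw [h2, ← Units.val_zpow_eq_zpow_val, ← hc, ChevSys.nEl_eq hX i (c : F), hEl_eq, hEl_eq] at h1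
    have e : (c⁻¹ : Fˣ) * t = t⁻¹ := by rw [hc, zpow_two]; group
    rw [← e, Pi.mulSingle_mul, map_mul, Pi.mulSingle_inv, map_inv]
    generalize phi K (Pi.mulSingle i t) = hj at h1 ⊢
    generalize phi K (Pi.mulSingle i c) = hi at h1 ⊢
    show ChevSys.nEl K.W (matSys D F) i 1 * hj * (ChevSys.nEl K.W (matSys D F) i 1)⁻¹ = _
    generalize ChevSys.nEl K.W (matSys D F) i (1 : F) = n at h1 ⊢
    calc n * hj * n⁻¹ = hi⁻¹ * (hi * n) * hj * n⁻¹ := by group
      _ = hi⁻¹ * hj := by rw [← h1]; group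
  n_sq i := by
    have hX : ChevSys.Rel K.W (matSys D F) := H53.matRel K.chk K.W K.ok
      fun _ _ hr hs hrs hneg t u => K.chk.comm_formula hr hs hrs hneg t u
    have e : ChevSys.hEl K.W (matSys D F) i (-1) = phi K (Pi.mulSingle i (-1)) := by
      rw [← hEl_eq K i (-1)]; norm_num
    have e2 : phi K (Pi.mulSingle i (-1)) = (phi K (Pi.mulSingle i (-1 : Fˣ)))⁻¹ := by
      rw [← map_inv, ← Pi.mulSingle_inv, inv_neg, inv_one]
    rw [e2, ← e, ChevSys.hEl, ChevSys.nEl_neg hX, mul_inv_rev, inv_inv]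
    rfl
  X i u := (matSys D F).x (ChevSys.sa K.W i) (-((u : F) * DZChev.cst (H53.matRel K.chk K.W K.ok
      fun _ _ hr hs hrs hneg t v => K.chk.comm_formula hr hs hrs hneg t v) i)⁻¹)
  X_mem i u := by
    refine ⟨Subgroup.subset_closure ⟨_, rfl⟩, fun e => ?_⟩
    have hX : ChevSys.Rel K.W (matSys D F) := H53.matRel K.chk K.W K.ok
      fun _ _ hr hs hrs hneg t u => K.chk.comm_formula hr hs hrs hneg t u
    rw [← ChevSys.x_zero hX (ChevSys.sa K.W i)] at e
    exact neg_ne_zero.2 (inv_ne_zero (mul_ne_zero u.ne_zero (DZChev.cst_ne hX i)))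
      (K.chk.rt_injective (ChevSys.sa K.W i).isLt (congrArg Subtype.val e))
  X_inj i u u' e := by
    have hX : ChevSys.Rel K.W (matSys D F) := H53.matRel K.chk K.W K.ok
      fun _ _ hr hs hrs hneg t u => K.chk.comm_formula hr hs hrs hneg t u
    have h := K.chk.rt_injective (ChevSys.sa K.W i).isLt (congrArg Subtype.val e)
    exact Units.ext (mul_right_cancel₀ (DZChev.cst_ne hX i) (inv_injective (neg_injective h)))
  X_surj i x hx h1 := by
    have hX : ChevSys.Rel K.W (matSys D F) := H53.matRel K.chk K.W K.ok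
      fun _ _ hr hs hrs hneg t u => K.chk.comm_formula hr hs hrs hneg t u
    obtain ⟨t, rfl⟩ := (ChevSys.mem_Usub hX).1 (show x ∈ ChevSys.Usub (matSys D F) (ChevSys.sa K.W i) from hx)
    have ht : t ≠ 0 := fun e => h1 (by rw [e, ChevSys.x_zero hX])
    refine ⟨Units.mk0 (-(t * DZChev.cst hX i)⁻¹)
      (neg_ne_zero.2 (inv_ne_zero (mul_ne_zero ht (DZChev.cst_ne hX i)))), ?_⟩
    congr 1
    have := DZChev.cst_ne hX i
    show -((-(t * DZChev.cst hX i)⁻¹) * DZChev.cst hX i)⁻¹ = t
    field_simp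
  rankone i u := by
    have hX : ChevSys.Rel K.W (matSys D F) := H53.matRel K.chk K.W K.ok
      fun _ _ hr hs hrs hneg t u => K.chk.comm_formula hr hs hrs hneg t u
    refine ⟨(matSys D F).x (ChevSys.sa K.W i) (-(u : F)), Subgroup.subset_closure ⟨_, rfl⟩,
      (matSys D F).x (ChevSys.sa K.W i) (-(u : F)), Subgroup.subset_closure ⟨_, rfl⟩, ?_⟩
    show ChevSys.nEl K.W (matSys D F) i 1 * _ * (ChevSys.nEl K.W (matSys D F) i 1)⁻¹ =
      _ * phi K (Pi.mulSingle i u) * ChevSys.nEl K.W (matSys D F) i 1 * _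
    rw [DZChev.conj_eq hX i, ← hEl_eq K i u, mul_assoc ((matSys D F).x (ChevSys.sa K.W i) (-(u : F))),
      ← ChevSys.nEl_eq hX]
    have : DZChev.cst hX i * -((u : F) * DZChev.cst hX i)⁻¹ = -(u : F)⁻¹ := by
      have := DZChev.cst_ne hX i
      field_simp
    rw [this, ChevSys.nEl, ← ChevSys.x_inv hX (ChevSys.sa K.W i) (u : F)]
    group
  conj_root L i j e := by
    obtain ⟨ε, hε, h⟩ := conj_nGL (F := F) K L ((K.sys F).a j)
    rw [e, show ((K.sys F).a i).val = D.simple i.val from K.W.simple_eq i,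
      show ((K.sys F).a j).val = D.simple j.val from K.W.simple_eq j, ← coe_n_eq K j] at h
    rcases hε with rfl | rfl
    · left
      refine Subtype.ext ?_
      rw [coe_n_eq K i, ← h]; rfl
    · right
      refine Subtype.ext ?_
      rw [Subgroup.coe_inv, coe_n_eq K i, ← H53.nGL_neg K.chk, ← h]; rfl
  indep L i u hi hne e := by
    have key : ∀ (L : List (Fin D.rank)), i ∉ L → ∀ r,
        K.W.data.v (L.foldr K.W.data.act r) i = K.W.data.v r i := by
      intro L
      induction L with
      | nil => exact fun _ r => rfl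
      | cons x L ih =>
        intro hi r
        rw [List.mem_cons, not_or] at hi
        rw [List.foldr_cons, ← K.W.valid.act_spec, H53.WeylData.refl, if_neg hi.1, ih hi.2]
    have h := key L hi (K.W.data.simple i)
    rw [pL_eq] at e
    rw [show L.foldr K.W.data.act (K.W.data.simple i) = K.W.data.simple u from e,
      K.W.valid.simple_spec, K.W.valid.simple_spec, if_neg hne, if_pos rfl] at h
    exact zero_ne_one h

include K in
/-- Steinberg's count of semisimple classes -/
theorem card_semisimple {q : ℕ} (hq : Fintype.card F = q) (p : ℕ) [Fact p.Prime] [CharP F p]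
    {d : Fin D.rank → ℕ} (hd : H52.HasDivisors D d) (hg : ∀ i, (q - 1).gcd (d i) = 1) :
    Nat.card (BC.RegCl p ↥(D.group F)) = q ^ D.rank := by
  subst hq
  haveI := Fintype.ofFinite ↥(D.group F)
  haveI : Fintype (K.pair F).S := Fintype.ofFinite _
  have hUp : IsPGroup p (K.sys F).Uplus := by
    have hC : H54.Ctx D := ⟨T, K.chk, K.W, K.ok⟩
    obtain ⟨P, hP⟩ := hC.exists_sylow (F := F) p
    rw [← H52.BNData.eq_subgroupOf (K.map_Uplus (F := F))] at hP
    rw [← hP]
    exact P.2
  rw [Wt.card_regCl (torusData K (phi_injective K hd hg)) K.axioms' K.sep hUp (H21.chev_hasc K)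
    (H21.exists_top (F := F) K), Fintype.card_fin]

theorem nat_card_subtype_congr {p : ℕ} {G : Type*} [Group G] {P : G → Prop}
    (h : ∀ g, P g ↔ ¬ p ∣ orderOf g) :
    Nat.card {c : ConjClasses G // ∃ g, ConjClasses.mk g = c ∧ P g} = Nat.card (BC.RegCl p G) :=
  Nat.card_congr (Equiv.subtypeEquivRight fun c => exists_congr fun g => and_congr_right fun _ => h g)

end H21.CC
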