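import Cfsg.Agent.H21.UWeight
import Cfsg.Agent.H21.Covering
import Cfsg.Agent.H22.TauSum
import Cfsg.Agent.H23.Bridge
import Cfsg.Agent.H20.Block

/-!
A character of defect zero of a finite group with a root group system in characteristic `p` has degree
at most `|U|`: its block algebra is an irreducible `G × G`-module with a weight vector.
-/

set_option autoImplicit false
set_option linter.unusedSectionVars false
set_option linter.style.haveILetI false

namespace H21.DZBound

open Cfsg Matrix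
open scoped Classical

/-- The rank does not go up under reduction. -/
theorem rank_reduce_le {R K L : Type*} [CommRing R] [Field K] [Field L] {m : Type*} [Fintype m]
    (φ : R →+* K) (hφ : Function.Surjective φ) (ι : R →+* L) (hι : Function.Injective ι)
    (A : Matrix m m R) : (A.map φ).rank ≤ (A.map ι).rank := by
  set B := A.map φ with hB
  set r := B.rank with hr
  let f := B.mulVecLin
  have hfr : Module.finrank K (LinearMap.range f) = r := rfl
  let e := (LinearMap.range f).subtype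
  let b : LinearMap.range f ≃ₗ[K] (Fin r → K) := (Module.finBasisOfFinrankEq K _ hfr).equivFun
  obtain ⟨σ, hσ⟩ := f.rangeRestrict.exists_rightInverse_of_surjective f.range_rangeRestrict
  obtain ⟨π, hπ⟩ := e.exists_leftInverse_of_injective (LinearMap.range f).ker_subtype
  let P' : Matrix (Fin r) m K := LinearMap.toMatrix' (b.toLinearMap.comp π)
  let Q' : Matrix m (Fin r) K := LinearMap.toMatrix' (σ.comp b.symm.toLinearMap)
  have hBf : B = LinearMap.toMatrix' f := (LinearMap.toMatrix'_toLin' B).symm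
  have hone : P' * B * Q' = 1 := by
    rw [hBf, ← LinearMap.toMatrix'_comp, ← LinearMap.toMatrix'_comp, ← LinearMap.toMatrix'_id]
    congr 1
    refine LinearMap.ext fun v => ?_
    simp only [LinearMap.comp_apply, LinearMap.id_apply, LinearEquiv.coe_coe]
    have h1 : f (σ (b.symm v)) = e (b.symm v) :=
      congrArg Subtype.val (LinearMap.congr_fun hσ (b.symm v))
    rw [h1, show π (e (b.symm v)) = b.symm v from LinearMap.congr_fun hπ _,
      LinearEquiv.apply_symm_apply]
  let P'' := P'.map (Function.surjInv hφ)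
  let Q'' := Q'.map (Function.surjInv hφ)
  let D := (P'' * A * Q'').det
  have hD : D ≠ 0 := by
    intro h0
    have h1 : φ D = 1 := by
      rw [RingHom.map_det, RingHom.mapMatrix_apply, Matrix.map_mul, Matrix.map_mul, ← hB]
      have hP : P''.map φ = P' := by ext i j; exact Function.surjInv_eq hφ _
      have hQ : Q''.map φ = Q' := by ext i j; exact Function.surjInv_eq hφ _
      rw [hP, hQ, hone, Matrix.det_one]
    rw [h0, map_zero] at h1
    exact zero_ne_one h1
  have hu : IsUnit (P''.map ι * A.map ι * Q''.map ι) := by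
    rw [Matrix.isUnit_iff_isUnit_det, isUnit_iff_ne_zero, ← Matrix.map_mul, ← Matrix.map_mul,
      ← RingHom.mapMatrix_apply, ← RingHom.map_det]
    exact fun h => hD (hι (by rw [map_zero]; exact h))
  calc r = (P''.map ι * A.map ι * Q''.map ι).rank := by rw [Matrix.rank_of_isUnit _ hu, Fintype.card_fin]
    _ ≤ (P''.map ι * A.map ι).rank := Matrix.rank_mul_le_left _ _
    _ ≤ (A.map ι).rank := Matrix.rank_mul_le_right _ _

theorem card_le_rank_add {K : Type*} [Field K] {m : Type*} [Fintype m] [DecidableEq m]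
    (A : Matrix m m K) : Fintype.card m ≤ A.rank + (1 - A).rank := by
  have htop : (⊤ : Submodule K (m → K)) ≤
      LinearMap.range A.mulVecLin ⊔ LinearMap.range (1 - A).mulVecLin := by
    intro v _
    refine Submodule.mem_sup.2 ⟨_, ⟨v, rfl⟩, _, ⟨v, rfl⟩, ?_⟩
    simp [Matrix.sub_mulVec]
  calc Fintype.card m = Module.finrank K (⊤ : Submodule K (m → K)) := by
        rw [finrank_top, Module.finrank_fintype_fun_eq_card]
    _ ≤ Module.finrank K ↑(LinearMap.range A.mulVecLin ⊔ LinearMap.range (1 - A).mulVecLin) :=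
        Submodule.finrank_mono htop
    _ ≤ _ := Submodule.finrank_add_le_finrank_add_finrank _ _

variable {G : Type*} [Group G] [Fintype G] {p : ℕ} {M : Ideal AlgInt} [hMp : M.IsPrime]

/-- the scaled character -/
noncomputable def sval (χ : IrrCharacter G) (x : G) : ℂ :=
  (χ : G → ℂ) 1 / (Nat.card G : ℂ) * (χ : G → ℂ) x

theorem memRing_sval (hM : IsPModular p M) {χ : IrrCharacter G} (h : H22.TauSum.DefZero p χ) (x : G) :
    MemLocalRing M (sval χ x) :=
  H20.memRing_mul (H22.TauSum.memRing_degree_div hM h) (H20.memRing_irr χ x)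

theorem sval_conj (χ : IrrCharacter G) (x h : G) : sval χ (h * x * h⁻¹) = sval χ x := by
  rw [sval, sval, H12.irr_isClassFunction χ x h]

theorem sval_comm (χ : IrrCharacter G) (x y : G) : sval χ (x * y) = sval χ (y * x) := by
  rw [← sval_conj χ (y * x) x]
  congr 1
  group

theorem sum_sval_mul (χ : IrrCharacter G) (x z : G) :
    ∑ y : G, sval χ (x * y⁻¹) * sval χ (y * z⁻¹) = sval χ (x * z⁻¹) := by
  have h := H24.sum_irr_mul_inv χ (x * z⁻¹)
  rw [show ∑ y : G, sval χ (x * y⁻¹) * sval χ (y * z⁻¹) = ((χ : G → ℂ) 1 / (Nat.card G : ℂ)) ^ 2 *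
      ∑ g : G, (χ : G → ℂ) g * (χ : G → ℂ) (g⁻¹ * (x * z⁻¹)) by
    rw [Finset.mul_sum]
    refine Fintype.sum_equiv ((Equiv.inv G).trans (Equiv.mulLeft x)) _ _ fun y => ?_
    simp only [sval, Equiv.trans_apply, Equiv.inv_apply, Equiv.coe_mulLeft]
    rw [show (x * y⁻¹)⁻¹ * (x * z⁻¹) = y * z⁻¹ by group]
    ring, h, sval]
  have := H12.irr_apply_one_ne_zero χ
  have hG : (Nat.card G : ℂ) ≠ 0 := Nat.cast_ne_zero.2 Nat.card_pos.ne'
  field_simp

theorem sum_sval_conj (χ : IrrCharacter G) (x z : G) :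
    ∑ h : G, sval χ (h⁻¹ * x * h * z) =
      ((Nat.card G : ℂ) / (χ : G → ℂ) 1) ^ 2 * (sval χ x * sval χ z) := by
  let f : G → ℂ := fun y => ∑ h : G, if y = h⁻¹ * x * h then 1 else 0
  have hf : IsClassFunction G f := fun y c => by
    show (∑ h : G, _) = ∑ h : G, _
    refine Fintype.sum_equiv (Equiv.mulRight c) _ _ fun h => ?_
    refine if_congr ?_ rfl rfl
    simp only [Equiv.coe_mulRight]
    constructor
    · intro e
      calc y = c⁻¹ * (c * y * c⁻¹) * c := by group
        _ = _ := by rw [e]; group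
    · intro e
      rw [e]; group
  have hsum : ∀ φ : G → ℂ, ∑ y : G, f y * φ y = ∑ h : G, φ (h⁻¹ * x * h) := by
    intro φ
    simp only [f, Finset.sum_mul, ite_mul, one_mul, zero_mul]
    rw [Finset.sum_comm]
    simp
  have h := H21.sum_mul_shift χ f hf z
  rw [hsum (fun y => (χ : G → ℂ) (y * z)), hsum (fun y => (χ : G → ℂ) y)] at h
  have hx : ∀ g : G, (χ : G → ℂ) (g⁻¹ * x * g) = (χ : G → ℂ) x := fun g => by
    simpa using H12.irr_isClassFunction χ x g⁻¹
  simp only [hx, Finset.sum_const, Finset.card_univ, nsmul_eq_mul, ← Nat.card_eq_fintype_card] at h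
  simp only [sval, ← Finset.mul_sum, h]
  have := H12.irr_apply_one_ne_zero χ
  have hG : (Nat.card G : ℂ) ≠ 0 := Nat.cast_ne_zero.2 Nat.card_pos.ne'
  field_simp

variable (M) in
/-- the reduced convolution matrix -/
noncomputable def redMat (χ : IrrCharacter G) : Matrix G G (H20.k M) :=
  Matrix.of fun x y => H20.redC M (sval χ (x * y⁻¹))

theorem rank_redMat (hM : IsPModular p M) {χ : IrrCharacter G} (h : H22.TauSum.DefZero p χ) :
    (redMat M χ).rank = H12.degree (χ : G → ℂ) ^ 2 := by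
  let A : Matrix G G (H20.O M) := Matrix.of fun x y => ⟨sval χ (x * y⁻¹), memRing_sval hM h _⟩
  have hred : A.map (H20.red M) = redMat M χ := by
    ext x y
    exact (H20.redC_of_mem (memRing_sval hM h _)).symm
  let C : Matrix G G ℂ := A.map (H20.O M).subtype
  have hidem : C * C = C := by
    ext x z
    exact sum_sval_mul χ x z
  have htr : C.trace = ((H12.degree (χ : G → ℂ) ^ 2 : ℕ) : ℂ) := by
    simp only [C, A, Matrix.trace, Matrix.diag_apply, Matrix.map_apply, Matrix.of_apply,
      Subring.subtype_apply, mul_inv_cancel, Finset.sum_const, Finset.card_univ, nsmul_eq_mul, sval,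
      H12.irr_apply_one]
    rw [← Nat.card_eq_fintype_card]
    have hG : (Nat.card G : ℂ) ≠ 0 := Nat.cast_ne_zero.2 Nat.card_pos.ne'
    field_simp
    push_cast
    ring
  have hrC : C.rank = H12.degree (χ : G → ℂ) ^ 2 := by
    have hp : LinearMap.IsProj (LinearMap.range (Matrix.toLin' C)) (Matrix.toLin' C) := by
      refine ⟨fun v => LinearMap.mem_range_self _ _, ?_⟩
      rintro _ ⟨v, rfl⟩
      rw [← Module.End.mul_apply, Module.End.mul_eq_comp, ← Matrix.toLin'_mul, hidem]
    apply Nat.cast_injective (R := ℂ)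
    rw [← htr, ← Matrix.trace_toLin'_eq, hp.trace]
    rfl
  have h1 := card_le_rank_add (A.map (H20.red M))
  have h2 : (1 - A).map (H20.red M) = 1 - A.map (H20.red M) := by
    rw [Matrix.map_sub _ (map_sub _), Matrix.map_one _ (map_zero _) (map_one _)]
  have h3 : (1 - A).map (H20.O M).subtype = 1 - C := by
    rw [Matrix.map_sub _ (map_sub _), Matrix.map_one _ (map_zero _) (map_one _)]
  have h4 := rank_reduce_le (H20.red M) H20.red_surjective (H20.O M).subtype Subtype.val_injective A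
  have h5 := rank_reduce_le (H20.red M) H20.red_surjective (H20.O M).subtype Subtype.val_injective (1 - A)
  rw [h2, h3] at h5
  change _ ≤ C.rank at h4
  have h6 := Matrix.rank_add_rank_le_card_of_mul_eq_zero
    (show C * (1 - C) = 0 by rw [mul_sub, mul_one, hidem, sub_self])
  rw [← hred]
  omega

/-! ### the bimodule -/

/-- left translation on functions -/
noncomputable def ltr (K : Type*) [Field K] (G : Type*) [Group G] : Representation K G (G → K) where
  toFun g := LinearMap.funLeft K K fun x => g⁻¹ * x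
  map_one' := by ext f x; simp [LinearMap.funLeft]
  map_mul' g g' := by ext f x; simp [LinearMap.funLeft, mul_assoc]

/-- right translation on functions -/
noncomputable def rtr (K : Type*) [Field K] (G : Type*) [Group G] : Representation K G (G → K) where
  toFun g := LinearMap.funLeft K K fun x => x * g
  map_one' := by ext f x; simp [LinearMap.funLeft]
  map_mul' g g' := by ext f x; simp [LinearMap.funLeft, mul_assoc]

theorem ltr_apply {K : Type*} [Field K] (g : G) (f : G → K) (x : G) : ltr K G g f x = f (g⁻¹ * x) := rfl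

theorem rtr_apply {K : Type*} [Field K] (g : G) (f : G → K) (x : G) : rtr K G g f x = f (x * g) := rfl

theorem ltr_rtr {K : Type*} [Field K] (g g' : G) (f : G → K) :
    ltr K G g (rtr K G g' f) = rtr K G g' (ltr K G g f) := by
  funext x
  simp [ltr_apply, rtr_apply, mul_assoc]

variable (M) in
/-- the reduced block idempotent as a function -/
noncomputable def eFun (χ : IrrCharacter G) : G → H20.k M := fun x => H20.redC M (sval χ x)

variable (M) in
/-- the block algebra -/
noncomputable def alg (χ : IrrCharacter G) : Submodule (H20.k M) (G → H20.k M) :=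
  Submodule.span _ (Set.range fun g : G => rtr (H20.k M) G g (eFun M χ))

theorem alg_eq_range (χ : IrrCharacter G) : alg M χ = LinearMap.range (redMat M χ).mulVecLin := by
  rw [Matrix.range_mulVecLin, alg]
  congr 1
  ext f
  constructor
  · rintro ⟨g, rfl⟩
    exact ⟨g⁻¹, by funext x; simp [redMat, rtr_apply, eFun, Matrix.col_apply]⟩
  · rintro ⟨y, rfl⟩
    exact ⟨y⁻¹, by funext x; simp [redMat, rtr_apply, eFun, Matrix.col_apply]⟩

theorem alg_rtr (χ : IrrCharacter G) (g : G) {f : G → H20.k M} (hf : f ∈ alg M χ) :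
    rtr (H20.k M) G g f ∈ alg M χ := by
  have hle : (alg M χ).map (rtr (H20.k M) G g) ≤ alg M χ := by
    rw [alg, Submodule.map_span_le]
    rintro _ ⟨g', rfl⟩
    exact Submodule.subset_span ⟨g * g', by
      simp only []
      rw [map_mul]; rfl⟩
  exact hle ⟨f, hf, rfl⟩

theorem alg_ltr (χ : IrrCharacter G) (g : G) {f : G → H20.k M} (hf : f ∈ alg M χ) :
    ltr (H20.k M) G g f ∈ alg M χ := by
  have hle : (alg M χ).map (ltr (H20.k M) G g) ≤ alg M χ := by
    rw [alg, Submodule.map_span_le]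
    rintro _ ⟨g', rfl⟩
    refine Submodule.subset_span ⟨g' * g⁻¹, ?_⟩
    funext x
    show eFun M χ (x * (g' * g⁻¹)) = eFun M χ (g⁻¹ * x * g')
    rw [eFun, eFun, ← mul_assoc, sval_comm χ (x * g') g⁻¹, ← mul_assoc]
  exact hle ⟨f, hf, rfl⟩

/-- the block algebra is irreducible as a bimodule -/
theorem alg_le_of_stable (hM : IsPModular p M) {χ : IrrCharacter G} (h : H22.TauSum.DefZero p χ)
    {W : Submodule (H20.k M) (G → H20.k M)} (hWA : W ≤ alg M χ) (hW : W ≠ ⊥)
    (hl : ∀ g, ∀ w ∈ W, ltr (H20.k M) G g w ∈ W) (hr : ∀ g, ∀ w ∈ W, rtr (H20.k M) G g w ∈ W) :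
    alg M χ ≤ W := by
  suffices he : eFun M χ ∈ W by
    rw [alg, Submodule.span_le]
    rintro _ ⟨g, rfl⟩
    exact hr g _ he
  obtain ⟨f₀, hf₀, hne⟩ := W.exists_mem_ne_zero_of_ne_bot hW
  obtain ⟨g₀, hg₀⟩ : ∃ g, f₀ g ≠ 0 := by
    by_contra hh
    push Not at hh
    exact hne (funext hh)
  set f := rtr (H20.k M) G g₀ f₀ with hfdef
  have hf : f ∈ W := hr _ _ hf₀
  have hf1 : f 1 ≠ 0 := by rw [hfdef, rtr_apply, one_mul]; exact hg₀
  obtain ⟨c, hc⟩ := Submodule.mem_span_range_iff_exists_fun _ |>.1 (hWA hf)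
  obtain ⟨m, hm⟩ := H12.irr_degree_dvd_card χ
  have hd : H12.degree (χ : G → ℂ) ≠ 0 := (H12.irr_degree_pos χ).ne'
  have hm0 : m ≠ 0 := fun h0 => Nat.card_pos.ne' (by rw [hm, h0, mul_zero])
  have hmp : (m : H20.k M) ≠ 0 := by
    haveI := H20.k_charP hM
    rw [Ne, CharP.cast_eq_zero_iff (H20.k M) p]
    intro hpm
    have h2 : 0 < m.factorization p := hM.1.factorization_pos_of_dvd hm0 hpm
    have h1 : (H12.degree (χ : G → ℂ)).factorization p = (Nat.card G).factorization p := h
    rw [hm, Nat.factorization_mul hd hm0, Finsupp.add_apply] at h1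
    omega
  have key : ∀ x z : G, ∑ k : G, eFun M χ (k⁻¹ * x * k * z) =
      (m : H20.k M) ^ 2 * (eFun M χ x * eFun M χ z) := by
    intro x z
    have hm2 : (Nat.card G : ℂ) / (χ : G → ℂ) 1 = (m : ℂ) := by
      rw [H12.irr_apply_one, hm, Nat.cast_mul, mul_div_cancel_left₀ _ (Nat.cast_ne_zero.2 hd)]
    simp only [eFun]
    rw [← H20.redC_sum _ _ fun k _ => memRing_sval hM h _, sum_sval_conj, hm2,
      ← H20.redC_mul (memRing_sval hM h _) (memRing_sval hM h _), sq, sq, ← H20.redC_natCast,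
      ← H20.redC_mul (H20.memRing_natCast _) (H20.memRing_natCast _),
      ← H20.redC_mul (H20.memRing_mul (H20.memRing_natCast _) (H20.memRing_natCast _))
        (H20.memRing_mul (memRing_sval hM h _) (memRing_sval hM h _))]
  have hsum : (∑ k : G, ltr (H20.k M) G k (rtr (H20.k M) G k f)) =
      ((m : H20.k M) ^ 2 * f 1) • eFun M χ := by
    funext x
    simp only [Finset.sum_apply, Pi.smul_apply, smul_eq_mul, ltr_apply, rtr_apply, ← hc,
      Finset.mul_sum, Finset.sum_mul, one_mul]
    rw [Finset.sum_comm]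
    refine Finset.sum_congr rfl fun g _ => ?_
    rw [← Finset.mul_sum, key]
    ring
  have hmem : ((m : H20.k M) ^ 2 * f 1) • eFun M χ ∈ W :=
    hsum ▸ Submodule.sum_mem _ fun k _ => hl _ _ (hr _ _ hf)
  have := Submodule.smul_mem _ ((m : H20.k M) ^ 2 * f 1)⁻¹ hmem
  rwa [inv_smul_smul₀ (mul_ne_zero (pow_ne_zero _ hmp) hf1)] at this

open H53 (RootGroupSys) in
open H53.RootGroupSys in
/-- The degree of a defect zero character is at most the order of `U`. -/
theorem degree_le {ι R : Type*} [Finite R] {S : RootGroupSys G ι R} (hS : S.Axioms) (hsep : Sep S)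
    (huniq : ∀ w w' : H56.Weyl (pair hS hsep), IsTop _ w → IsTop _ w' → w = w')
    {n₀ : (pair hS hsep).N} (htop : IsTop (pair hS hsep) (H56.toW _ n₀))
    (hUp : IsPGroup p S.Uplus) (hq : ∀ i, p ∣ Nat.card (S.U (S.a i)))
    (hcomm : ∀ a ∈ S.H, ∀ b ∈ S.H, a * b = b * a)
    (hM : IsPModular p M) {χ : IrrCharacter G} (h : H22.TauSum.DefZero p χ) :
    H12.degree (χ : G → ℂ) ≤ Nat.card S.Uplus := by
  haveI := Fact.mk hM.1
  haveI := H20.k_charP hM
  haveI : IsAlgClosed (H20.k M) := H23.isAlgClosed_k hM.2.1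
  haveI := Fintype.ofFinite S.Uplus
  set K := H20.k M
  set L := ltr K G with hLdef
  set Rr := rtr K G with hRdef
  have hq' : ∀ i, (Nat.card (S.U (S.a i)) : K) = 0 := fun i =>
    (CharP.cast_eq_zero_iff K p _).2 (hq i)
  have hrank := rank_redMat hM h
  have hAne : alg M χ ≠ ⊥ := fun e => by
    have : (redMat M χ).rank = 0 := by
      show Module.finrank K (LinearMap.range (redMat M χ).mulVecLin) = 0
      rw [← alg_eq_range, e, finrank_bot]
    rw [hrank] at this
    exact (H12.irr_degree_pos χ).ne' (pow_eq_zero_iff two_ne_zero |>.1 this)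
  obtain ⟨v₀, hv₀A, hv₀, hUv₀, hHv₀, hTv₀⟩ :=
    UW.exists_weight hS hsep (ρ := Rr) hUp hq' hcomm (alg M χ) hAne fun g w hw => alg_rtr χ g hw
  choose c hc using hHv₀
  choose μ hμ using hTv₀
  let W : Submodule K (G → K) := alg M χ ⊓
    ((⨅ u : S.Uplus, LinearMap.ker (Rr (u : G) - 1)) ⊓
      ((⨅ h : S.H, LinearMap.ker (Rr (h : G) - c h h.2 • 1)) ⊓
        ⨅ i, LinearMap.ker (UW.uT S Rr i - μ i • 1)))
  have hWmem : ∀ f, f ∈ W ↔ f ∈ alg M χ ∧ UW.UFix S Rr f ∧
      (∀ h (hh : h ∈ S.H), Rr h f = c h hh • f) ∧ ∀ i, UW.uT S Rr i f = μ i • f := fun f => by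
    simp [W, UW.UFix, sub_eq_zero, Submodule.mem_inf]
  have hWne : W ≠ ⊥ := fun e => hv₀ ((Submodule.mem_bot (R := K)).1
    (e ▸ (hWmem v₀).2 ⟨hv₀A, hUv₀, hc, hμ⟩))
  have hWst : ∀ g, ∀ w ∈ W, L g w ∈ W := by
    intro g w hw
    rw [hWmem] at hw ⊢
    refine ⟨alg_ltr χ g hw.1, fun u hu => ?_, fun h hh => ?_, fun i => ?_⟩
    · rw [hLdef, hRdef, ← ltr_rtr, ← hRdef, hw.2.1 u hu]
    · rw [hLdef, hRdef, ← ltr_rtr, ← hRdef, hw.2.2.1 h hh, map_smul]
    · haveI := Fintype.ofFinite (S.U (S.a i))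
      rw [UW.uT_apply]
      simp only [hLdef, hRdef, ← ltr_rtr, ← map_sum]
      rw [← hRdef, ← UW.uT_apply, hw.2.2.2 i, map_smul]
  obtain ⟨v, hvW, hv, hUv, hHv, hTv⟩ :=
    UW.exists_weight hS hsep (ρ := L) hUp hq' hcomm W hWne hWst
  obtain ⟨hvA, hUv', hcv, hμv⟩ := (hWmem v).1 hvW
  have hsR : ∀ g, Rr g v ∈ UW.spanU S Rr (n₀ : G) v := fun g =>
    UW.rho_mem_span hS hsep hUv' (fun h hh => ⟨_, hcv h hh⟩) huniq (fun i => ⟨_, hμv i⟩) htop g
  have hsL : ∀ g, L g v ∈ UW.spanU S L (n₀ : G) v := fun g =>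
    UW.rho_mem_span hS hsep hUv hHv huniq hTv htop g
  let gens : S.Uplus × S.Uplus → (G → K) := fun w =>
    L ((w.1 : G) * (n₀ : G)) (Rr ((w.2 : G) * (n₀ : G)) v)
  let T : Submodule K (G → K) := Submodule.span K (Set.range gens)
  let Z : Submodule K (G → K) := Submodule.span K (Set.range fun w : G × G => L w.1 (Rr w.2 v))
  have hZT : Z ≤ T := by
    rw [Submodule.span_le]
    rintro _ ⟨⟨g, g'⟩, rfl⟩
    have h1 : ∀ u ∈ S.Uplus, L (u * (n₀ : G)) (Rr g' v) ∈ T := by
      intro u hu
      have hle : (UW.spanU S Rr (n₀ : G) v).map (L (u * (n₀ : G))) ≤ T := by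
        rw [UW.spanU, Submodule.map_span_le]
        rintro _ ⟨u', hu', rfl⟩
        exact Submodule.subset_span ⟨(⟨u, hu⟩, ⟨u', hu'⟩), rfl⟩
      exact hle ⟨_, hsR g', rfl⟩
    have hle : (UW.spanU S L (n₀ : G) v).map (Rr g') ≤ T := by
      rw [UW.spanU, Submodule.map_span_le]
      rintro _ ⟨u, hu, rfl⟩
      rw [hLdef, hRdef, ← ltr_rtr]
      exact h1 u hu
    have := hle ⟨_, hsL g, rfl⟩
    rw [hLdef, hRdef, ← ltr_rtr] at this
    exact this
  have hAZ : alg M χ ≤ Z := by
    refine alg_le_of_stable hM h ?_ ?_ (fun a => ?_) (fun a => ?_)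
    · rw [Submodule.span_le]
      rintro _ ⟨⟨g, g'⟩, rfl⟩
      exact alg_ltr χ g (alg_rtr χ g' hvA)
    · intro e
      exact hv ((Submodule.mem_bot (R := K)).1 (e ▸ Submodule.subset_span ⟨(1, 1), by simp⟩))
    · intro w hw
      have hle : Z.map (ltr K G a) ≤ Z := by
        rw [Submodule.map_span_le]
        rintro _ ⟨⟨g, g'⟩, rfl⟩
        exact Submodule.subset_span ⟨(a * g, g'), by simp [hLdef, Module.End.mul_apply]⟩
      exact hle ⟨w, hw, rfl⟩
    · intro w hw
      have hle : Z.map (rtr K G a) ≤ Z := by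
        rw [Submodule.map_span_le]
        rintro _ ⟨⟨g, g'⟩, rfl⟩
        refine Submodule.subset_span ⟨(g, a * g'), ?_⟩
        show L g (Rr (a * g') v) = Rr a (L g (Rr g' v))
        rw [map_mul, Module.End.mul_apply, hLdef, hRdef, ltr_rtr]
      exact hle ⟨w, hw, rfl⟩
  have h2 := (Submodule.finrank_mono (hAZ.trans hZT)).trans (finrank_range_le_card gens)
  rw [alg_eq_range] at h2
  change (redMat M χ).rank ≤ _ at h2
  rw [hrank, Fintype.card_prod, ← sq, ← Nat.card_eq_fintype_card] at h2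
  exact (Nat.pow_le_pow_iff_left two_ne_zero).1 h2

end H21.DZBound
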