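import Cfsg.Agent.H21.TwistBT
import Cfsg.Agent.H66.BorelTitsChev
import Cfsg.Agent.H53.TwistF4Res

/-!
Involutions of the large Ree groups: their centralisers lie in stable parabolic subgroups of `F₄`.
-/

set_option autoImplicit false
set_option linter.unusedSectionVars false
set_option maxHeartbeats 200000

namespace H21.F4Inv

open Cfsg.Lie H52 H53 H53.F4T H66.BT

/-- Coefficients of a root of `F₄`. -/
def co (r k : ℕ) : ℤ := tablesF4.co r k

/-- `lam = 2` exactly on the short roots. -/
def sh (r : ℕ) : Bool := if h : r < 48 then f4Ideal.lam ⟨r, h⟩ == 2 else false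

theorem sh_sigma : ∀ i : Fin chevF4.rank, ∀ r : Fin chevF4.nroots,
    sh (chevF4.reflectRoot i.val r.val) = sh r.val := by decide +kernel

theorem sh_neg : ∀ r : Fin chevF4.nroots, sh (chevF4.neg r.val) = sh r.val := by decide +kernel

theorem sh_rho : ∀ r : Fin chevF4.nroots, sh (f4Ideal.ρ r).val = !sh r.val := by decide +kernel

theorem phi_table : ∀ r : Fin chevF4.nroots, ∀ j : Fin chevF4.rank,
    (if sh r.val then 1 else 2) * co (f4Ideal.ρ r).val j.val =
      (if sh (chevF4.simple (Fin.rev j).val) then 1 else 2) * co r.val (Fin.rev j).val := by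
  decide +kernel

theorem even_coef : ∀ r : Fin chevF4.nroots, ∀ s : Fin chevF4.nroots, chevF4.nroots / 2 ≤ r.val →
    chevF4.nroots / 2 ≤ s.val → s ≠ r → ∀ c ∈ chevF4.commTerms r.val s.val,
      sh c.1 = false → sh s.val = true → c.2.2.2 = 1 → c.2.1 % 2 = 0 := by
  decide +kernel

theorem rho_simple' : ∀ i : Fin chevF4.rank,
    rho.symm (weylForF4.data.simple i) = weylForF4.data.simple (Fin.rev i) := by decide +kernel

theorem rho_rho : ∀ r : Fin chevF4.nroots, rho.symm r = rho r := by decide +kernel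

/-- The threshold weights: `√2` on short roots and `1` on long roots. -/
noncomputable def wt (r : ℕ) : ℝ := if sh r then Real.sqrt 2 else 1

theorem wt_pos (r : ℕ) : 0 < wt r := by
  unfold wt; split
  · positivity
  · exact one_pos

theorem one_le_wt (r : ℕ) : 1 ≤ wt r := by
  unfold wt; split
  · exact Real.one_le_sqrt.2 (by norm_num)
  · exact le_rfl

theorem wt_le (r : ℕ) : wt r ≤ Real.sqrt 2 := by
  unfold wt; split
  · exact le_rfl
  · exact Real.one_le_sqrt.2 (by norm_num)

theorem sqrt_two_le_two : Real.sqrt 2 ≤ 2 := by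
  rw [Real.sqrt_le_left] <;> norm_num

/-- The weighted functional. -/
noncomputable def wFun : (Fin chevF4.rank → ℝ) →ₗ[ℝ] (Fin chevF4.nroots → ℝ) where
  toFun c r := wt r.val * linFun chevF4 tablesF4 c r
  map_add' c c' := funext fun r => by simp [mul_add]
  map_smul' z c := funext fun r => by simp [mul_left_comm]

theorem wFun_apply (c : Fin chevF4.rank → ℝ) (r : Fin chevF4.nroots) :
    wFun c r = wt r.val * linFun chevF4 tablesF4 c r := rfl

theorem wFun_rho (c : Fin chevF4.rank → ℝ) :
    ∃ c', ∀ r, wFun c' r = wFun c (rho r) := by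
  refine ⟨fun k => Real.sqrt 2 / 2 * (c (Fin.rev k) * (if sh (chevF4.simple k.val) then 1 else 2)),
    fun r => ?_⟩
  have hs : Real.sqrt 2 * Real.sqrt 2 = 2 := Real.mul_self_sqrt (by norm_num)
  have h1 : linFun chevF4 tablesF4
      (fun k => Real.sqrt 2 / 2 * (c (Fin.rev k) * (if sh (chevF4.simple k.val) then 1 else 2))) r =
      Real.sqrt 2 / 2 * ((if sh r.val then 1 else 2) * linFun chevF4 tablesF4 c (rho r)) := by
    show ∑ k : Fin chevF4.rank, Real.sqrt 2 / 2 *
        (c (Fin.rev k) * (if sh (chevF4.simple k.val) then 1 else 2)) * ((tablesF4.co r.val k.val : ℤ) : ℝ) =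
      Real.sqrt 2 / 2 * ((if sh r.val then 1 else 2) *
        ∑ j : Fin chevF4.rank, c j * ((tablesF4.co (rho r).val j.val : ℤ) : ℝ))
    rw [Finset.mul_sum, Finset.mul_sum, ← Equiv.sum_comp Fin.revPerm]
    refine Finset.sum_congr rfl fun j _ => ?_
    have h := congrArg (fun z : ℤ => (z : ℝ)) (phi_table r j)
    push_cast at h
    simp only [Fin.revPerm_apply, Fin.rev_rev]
    unfold co at h
    rw [show rho r = f4Ideal.ρ r from rfl]
    linear_combination (-(Real.sqrt 2 / 2) * c j) * h
  rw [wFun_apply, wFun_apply, h1]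
  have h2 := sh_rho r
  unfold wt
  rw [show (rho r).val = (f4Ideal.ρ r).val from rfl, h2]
  cases sh r.val
  · simp
    ring
  · simp
    linear_combination (linFun chevF4 tablesF4 c (rho r) / 2) * hs

variable {K : Type*} [Field K]

/-- The positive roots where all functionals in `L` reach the threshold. -/
def cutSet (L : Set (Fin chevF4.nroots → ℝ)) (r : ℕ) : Prop :=
  ∃ h : r < chevF4.nroots, chevF4.nroots / 2 ≤ r ∧ ∀ f ∈ L, 1 ≤ f ⟨r, h⟩

theorem pos_comb {r s u : ℕ} (hr : chevF4.nroots / 2 ≤ r) (hr' : r < chevF4.nroots)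
    (hs : chevF4.nroots / 2 ≤ s) (hs' : s < chevF4.nroots) (hu : u < chevF4.nroots) {i j : ℕ}
    (hi : 1 ≤ i) (hj : 1 ≤ j)
    (hco : ∀ k < chevF4.rank, tablesF4.co u k = (i : ℤ) * tablesF4.co r k + (j : ℤ) * tablesF4.co s k) :
    chevF4.nroots / 2 ≤ u := by
  refine (checkedF4.key_pos_iff hu).1 ?_
  rw [key_comb checkedF4 hco]
  have k1 := (checkedF4.key_pos_iff hr').2 hr
  have k2 := (checkedF4.key_pos_iff hs').2 hs
  have k3 : (1 : ℤ) ≤ i := by exact_mod_cast hi
  have k4 : (1 : ℤ) ≤ j := by exact_mod_cast hj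
  nlinarith

theorem lin_comb {r s u : ℕ} (hr : r < chevF4.nroots) (hs : s < chevF4.nroots) (hu : u < chevF4.nroots)
    {i j : ℕ} (c : Fin chevF4.rank → ℝ)
    (hco : ∀ k < chevF4.rank, tablesF4.co u k = (i : ℤ) * tablesF4.co r k + (j : ℤ) * tablesF4.co s k) :
    linFun chevF4 tablesF4 c ⟨u, hu⟩ = (i : ℝ) * linFun chevF4 tablesF4 c ⟨r, hr⟩ +
      (j : ℝ) * linFun chevF4 tablesF4 c ⟨s, hs⟩ := by
  show ∑ k : Fin chevF4.rank, c k * (tablesF4.co u k.val : ℝ) =
    (i : ℝ) * ∑ k : Fin chevF4.rank, c k * (tablesF4.co r k.val : ℝ) +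
      (j : ℝ) * ∑ k : Fin chevF4.rank, c k * (tablesF4.co s k.val : ℝ)
  rw [Finset.mul_sum, Finset.mul_sum, ← Finset.sum_add_distrib]
  refine Finset.sum_congr rfl fun k _ => ?_
  rw [hco k.val k.isLt]; push_cast; ring

theorem closed_cutSet' {L : Set (Fin chevF4.nroots → ℝ)}
    (hL : L ⊆ (LinearMap.range wFun : Set (Fin chevF4.nroots → ℝ))) :
    ClosedPos chevF4 tablesF4 (cutSet L) := by
  refine ⟨fun r ⟨h, h', _⟩ => ⟨h', h⟩, ?_⟩
  rintro r s u ⟨hr, hr', hrL⟩ ⟨hs, hs', hsL⟩ hu i j hi hj hco
  refine ⟨hu, pos_comb hr' hr hs' hs hu hi hj hco, fun f hf => ?_⟩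
  obtain ⟨c, rfl⟩ := LinearMap.mem_range.1 (hL hf)
  have h1 : 1 ≤ wt r * linFun chevF4 tablesF4 c ⟨r, hr⟩ := hrL _ hf
  have h2 : 1 ≤ wt s * linFun chevF4 tablesF4 c ⟨s, hs⟩ := hsL _ hf
  rw [wFun_apply, lin_comb hr hs hu c hco]
  have hX : 1 ≤ Real.sqrt 2 * linFun chevF4 tablesF4 c ⟨r, hr⟩ := by
    nlinarith [wt_le r, wt_pos r]
  have hY : 1 ≤ Real.sqrt 2 * linFun chevF4 tablesF4 c ⟨s, hs⟩ := by
    nlinarith [wt_le s, wt_pos s]
  have h3 : (1 : ℝ) ≤ i := by exact_mod_cast hi
  have h4 : (1 : ℝ) ≤ j := by exact_mod_cast hj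
  set X := linFun chevF4 tablesF4 c ⟨r, hr⟩
  set Y := linFun chevF4 tablesF4 c ⟨s, hs⟩
  have hsum : 2 ≤ Real.sqrt 2 * ((i : ℝ) * X + (j : ℝ) * Y) := by nlinarith
  have h5 : 1 ≤ (i : ℝ) * X + (j : ℝ) * Y := by
    nlinarith [sqrt_two_le_two, Real.sqrt_pos.2 (show (0 : ℝ) < 2 by norm_num)]
  nlinarith [one_le_wt u]

/-- The weighted coweights of `F₄` in characteristic 2. -/
noncomputable def coweights (h2 : (2 : K) = 0) : Coweights (grpSys weylForF4 K) where
  space := LinearMap.range wFun
  height := wFun fun _ => 1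
  height_mem := LinearMap.mem_range_self _ _
  pos_iff r := by
    have h : chevF4.nroots / 2 ≤ r.val ↔ 1 ≤ linFun chevF4 tablesF4 (fun _ => 1) r :=
      (chevCoweights (F := K) checkedF4 weylForF4).pos_iff r
    show chevF4.nroots / 2 ≤ r.val ↔ 1 ≤ wFun (fun _ => 1) r
    rw [wFun_apply]
    constructor
    · intro hr
      nlinarith [h.1 hr, one_le_wt r.val]
    · intro hr
      by_contra hn
      have h0 : linFun chevF4 tablesF4 (fun _ => 1) r ≤ 0 :=
        linFun_nonpos checkedF4 (fun _ => zero_le_one) (not_le.1 hn)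
      nlinarith [wt_pos r.val]
  sigma_mem f hf i := by
    obtain ⟨c, rfl⟩ := LinearMap.mem_range.1 hf
    obtain ⟨c', hc'⟩ := LinearMap.mem_range.1 ((chevCoweights (F := K) checkedF4 weylForF4).sigma_mem
      _ (LinearMap.mem_range_self (linFun chevF4 tablesF4) c) i)
    refine LinearMap.mem_range.2 ⟨c', funext fun r => ?_⟩
    have hv : ((grpSys weylForF4 K).σ i r).val = chevF4.reflectRoot i.val r.val := by
      show (weylForF4.sigma i r).val = _
      rw [WeylFor.sigma_apply]; exact weylForF4.act_eq i r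
    rw [wFun_apply, wFun_apply, congrFun hc' r]
    simp only [wt, hv, sh_sigma]
  neg_val f hf r := by
    obtain ⟨c, rfl⟩ := LinearMap.mem_range.1 hf
    have h := (chevCoweights (F := K) checkedF4 weylForF4).neg_val _
      (LinearMap.mem_range_self (linFun chevF4 tablesF4) c) r
    rw [wFun_apply, wFun_apply, h]
    have hv : ((grpSys weylForF4 K).neg r).val = chevF4.neg r.val := rfl
    simp only [wt, hv, sh_neg, mul_neg]
  dom_pos f hf hd r hr := by
    obtain ⟨c, rfl⟩ := LinearMap.mem_range.1 hf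
    refine mul_nonneg (wt_pos _).le ((chevCoweights (F := K) checkedF4 weylForF4).dom_pos _
      (LinearMap.mem_range_self (linFun chevF4 tablesF4) c) (fun i => ?_) r hr)
    exact nonneg_of_mul_nonneg_right (hd i) (wt_pos _)
  refl f hf i h0 r := by
    obtain ⟨c, rfl⟩ := LinearMap.mem_range.1 hf
    have h := (chevCoweights (F := K) checkedF4 weylForF4).refl _
      (LinearMap.mem_range_self (linFun chevF4 tablesF4) c) i
      ((mul_eq_zero.1 h0).resolve_left (wt_pos _).ne') r
    have hv : ((grpSys weylForF4 K).σ i r).val = chevF4.reflectRoot i.val r.val := by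
      show (weylForF4.sigma i r).val = _
      rw [WeylFor.sigma_apply]; exact weylForF4.act_eq i r
    rw [wFun_apply, wFun_apply, h]
    simp only [wt, hv, sh_sigma]
  inter L hL M hM := by
    refine (Subgroup.map_le_map_iff_of_injective Subtype.val_injective).1 (?_ :
      (_ : Subgroup _).map (H53.grpInc chevF4 K) ≤ _)
    refine (Subgroup.map_inf_le _ _ _).trans ?_
    rw [map_cut checkedF4 weylForF4, map_cut checkedF4 weylForF4, map_cut checkedF4 weylForF4]
    refine (genBy_inf_le checkedF4 (closed_cutSet' hL) (closed_cutSet' hM)).trans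
      (H52.genBy_mono ?_)
    rintro r ⟨⟨h, h', hL'⟩, ⟨_, _, hM'⟩⟩
    exact ⟨h, h', fun f hf => hf.elim (hL' f) (hM' f)⟩
  norm f hf hd r hr x hx s hs y hy := by
    obtain ⟨c, rfl⟩ := LinearMap.mem_range.1 hf
    have hc : ∀ k, 0 ≤ c k := fun k => by
      have h := nonneg_of_mul_nonneg_right (hd k) (wt_pos _)
      rwa [linFun_simple checkedF4 weylForF4] at h
    have hnn : ∀ t : Fin chevF4.nroots, 1 ≤ wt t.val * linFun chevF4 tablesF4 c t →
        chevF4.nroots / 2 ≤ t.val := fun t ht => by
      by_contra hneg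
      nlinarith [wt_pos t.val, linFun_nonpos checkedF4 hc (not_le.1 hneg)]
    rw [← Subgroup.mem_map_iff_mem (f := H53.grpInc chevF4 K) Subtype.val_injective,
      map_cut checkedF4 weylForF4, map_mul, map_mul, map_inv]
    set P : ℕ → Prop := fun r => ∃ h : r < chevF4.nroots, chevF4.nroots / 2 ≤ r ∧
      ∀ f' ∈ ({wFun c} : Set (Fin chevF4.nroots → ℝ)), 1 ≤ f' ⟨r, h⟩ with hP
    have hyP : H53.grpInc chevF4 K y ∈ H52.genBy chevF4 K P := by
      have h1 : H53.grpInc chevF4 K y ∈ chevF4.rootSubgroup K s.val :=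
        H53.map_Usub (F := K) checkedF4 weylForF4 s ▸ Subgroup.mem_map_of_mem _ hy
      exact rootSubgroup_le_genBy checkedF4 (show P s.val from ⟨s.isLt, hnn s hs, fun f' hf' => by
        rw [Set.mem_singleton_iff.1 hf']; exact hs⟩) h1
    have hr' : chevF4.nroots / 2 ≤ r.val := hr
    have hconj : ∀ a : K, ∀ g ∈ H52.genBy chevF4 K P,
        rt chevF4 r.val a * g * (rt chevF4 r.val a)⁻¹ ∈ H52.genBy chevF4 K P := by
      intro a g hg
      induction hg using Subgroup.closure_induction with
      | mem g hg =>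
        obtain ⟨v, b, ⟨hv1, hv2, hv3⟩, rfl⟩ := hg
        have hPv : P v := ⟨hv1, hv2, hv3⟩
        by_cases hvr : v = r.val
        · subst hvr
          rw [checkedF4.rt_mul, checkedF4.rt_inv, checkedF4.rt_mul, show a + b + -a = b by ring]
          exact rt_mem_genBy hPv b
        · have hne' : v ≠ chevF4.neg r.val := fun e => by
            have h2' := checkedF4.nroots_eq
            have h1 := checkedF4.neg_eq r.isLt
            omega
          rw [checkedF4.rt_inv]
          conv => arg 2; rw [mul_assoc, checkedF4.comm_rt r.isLt hv1 hvr hne' (-a) b,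
            mul_assoc (rt chevF4 r.val (-a)), ← mul_assoc, checkedF4.rt_mul, add_neg_cancel,
            checkedF4.rt_zero, one_mul]
          refine mul_mem (rt_mem_genBy hPv b) (H52.Checked.wordRt_mem _ _ fun p hp => ?_)
          obtain ⟨d, hd', rfl⟩ := List.mem_map.1 hp
          obtain ⟨hi, hj, hco⟩ := checkedF4.commTerms_co r.isLt hv1 d hd'
          have hlt := checkedF4.commTerms_lt d hd'
          have hX : 0 ≤ linFun chevF4 tablesF4 c r := linFun_nonneg checkedF4 hc hr'
          have hY : 1 ≤ wt v * linFun chevF4 tablesF4 c ⟨v, hv1⟩ := hv3 _ rfl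
          have hi' : (1 : ℝ) ≤ (d.2.2.1 : ℕ) := by exact_mod_cast hi
          have hj' : (1 : ℝ) ≤ (d.2.2.2 : ℕ) := by exact_mod_cast hj
          by_cases hok : 1 ≤ wFun c ⟨d.1, hlt⟩
          · refine rt_mem_genBy ⟨hlt, pos_comb hr' r.isLt hv2 hv1 hlt hi hj hco, fun f' hf' => ?_⟩ _
            rw [Set.mem_singleton_iff.1 hf']
            exact hok
          · have hshort : sh d.1 = false ∧ sh v = true ∧ d.2.2.2 = 1 := by
              rw [wFun_apply, lin_comb r.isLt hv1 hlt c hco] at hok
              set X := linFun chevF4 tablesF4 c r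
              set Y := linFun chevF4 tablesF4 c ⟨v, hv1⟩
              refine ⟨?_, ?_, ?_⟩
              · by_contra hd1
                apply hok
                rw [Bool.not_eq_false] at hd1
                simp only [wt, hd1, if_true]
                have hY0 : 0 ≤ Y := by nlinarith [wt_pos v]
                have hle : Y ≤ (d.2.2.1 : ℕ) * X + (d.2.2.2 : ℕ) * Y := by
                  nlinarith [mul_nonneg (sub_nonneg.2 hj') hY0, mul_nonneg (zero_le_one.trans hi') hX]
                exact hY.trans ((mul_le_mul_of_nonneg_right (wt_le v) hY0).trans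
                  (mul_le_mul_of_nonneg_left hle (Real.sqrt_nonneg 2)))
              · by_contra hv
                apply hok
                rw [Bool.not_eq_true] at hv
                simp only [wt, hv, Bool.false_eq_true, if_false, one_mul] at hY
                have hY0 : 0 ≤ Y := zero_le_one.trans hY
                have hle : Y ≤ (d.2.2.1 : ℕ) * X + (d.2.2.2 : ℕ) * Y := by
                  nlinarith [mul_nonneg (sub_nonneg.2 hj') hY0, mul_nonneg (zero_le_one.trans hi') hX]
                exact (hY.trans hle).trans (le_mul_of_one_le_left (hY0.trans hle) (one_le_wt d.1))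
              · by_contra hj1
                apply hok
                have hj2 : (2 : ℝ) ≤ (d.2.2.2 : ℕ) := by
                  exact_mod_cast (show 2 ≤ d.2.2.2 by omega)
                have hY0 : 0 ≤ Y := by nlinarith [wt_pos v]
                have h2Y : 1 ≤ 2 * Y := by nlinarith [wt_le v, sqrt_two_le_two]
                have hle : 2 * Y ≤ (d.2.2.1 : ℕ) * X + (d.2.2.2 : ℕ) * Y := by
                  nlinarith [mul_nonneg (sub_nonneg.2 hj2) hY0, mul_nonneg (zero_le_one.trans hi') hX]
                exact (h2Y.trans hle).trans (le_mul_of_one_le_left ((by linarith : (0:ℝ) ≤ 2 * Y).trans hle)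
                  (one_le_wt d.1))
            have heven := even_coef r ⟨v, hv1⟩ hr' hv2 (fun e => hvr (congrArg Fin.val e)) d hd'
              hshort.1 hshort.2.1 hshort.2.2
            obtain ⟨z, hz⟩ := Int.dvd_of_emod_eq_zero heven
            have h0 : ((d.2.1 : ℤ) : K) = 0 := by
              rw [hz, Int.cast_mul, show ((2 : ℤ) : K) = (2 : K) by norm_num, h2, zero_mul]
            simp only [h0, zero_mul, checkedF4.rt_zero]
            exact one_mem _
      | one => simp
      | mul x y _ _ hx hy =>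
        have := mul_mem hx hy
        rwa [show rt chevF4 r.val a * x * (rt chevF4 r.val a)⁻¹ *
            (rt chevF4 r.val a * y * (rt chevF4 r.val a)⁻¹) =
          rt chevF4 r.val a * (x * y) * (rt chevF4 r.val a)⁻¹ by group] at this
      | inv x _ hx =>
        have := inv_mem hx
        rwa [show (rt chevF4 r.val a * x * (rt chevF4 r.val a)⁻¹)⁻¹ =
          rt chevF4 r.val a * x⁻¹ * (rt chevF4 r.val a)⁻¹ by group] at this
    have h1 : H53.grpInc chevF4 K x ∈ chevF4.rootSubgroup K r.val :=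
      H53.map_Usub (F := K) checkedF4 weylForF4 r ▸ Subgroup.mem_map_of_mem _ hx
    have hnorm : chevF4.rootSubgroup K r.val ≤
        Subgroup.normalizer (H52.genBy chevF4 K P : Set (GL chevF4.Idx K)) := by
      refine (Subgroup.closure_le _).2 ?_
      rintro z ⟨a, hz⟩
      rw [checkedF4.eq_rt hz, SetLike.mem_coe, Subgroup.mem_normalizer_iff]
      refine fun g => ⟨hconj a g, fun h => ?_⟩
      have := hconj (-a) _ h
      rwa [← checkedF4.rt_inv, show (rt chevF4 r.val a)⁻¹ * (rt chevF4 r.val a * g * (rt chevF4 r.val a)⁻¹) *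
        (rt chevF4 r.val a)⁻¹⁻¹ = g by group] at this
    exact (Subgroup.mem_normalizer_iff.1 (hnorm h1) _).1 hyP

theorem card_root [Fintype K] (r : Fin chevF4.nroots) :
    Nat.card ((grpSys weylForF4 K).U r) = Fintype.card K := by
  have hmem : ∀ t : K, (matSys chevF4 K).x r t ∈ (grpSys weylForF4 K).U r :=
    fun t => Subgroup.subset_closure ⟨t, rfl⟩
  let φ : Multiplicative K →* ↥(chevF4.group K) :=
    MonoidHom.mk' (fun t => (matSys chevF4 K).x r t.toAdd) fun s t =>
      Subtype.ext (checkedF4.rt_mul r.val s.toAdd t.toAdd).symm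
  have hU : (grpSys weylForF4 K).U r = φ.range := by
    refine le_antisymm ((Subgroup.closure_le _).2 ?_) ?_
    · rintro g ⟨t, rfl⟩
      exact ⟨Multiplicative.ofAdd t, rfl⟩
    · rintro g ⟨t, rfl⟩
      exact hmem _
  have hinj : Function.Injective φ := fun s t h =>
    Multiplicative.toAdd.injective (checkedF4.rt_injective r.isLt
      (congrArg (fun g : ↥(chevF4.group K) => (g : GL chevF4.Idx K)) h))
  rw [hU, ← Nat.card_congr (MonoidHom.ofInjective hinj).toEquiv, ← Nat.card_eq_fintype_card]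
  exact Nat.card_congr Multiplicative.toAdd

/-- The action of a word in the simple reflections. -/
def wact (w : List (Fin chevF4.rank)) (r : Fin chevF4.nroots) : Fin chevF4.nroots :=
  w.foldr weylForF4.data.act r

theorem wact_eq (w : List (Fin chevF4.rank)) (r : Fin chevF4.nroots) :
    (w.map weylForF4.sigma).prod r = wact w r := by
  induction w with
  | nil => rfl
  | cons i w ih =>
    rw [List.map_cons, List.prod_cons, Equiv.Perm.mul_apply, ih, WeylFor.sigma_apply]
    rfl

/-- The two proper stable sets of simple roots. -/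
def jSet (b : Bool) : List (Fin chevF4.rank) :=
  (if b then [1, 2] else [0, 3] : List (Fin 4))

/-- The Weyl groups of the stable sets, as lists of words. -/
def words (b : Bool) : List (List (Fin chevF4.rank)) :=
  (if b then [[], [1], [2], [1, 2], [2, 1], [1, 2, 1], [2, 1, 2], [1, 2, 1, 2]]
    else [[], [0], [3], [0, 3]] : List (List (Fin 4)))

theorem words_closed : ∀ b : Bool, ∀ i ∈ jSet b, ∀ w ∈ words b, ∃ w' ∈ words b,
    ∀ r, wact w' r = weylForF4.data.act i (wact w r) := by
  decide +kernel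

theorem words_inj : ∀ b : Bool, ∀ w ∈ words b, ∀ w' ∈ words b, w ≠ w' → ∃ r, wact w r ≠ wact w' r := by
  decide +kernel

theorem words_len : ∀ b : Bool, ∀ w ∈ words b, Fintype.card {r : Fin chevF4.nroots //
    chevF4.nroots / 2 ≤ r.val ∧ ¬ chevF4.nroots / 2 ≤ (wact w r).val} = w.length := by
  decide +kernel

theorem words_mem (b : Bool) : ∀ w ∈ words b,
    (w.map weylForF4.sigma).prod ∈ Subgroup.closure (weylForF4.sigma '' {i | i ∈ jSet b}) := by
  intro w hw
  refine list_prod_mem fun x hx => ?_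
  obtain ⟨i, hi, rfl⟩ := List.mem_map.1 hx
  refine Subgroup.subset_closure ⟨i, ?_, rfl⟩
  have key : ∀ b : Bool, ∀ w ∈ words b, ∀ i ∈ w, i ∈ jSet b := by decide +kernel
  exact key b w hw i hi

theorem weyl_list (b : Bool) (π : Equiv.Perm (Fin chevF4.nroots))
    (hπ : π ∈ Subgroup.closure (weylForF4.sigma '' {i | i ∈ jSet b})) :
    ∃ w ∈ words b, (w.map weylForF4.sigma).prod = π := by
  have hstep : ∀ i ∈ jSet b, ∀ τ, (∃ w ∈ words b, (w.map weylForF4.sigma).prod = τ) →
      ∃ w ∈ words b, (w.map weylForF4.sigma).prod = weylForF4.sigma i * τ := by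
    rintro i hi _ ⟨w, hw, rfl⟩
    obtain ⟨w', hw', he⟩ := words_closed b i hi w hw
    refine ⟨w', hw', Equiv.ext fun r => ?_⟩
    rw [Equiv.Perm.mul_apply, wact_eq, wact_eq, WeylFor.sigma_apply]
    exact he r
  have h1 : ∃ w ∈ words b, (w.map weylForF4.sigma).prod = 1 :=
    ⟨[], by cases b <;> exact List.mem_cons_self .., rfl⟩
  have := (Subgroup.closure_induction (p := fun x _ =>
    (∀ τ, (∃ w ∈ words b, (w.map weylForF4.sigma).prod = τ) → ∃ w ∈ words b, (w.map weylForF4.sigma).prod = x * τ) ∧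
    (∀ τ, (∃ w ∈ words b, (w.map weylForF4.sigma).prod = τ) → ∃ w ∈ words b, (w.map weylForF4.sigma).prod = x⁻¹ * τ))
    ?_ ?_ ?_ ?_ hπ).1 1 h1
  · simpa using this
  · rintro _ ⟨i, hi, rfl⟩
    refine ⟨hstep i hi, fun τ hτ => ?_⟩
    rw [show (weylForF4.sigma i)⁻¹ = weylForF4.sigma i from
      RootGroupSys.sigma_inv (grp_axioms (F := ZMod 2) checkedF4 weylForF4 ok) i]
    exact hstep i hi τ hτ
  · exact ⟨fun τ h => by simpa using h, fun τ h => by simpa using h⟩
  · rintro x y _ _ ⟨hx, hx'⟩ ⟨hy, hy'⟩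
    exact ⟨fun τ h => by rw [mul_assoc]; exact hx _ (hy τ h),
      fun τ h => by rw [mul_inv_rev, mul_assoc]; exact hy' _ (hx' τ h)⟩
  · rintro x _ ⟨hx, hx'⟩
    exact ⟨hx', by simpa using hx⟩

theorem card_stable_parabolic [Fintype K] (b : Bool) :
    Nat.card (TwBT.parJ (grpSys weylForF4 K) {i | i ∈ jSet b}) =
      Nat.card (grpSys weylForF4 K).B * ((words b).map fun w => Fintype.card K ^ w.length).sum := by
  classical
  have hS := grp_axioms (F := K) checkedF4 weylForF4 ok
  have hsep := grp_sep (F := K) checkedF4 weylForF4 ok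
  have := Fintype.ofFinite (Subgroup.closure ((grpSys weylForF4 K).σ '' {i | i ∈ jSet b}))
  rw [TwBT.card_parJ hS hsep]
  congr 1
  have hnd : (words b).Nodup := by cases b <;> decide
  rw [← List.sum_toFinset _ hnd]
  symm
  refine Finset.sum_bij (fun w hw => ⟨(w.map weylForF4.sigma).prod, words_mem b w (List.mem_toFinset.1 hw)⟩)
    (fun w hw => Finset.mem_univ _) ?_ ?_ ?_
  · intro w hw w' hw' he
    by_contra hne
    obtain ⟨r, hr⟩ := words_inj b w (List.mem_toFinset.1 hw) w' (List.mem_toFinset.1 hw') hne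
    exact hr (by rw [← wact_eq, ← wact_eq]; exact congrArg (fun x : Equiv.Perm _ => x r) (congrArg Subtype.val he))
  · rintro ⟨π, hπ⟩ -
    obtain ⟨w, hw, he⟩ := weyl_list b π hπ
    exact ⟨w, List.mem_toFinset.2 hw, Subtype.ext he⟩
  · intro w hw
    have hmem : (w.map weylForF4.sigma).prod ∈ (grpSys weylForF4 K).W :=
      list_prod_mem fun x hx => by
        obtain ⟨i, -, rfl⟩ := List.mem_map.1 hx
        exact Subgroup.subset_closure ⟨i, rfl⟩
    obtain ⟨v, -, hv⟩ := exists_acts_of_mem hS hmem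
    refine (H52.card_Uinv hS hsep card_root w.length v _ hv ?_).symm
    rw [← words_len b w (List.mem_toFinset.1 hw), ← Nat.card_eq_fintype_card, H52.invCard]
    refine Nat.card_congr (Equiv.subtypeEquivRight fun r => ?_)
    show _ ∧ ¬ chevF4.nroots / 2 ≤ ((w.map weylForF4.sigma).prod r).val ↔ _
    rw [wact_eq]
    rfl

end H21.F4Inv
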