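import Cfsg.Agent.H21.F4Invol
import Cfsg.Agent.H52.TorusCard

/-!
An element of a large Ree group commuting with an involution has order built from primes dividing `q(q⁴ - 1)`.
-/

set_option autoImplicit false
set_option linter.unusedSectionVars false
set_option maxHeartbeats 200000

namespace H21.F4Inv

open Cfsg.Lie H52 H53 H53.F4T H66.BT

variable {K : Type*} [Field K] [Fintype K] {m : ℕ}

theorem exists_stable_parabolic (hK : Fintype.card K = 2 ^ (2 * m + 1)) {X : Subgroup ↥(chevF4.group K)}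
    (hX : IsPGroup 2 ↥X) (hne : X ≠ ⊥) (hle : X ≤ (twistedF4 K (2 ^ m)).subgroupOf (chevF4.group K)) :
    ∃ g : ↥(chevF4.group K), ∃ b : Bool, ∀ n ∈ Subgroup.normalizer (X : Set ↥(chevF4.group K)),
      g⁻¹ * n * g ∈ TwBT.parJ (grpSys weylForF4 K) {i | i ∈ jSet b} := by
  classical
  obtain ⟨he, hperf, hc, f, hf⟩ := exists_params hK
  have h2 := two_eq hK
  haveI : Fact (Nat.Prime 2) := ⟨Nat.prime_two⟩
  haveI : CharP K 2 := (CharP.charP_iff_prime_eq_zero Nat.prime_two).2 (by simpa using h2)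
  have hT := hyp (hperf := hperf) (hc := hc) h2 hf he
  obtain ⟨P, hP⟩ := (⟨tablesF4, checkedF4, weylForF4, H54.chainOK_of_mem chevF4 (by simp)⟩ : H54.Ctx chevF4).exists_sylow
    (F := K) 2
  obtain ⟨Q, hQ⟩ := hX.exists_le_sylow
  obtain ⟨c, hc'⟩ := MulAction.exists_smul_eq ↥(chevF4.group K) Q P
  have hXc : ∀ x ∈ X, c⁻¹⁻¹ * x * c⁻¹ ∈ (grpSys weylForF4 K).Uplus := by
    intro x hx
    have h1 : c * x * c⁻¹ ∈ (P : Subgroup ↥(chevF4.group K)) := by
      rw [← hc']
      exact ⟨x, hQ hx, rfl⟩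
    rw [hP, Subgroup.mem_subgroupOf] at h1
    rw [inv_inv]
    exact (H53.mem_pos_iff checkedF4 weylForF4 _).1 h1
  have hsp : ∀ u ∈ (coweights h2).space, (fun r => u (rho.symm r)) ∈ (coweights h2).space := by
    intro u hu
    obtain ⟨e, rfl⟩ := LinearMap.mem_range.1 hu
    obtain ⟨e', he'⟩ := wFun_rho e
    exact LinearMap.mem_range.2 ⟨e', funext fun r => by rw [he', rho_rho]⟩
  obtain ⟨g, u, hu, -, hu0, hinv, hN⟩ := TwBT.exists_invariant (grp_axioms checkedF4 weylForF4 ok)
    (grp_sep checkedF4 weylForF4 ok) (coweights h2) (tau hperf hc f) rho hT.tau_U hT.pos_rho hsp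
    (fun i => ⟨Fin.rev i, rho_simple' i⟩) hne (fun x hx => hT.G1_fix x (hle hx)) hXc
  obtain ⟨e, rfl⟩ := LinearMap.mem_range.1 hu
  have hval : ∀ i, wFun e ((grpSys weylForF4 K).a i) = wt ((grpSys weylForF4 K).a i).val * e i := fun i => by
    rw [wFun_apply, linFun_simple checkedF4 weylForF4]
  have hrev : ∀ i, wFun e ((grpSys weylForF4 K).a (Fin.rev i)) = wFun e ((grpSys weylForF4 K).a i) := by
    intro i
    have h := hinv (rho.symm ((grpSys weylForF4 K).a i))
    rw [Equiv.apply_symm_apply] at h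
    rw [show (grpSys weylForF4 K).a (Fin.rev i) = rho.symm ((grpSys weylForF4 K).a i) from (rho_simple' i).symm]
    exact h.symm
  have hsub : ∃ b : Bool, ∀ i, wFun e ((grpSys weylForF4 K).a i) = 0 → i ∈ jSet b := by
    by_contra hcon
    push Not at hcon
    obtain ⟨i, hi, hi'⟩ := hcon true
    obtain ⟨j, hj, hj'⟩ := hcon false
    refine hu0 ?_
    suffices hall : ∀ k, wFun e ((grpSys weylForF4 K).a k) = 0 by
      have : e = 0 := funext fun k => by
        have h := hall k
        rw [hval] at h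
        exact (mul_eq_zero.1 h).resolve_left (wt_pos _).ne'
      rw [this, map_zero]
    have key : ∀ i j : Fin chevF4.rank, i ∉ jSet true → j ∉ jSet false → ∀ k,
        k = i ∨ k = Fin.rev i ∨ k = j ∨ k = Fin.rev j := by decide
    intro k
    rcases key i j hi' hj' k with rfl | rfl | rfl | rfl
    · exact hi
    · rw [hrev]; exact hi
    · exact hj
    · rw [hrev]; exact hj
  obtain ⟨b, hb⟩ := hsub
  refine ⟨g, b, fun n hn => ?_⟩
  refine (sup_le_sup_left (Subgroup.closure_mono ?_) _ :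
    par (grpSys weylForF4 K) (wFun e) ≤ TwBT.parJ _ _) (hN n hn)
  rintro _ ⟨i, hi, rfl⟩
  exact ⟨i, hb i hi, rfl⟩

theorem prime_dvd_parabolic (hK : Fintype.card K = 2 ^ (2 * m + 1)) (b : Bool) {r : ℕ} (hr : r.Prime)
    (hd : r ∣ Nat.card (TwBT.parJ (grpSys weylForF4 K) {i | i ∈ jSet b})) :
    r ∣ Fintype.card K * (Fintype.card K ^ 4 - 1) := by
  set q := Fintype.card K with hq
  have hq1 : 1 ≤ q := Fintype.card_pos
  have hU : Nat.card (grpSys weylForF4 K).Uplus = q ^ (chevF4.nroots / 2) := by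
    rw [← checkedF4.card_posUnipotent, ← H53.map_Uplus checkedF4 weylForF4]
    exact (Subgroup.card_map_of_injective Subtype.val_injective).symm
  have hH : Nat.card (grpSys weylForF4 K).H = Nat.card (chevF4.diagonalSubgroup K) := by
    rw [← H53.map_Hsub checkedF4 weylForF4]
    exact (Subgroup.card_map_of_injective Subtype.val_injective).symm
  have hD : Nat.card (chevF4.diagonalSubgroup K) ∣ (q - 1) ^ chevF4.rank :=
    Dvd.intro_left _ (checkedF4.card_diagonal divisorsF4)
  rw [card_stable_parabolic, H52.card_B (S := grpSys weylForF4 K) (grp_axioms checkedF4 weylForF4 ok)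
    (grp_sep checkedF4 weylForF4 ok), hU, hH] at hd
  have h4 : q ^ 4 - 1 = (q - 1) * ((1 + q) * (1 + q ^ 2)) := by
    obtain ⟨n, hn⟩ : ∃ n, q = n + 1 := ⟨q - 1, by omega⟩
    rw [hn, Nat.add_sub_cancel]
    exact Nat.sub_eq_of_eq_add (by ring)
  rw [h4]
  have hs : ((words b).map fun w => q ^ w.length).sum =
      if b then (1 + q) ^ 2 * (1 + q ^ 2) else (1 + q) ^ 2 := by
    have hlen : ∀ b : Bool, (words b).map List.length =
        if b then [0, 1, 1, 2, 2, 3, 3, 4] else [0, 1, 1, 2] := by decide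
    rw [show ((words b).map fun w => q ^ w.length) = ((words b).map List.length).map (q ^ ·) by
      rw [List.map_map]; rfl, hlen b]
    cases b <;> simp <;> ring
  rw [← hq, hs] at hd
  rcases hr.dvd_mul.1 hd with h | h
  · rcases hr.dvd_mul.1 h with h | h
    · exact (hr.dvd_of_dvd_pow h).mul_right _
    · exact ((hr.dvd_of_dvd_pow (h.trans hD)).mul_right _).mul_left _
  · cases b
    · exact (((hr.dvd_of_dvd_pow h).mul_right _).mul_left _).mul_left _
    · simp only [if_true] at h
      rcases hr.dvd_mul.1 h with h | h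
      · exact (((hr.dvd_of_dvd_pow h).mul_right _).mul_left _).mul_left _
      · exact ((h.mul_left _).mul_left _).mul_left _

theorem prime_dvd_of_commute (hK : Fintype.card K = 2 ^ (2 * m + 1))
    {a b : ↥(twistedF4 K (2 ^ m))} (ha : orderOf a = 2) (hab : Commute a b) {r : ℕ} (hr : r.Prime)
    (hd : r ∣ orderOf b) : r ∣ Fintype.card K * (Fintype.card K ^ 4 - 1) := by
  let φ : ↥(twistedF4 K (2 ^ m)) →* ↥(chevF4.group K) := Subgroup.inclusion (twisted_le _)
  have hφ : Function.Injective φ := Subgroup.inclusion_injective _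
  have ha' : orderOf (φ a) = 2 := (orderOf_injective φ hφ a).trans ha
  haveI : Fact (Nat.Prime 2) := ⟨Nat.prime_two⟩
  have hX : IsPGroup 2 ↥(Subgroup.zpowers (φ a)) :=
    IsPGroup.of_card (n := 1) (by rw [Nat.card_zpowers, ha', pow_one])
  have hne : Subgroup.zpowers (φ a) ≠ ⊥ := by
    rw [ne_eq, Subgroup.zpowers_eq_bot]
    intro h
    rw [h, orderOf_one] at ha'
    omega
  obtain ⟨g, j, hg⟩ := exists_stable_parabolic hK hX hne (Subgroup.zpowers_le.2 a.2)
  have hcomm : φ b * φ a = φ a * φ b := (hab.map φ).eq.symm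
  have hn : φ b ∈ Subgroup.normalizer (Subgroup.zpowers (φ a) : Set ↥(chevF4.group K)) := by
    rw [Subgroup.mem_normalizer_iff]
    intro z
    have hz : ∀ y ∈ Subgroup.zpowers (φ a), Commute (φ b) y := by
      intro y hy
      obtain ⟨k, rfl⟩ := Subgroup.mem_zpowers_iff.1 hy
      exact Commute.zpow_right hcomm k
    constructor
    · intro h
      rwa [(hz z h).eq, mul_inv_cancel_right]
    · intro h
      have h1 := hz _ h
      have h2 : z = φ b * z * (φ b)⁻¹ := by
        have := h1.eq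
        calc z = (φ b)⁻¹ * (φ b * z * (φ b)⁻¹ * φ b) := by group
          _ = _ := by rw [← this]; group
      rwa [h2]
  have hmem := hg _ hn
  refine prime_dvd_parabolic hK j hr (hd.trans ?_)
  rw [← orderOf_injective φ hφ b, ← (SemiconjBy.orderOf_eq (g⁻¹) (show SemiconjBy g⁻¹ (φ b) (g⁻¹ * φ b * g) by
    show g⁻¹ * φ b = g⁻¹ * φ b * g * g⁻¹
    group)).symm]
  calc orderOf (g⁻¹ * φ b * g)
      = orderOf (⟨_, hmem⟩ : TwBT.parJ (grpSys weylForF4 K) {i | i ∈ jSet j}) := (Subgroup.orderOf_mk _ _).symm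
    _ ∣ _ := orderOf_dvd_natCard _

end H21.F4Inv
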