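import Cfsg.Agent.H21.NormalPLift
import Cfsg.Agent.H21.FongReynolds
import Cfsg.Agent.H15.Extension
import Cfsg.Agent.H25.FongChar
import Cfsg.Agent.H20.OrthConv
import Cfsg.Agent.S4492

/-!
Harada: in a `p`-solvable group a set of characters whose degree-weighted sum vanishes on the
singular elements is a union of blocks.
-/

set_option autoImplicit false
set_option linter.style.haveILetI false
set_option linter.unusedSectionVars false

namespace H21

open Cfsg Module H15
open scoped ComplexConjugate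

universe u

section Cover

variable {G : Type u} [Group G] [Finite G] {R : Subgroup G} [R.Normal]
variable {V : Type} [AddCommGroup V] [Module ℂ V] [FiniteDimensional ℂ V]
variable {ρ : Representation ℂ R V}

/-- The central cover, with kernel of order prime to `p`. -/
theorem exists_cover_pPrime {p : ℕ} [hp : Fact p.Prime] [ρ.IsIrreducible]
    (hpR : ¬ p ∣ finrank ℂ V * Nat.card R)
    (hinv : ∀ (g : G) (r : R), ρ.character (MulAut.conjNormal g r) = ρ.character r) :
    ∃ (E : Type u) (_ : Group E) (_ : Finite E) (π : E →* G) (ι : R →* E)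
      (η : Representation ℂ E V), Function.Surjective π ∧ (∀ r, π (ι r) = r) ∧ ι.range.Normal ∧
      (∀ x, π x = 1 → x ∈ Subgroup.center E) ∧ (∀ r, η (ι r) = ρ r) ∧ ¬ p ∣ Nat.card π.ker := by
  classical
  have : Nontrivial V := H12.nontrivial_of_isIrreducible ρ
  set d := finrank ℂ V with hd
  have hd0 : 0 < d := Module.finrank_pos
  set m := Nat.card R with hm
  have hm0 : 0 < m := Nat.card_pos
  let D : (Module.End ℂ V)ˣ →* ℂ :=
    (LinearMap.det : Module.End ℂ V →* ℂ).comp (Units.coeHom (Module.End ℂ V))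
  let E : Subgroup (G × (Module.End ℂ V)ˣ) :=
    { carrier := {x | Intw R ρ x.1 x.2 ∧ D x.2 ^ m = 1}
      one_mem' := ⟨Intw.one, by simp⟩
      mul_mem' := by
        rintro ⟨g, M⟩ ⟨h, N⟩ ⟨h1, h2⟩ ⟨h3, h4⟩
        exact ⟨h1.mul h3, by simp [mul_pow, h2, h4]⟩
      inv_mem' := by
        rintro ⟨g, M⟩ ⟨h1, h2⟩
        refine ⟨h1.inv, ?_⟩
        have h3 : D M * D M⁻¹ = 1 := by rw [← map_mul, mul_inv_cancel, map_one]
        have := congrArg (· ^ m) h3
        simpa [mul_pow, h2] using this }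
  let π : E →* G := (MonoidHom.fst G (Module.End ℂ V)ˣ).comp E.subtype
  have hdet : ∀ r : R, D (repUnit R ρ r) ^ m = 1 := by
    intro r
    rw [← map_pow, ← map_pow, hm, pow_card_eq_one', map_one, map_one]
  let ι : R →* E := (R.subtype.prod (repUnit R ρ)).codRestrict E fun r => ⟨Intw.rep r, hdet r⟩
  have hsc : ∀ (M : (Module.End ℂ V)ˣ), Intw R ρ 1 M → ∃ c : ℂˣ, M = scU V c := by
    intro M hM
    obtain ⟨c, hc⟩ := Intw.scalar_of_eq hM Intw.one
    exact ⟨c, by rw [hc, mul_one]⟩
  have hsurj : Function.Surjective π := by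
    intro g
    obtain ⟨M, hM⟩ := Intw.exists_of_inv hinv g
    have hM0 : D M ≠ 0 := (IsUnit.map (LinearMap.det : Module.End ℂ V →* ℂ) M.isUnit).ne_zero
    obtain ⟨c, hc⟩ := IsAlgClosed.exists_pow_nat_eq (D M)⁻¹ hd0
    have hc0 : c ≠ 0 := by
      rintro rfl
      rw [zero_pow hd0.ne'] at hc
      exact inv_ne_zero hM0 hc.symm
    refine ⟨⟨(g, scU V (Units.mk0 c hc0) * M), ?_, ?_⟩, rfl⟩
    · simpa using (Intw.scalar (Units.mk0 c hc0)).mul hM
    · have : D (scU V (Units.mk0 c hc0) * M) = 1 := by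
        rw [map_mul]
        simp [D, scU_val, LinearMap.det_smul, ← hd, hc, hM0]
        exact inv_mul_cancel₀ hM0
      simp [this]
  have hker : ∀ x : π.ker, ∃ c : ℂˣ, c ^ (d * m) = 1 ∧ x.1.1.2 = scU V c := by
    rintro ⟨⟨⟨g, M⟩, h1, h2⟩, hx⟩
    have hg : g = 1 := hx
    subst hg
    obtain ⟨c, rfl⟩ := hsc M h1
    refine ⟨c, ?_, rfl⟩
    apply Units.ext
    have : D (scU V c) = (c : ℂ) ^ d := by simp [D, scU_val, LinearMap.det_smul, hd]
    simp only [this] at h2
    simpa [pow_mul] using h2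
  choose c hc hc' using hker
  have hfinker : Finite π.ker := by
    have : Finite {c : ℂˣ // c ^ (d * m) = 1} := by
      have : NeZero (d * m) := ⟨(Nat.mul_pos hd0 hm0).ne'⟩
      exact Finite.of_equiv (rootsOfUnity (d * m) ℂ) (Equiv.subtypeEquivRight fun _ => Iff.rfl)
    refine Finite.of_injective (fun x => (⟨c x, hc x⟩ : {c : ℂˣ // c ^ (d * m) = 1})) ?_
    intro x y h
    have h' : c x = c y := congrArg Subtype.val h
    apply Subtype.ext
    apply Subtype.ext
    refine Prod.ext ((MonoidHom.mem_ker.1 x.2).trans (MonoidHom.mem_ker.1 y.2).symm) ?_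
    rw [hc' x, hc' y, h']
  have : Finite E := π.finite_iff_finite_ker_range.2 ⟨hfinker, inferInstance⟩
  refine ⟨E, inferInstance, inferInstance, π, ι,
    (Units.coeHom (Module.End ℂ V)).comp ((MonoidHom.snd G (Module.End ℂ V)ˣ).comp E.subtype),
    hsurj, fun r => rfl, ⟨?_⟩, ?_, fun r => rfl, ?_⟩
  · rintro _ ⟨r, rfl⟩ ⟨⟨g, M⟩, h1, h2⟩
    refine ⟨MulAut.conjNormal g r, ?_⟩
    refine Subtype.ext (Prod.ext ?_ (Units.ext ?_))
    · show ((MulAut.conjNormal g r : R) : G) = g * r * g⁻¹
      simp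
    · show ρ (MulAut.conjNormal g r) = (M : Module.End ℂ V) * ρ r * ((M⁻¹ : (Module.End ℂ V)ˣ) : Module.End ℂ V)
      rw [h1 r, Units.mul_inv_cancel_right]
  · intro x hx
    rw [Subgroup.mem_center_iff]
    intro y
    have e := hc' ⟨x, hx⟩
    have hx1 : x.1.1 = 1 := hx
    refine Subtype.ext (Prod.ext ?_ ?_)
    · show y.1.1 * x.1.1 = x.1.1 * y.1.1
      rw [hx1, mul_one, one_mul]
    · show y.1.2 * x.1.2 = x.1.2 * y.1.2
      rw [e, scU_central]
  · intro hdvd
    obtain ⟨x, hx⟩ := exists_prime_orderOf_dvd_card' p hdvd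
    have e1 : (x ^ (d * m) : π.ker) = 1 := by
      have hxE : ((x ^ (d * m) : π.ker) : E).1.2 = 1 := by
        rw [SubmonoidClass.coe_pow, SubmonoidClass.coe_pow, Prod.pow_snd, hc' x, ← map_pow, hc x,
          map_one]
      refine Subtype.ext (Subtype.ext (Prod.ext ?_ ?_))
      · exact MonoidHom.mem_ker.1 (x ^ (d * m)).2
      · exact hxE
    exact hpR (hx ▸ orderOf_dvd_of_pow_eq_one e1)

end Cover

variable {G : Type u} [Group G] [Fintype G] {p : ℕ} [hp : Fact p.Prime]
  {M : Ideal AlgInt} [hMp : M.IsPrime]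

theorem dvd_orderOf_mul_of_pPrime (N : Subgroup G) [hN : N.Normal] (hpN : ¬ p ∣ Nat.card N) {x : G}
    (hx : p ∣ orderOf x) : p ∣ orderOf (x : G ⧸ N) := by
  by_contra h
  set o := orderOf (x : G ⧸ N)
  have hmem : x ^ o ∈ N := by
    rw [← QuotientGroup.eq_one_iff, QuotientGroup.mk_pow, pow_orderOf_eq_one]
  have h1 : x ^ (o * Nat.card N) = 1 := by
    rw [pow_mul]
    exact congrArg Subtype.val (pow_card_eq_one' (x := (⟨x ^ o, hmem⟩ : N)))
  exact (hp.out.dvd_mul.1 (hx.trans (orderOf_dvd_of_pow_eq_one h1))).elim h hpN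

theorem dvd_orderOf_of_coset (N : Subgroup G) [hN : N.Normal] {x : G}
    (hx : p ∣ orderOf (x : G ⧸ N)) {n : G} (hn : n ∈ N) : p ∣ orderOf (x * n) := by
  refine hx.trans ?_
  have h := orderOf_map_dvd (QuotientGroup.mk' N) (x * n)
  rwa [QuotientGroup.mk'_apply, QuotientGroup.mk_mul, (QuotientGroup.eq_one_iff n).2 hn,
    mul_one] at h

section Inertia

variable (N T : Subgroup G) [hN : N.Normal] [Fintype N] [Fintype T] (hNT : N ≤ T)
  {b : Set (IrrCharacter N)} (hst : IsBlockStab N T b)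

/-- The correspondents over `b` of the members of `U`. -/
def inertiaSet (b : Set (IrrCharacter N)) (U : Set (IrrCharacter G)) : Set (IrrCharacter T) :=
  {φ | OverB N T hNT b φ ∧ ∃ χ ∈ U, (χ : G → ℂ) = indFun T (φ : T → ℂ)}

include hst in
theorem sqVanish_inertiaSet (hpN : ¬ p ∣ Nat.card N) {U : Set (IrrCharacter G)}
    (hU : SqVanish p U) : SqVanish p (inertiaSet N T hNT b U) := by
  classical
  intro x hx
  set z : T → ℂ := fun t => if h : (t : G) ∈ N then blockCoeff b ⟨(t : G), h⟩ else 0 with hz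
  have hzcl : IsClassFunction T z := (isCl_zeC N T hst).isClassFunction
  have hproj : ∀ φ : IrrCharacter T, ∑ t : T, z t * (φ : T → ℂ) (t * x) =
      if OverB N T hNT b φ then (φ : T → ℂ) x else 0 := by
    intro φ
    rw [sum_mul_shift φ z hzcl x]
    have h := (over_all N T hNT hst (φ := φ)).2
    rw [H20.omega] at h
    simp only [zeC, H20.coeff_ofFun] at h
    simp only [hz]
    rw [h, ite_mul, one_mul, zero_mul]
  have hzero : ∀ t : T, z t * ∑ᶠ χ ∈ U, (χ : G → ℂ) 1 * (χ : G → ℂ) ((t : G) * x) = 0 := by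
    intro t
    by_cases ht : (t : G) ∈ N
    · rw [hU _ ?_, mul_zero]
      rw [show (t : G) * (x : G) = (x : G) * ((x : G)⁻¹ * t * x) by group]
      exact dvd_orderOf_of_coset N (dvd_orderOf_mul_of_pPrime N hpN (by rwa [Subgroup.orderOf_coe]))
        (by simpa using hN.conj_mem _ ht (x : G)⁻¹)
    · simp [hz, dif_neg ht]
  have hres : ∀ χ : IrrCharacter G, ∑ t : T, z t * (χ : G → ℂ) ((t : G) * x) =
      ∑ φ : IrrCharacter T, (if OverB N T hNT b φ ∧ (χ : G → ℂ) = indFun T (φ : T → ℂ) then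
        (φ : T → ℂ) x else 0) := by
    intro χ
    obtain ⟨m, hm⟩ := H12.IsCharacter.exists_mult (H12.IsCharacter.res (H12.isCharacter_irr χ) T)
    have hval : ∀ t : T, (χ : G → ℂ) ((t : G) * x) = ∑ φ, (m φ : ℂ) * (φ : T → ℂ) (t * x) :=
      fun t => by
        have := congrFun hm (t * x)
        simpa using this
    simp only [hval, Finset.mul_sum]
    rw [Finset.sum_comm]
    refine Finset.sum_congr rfl fun φ _ => ?_
    simp only [mul_left_comm (z _)]
    rw [← Finset.mul_sum, hproj]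
    by_cases hov : OverB N T hNT b φ
    · obtain ⟨χφ, hχφ, -, -⟩ := exists_ind_irr N T hNT hst φ hov
      have hmφ : (m φ : ℂ) = if χ = χφ then 1 else 0 := by
        have h1 : classInner (fun t : T => (χ : G → ℂ) t) (φ : T → ℂ) = (m φ : ℂ) := by
          rw [hm, H12.classInner_sum_smul_irr]
        rw [← h1, ← H12.classInner_indFun_right T _ (H12.irr_isClassFunction χ), ← hχφ]
        split_ifs with he
        · subst he; exact H12.classInner_irr_self χ
        · exact H12.classInner_irr_ne he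
      rw [if_pos hov, hmφ]
      by_cases he : χ = χφ
      · rw [if_pos he, if_pos ⟨hov, by rw [he]; exact hχφ⟩, one_mul]
      · rw [if_neg he, zero_mul, if_neg]
        exact fun h => he (Subtype.ext (h.2.trans hχφ.symm))
    · rw [if_neg hov, mul_zero, if_neg fun h => hov h.1]
  have hsum := Finset.sum_eq_zero (s := Finset.univ) fun t _ => hzero t
  simp only [H20.finsum_mem_eq_sum_ite, Finset.mul_sum] at hsum
  rw [Finset.sum_comm] at hsum
  rw [H20.finsum_mem_eq_sum_ite]
  have hterm : ∀ χ : IrrCharacter G,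
      ∑ t : T, z t * (if χ ∈ U then (χ : G → ℂ) 1 * (χ : G → ℂ) ((t : G) * x) else 0) =
      ∑ φ : IrrCharacter T, (if OverB N T hNT b φ ∧ χ ∈ U ∧ (χ : G → ℂ) = indFun T (φ : T → ℂ) then
        (T.index : ℂ) * ((φ : T → ℂ) 1 * (φ : T → ℂ) x) else 0) := by
    intro χ
    by_cases hχ : χ ∈ U
    · simp only [hχ, if_true, true_and, mul_left_comm (z _)]
      rw [← Finset.mul_sum, hres, Finset.mul_sum]
      refine Finset.sum_congr rfl fun φ _ => ?_
      split_ifs with h
      · rw [h.2, H12.indFun_one]; ring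
      · rw [mul_zero]
    · simp [hχ]
  rw [Finset.sum_congr rfl fun χ _ => hterm χ, Finset.sum_comm] at hsum
  have hfin : ∀ φ : IrrCharacter T, ∑ χ : IrrCharacter G,
      (if OverB N T hNT b φ ∧ χ ∈ U ∧ (χ : G → ℂ) = indFun T (φ : T → ℂ) then
        (T.index : ℂ) * ((φ : T → ℂ) 1 * (φ : T → ℂ) x) else 0) =
      (T.index : ℂ) * (if φ ∈ inertiaSet N T hNT b U then (φ : T → ℂ) 1 * (φ : T → ℂ) x else 0) := by
    intro φ
    by_cases h : φ ∈ inertiaSet N T hNT b U
    · obtain ⟨hov, χ, hχ, he⟩ := id h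
      rw [if_pos h, Finset.sum_eq_single χ, if_pos ⟨hov, hχ, he⟩]
      · intro χ' _ hne
        exact if_neg fun h' => hne (Subtype.ext (h'.2.2.trans he.symm))
      · simp
    · rw [if_neg h, mul_zero]
      exact Finset.sum_eq_zero fun χ _ => if_neg fun h' => h ⟨h'.1, χ, h'.2.1, h'.2.2⟩
  rw [Finset.sum_congr rfl fun φ _ => hfin φ, ← Finset.mul_sum, mul_eq_zero] at hsum
  exact hsum.resolve_left (Nat.cast_ne_zero.2 Subgroup.index_ne_zero_of_finite)

end Inertia

/-- Invariant case, given the result for groups with smaller `p`-part. -/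
theorem mem_of_invariant (hM : IsPModular p M) (hsolv : IsPSolvable p G)
    (IH : ∀ (K : Type u) [Group K] [Fintype K],
      (Nat.card K).factorization p < (Nat.card G).factorization p → IsPSolvable p K →
        ∀ W : Set (IrrCharacter K), SqVanish p W → ∀ β ∈ W, blockOf M (β : K → ℂ) ⊆ W)
    (N : Subgroup G) [hN : N.Normal] [Fintype N] (hNdef : N = pPrimeCore p G)
    (hpG : p ∣ Nat.card G) (θ : IrrCharacter N)
    (hinv : ∀ (g : G) (n : N), (θ : N → ℂ) ⟨g * n * g⁻¹, hN.conj_mem n n.2 g⟩ = (θ : N → ℂ) n)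
    {U : Set (IrrCharacter G)} (hU : SqVanish p U) {χ ψ : IrrCharacter G} (hχU : χ ∈ U)
    (hχ : classInner (fun n : N => (χ : G → ℂ) n) (θ : N → ℂ) ≠ 0)
    (hψ : classInner (fun n : N => (ψ : G → ℂ) n) (θ : N → ℂ) ≠ 0) : ψ ∈ U := by
  classical
  have hpN : ¬ p ∣ Nat.card N := fun h => by
    have := H1.card_pPrimeCore_coprime p G
    rw [← hNdef] at this
    exact (Nat.Prime.coprime_iff_not_dvd hp.out).1 this.symm h
  obtain ⟨d, ρ, hρ, hρθ⟩ := θ.2
  haveI := hρ
  have hθ1 : (θ : N → ℂ) 1 = (d : ℂ) := by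
    rw [← hρθ, Representation.char_one, Module.finrank_fin_fun]
  have hdN : finrank ℂ (Fin d → ℂ) ∣ Nat.card N := H12.degree_dvd_card ρ
  obtain ⟨E, _, _, π, ι, η, hπ, hπι, hnorm, hcent, hη, hker⟩ :=
    exists_cover_pPrime (p := p) (ρ := ρ) (R := N)
      (fun h => (hp.out.dvd_mul.1 h).elim (fun h' => hpN (h'.trans hdN)) hpN)
      (fun g r => by
        rw [hρθ]
        exact (congrArg (θ : N → ℂ) (Subtype.ext (MulAut.conjNormal_apply g r))).trans (hinv g r))
  haveI : Fintype E := Fintype.ofFinite E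
  haveI := hnorm
  haveI : Fintype ι.range := Fintype.ofFinite _
  haveI : Fintype (E ⧸ ι.range) := Fintype.ofFinite _
  have hinjι : Function.Injective ι := fun a c h => Subtype.ext (by rw [← hπι a, ← hπι c, h])
  let φi : N ≃* ι.range := MonoidHom.ofInjective hinjι
  have hφi : ∀ r, ((φi r : ι.range) : E) = ι r := fun r => rfl
  have hη_res : (fun m : ι.range => η.character m) = (θ : N → ℂ) ∘ φi.symm := by
    funext m
    obtain ⟨r, rfl⟩ := φi.surjective m
    simp only [Function.comp_apply, MulEquiv.symm_apply_apply]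
    rw [← hρθ, Representation.character, Representation.character, hφi, hη]
  have hirr : IsIrrCharacter ι.range (fun m : ι.range => η.character m) := by
    rw [hη_res]; exact H13.isIrrCharacter_comp_equiv φi.symm θ.2
  -- the factor for each character over `θ`
  have hfac : ∀ χ' : IrrCharacter G, classInner (fun n : N => (χ' : G → ℂ) n) (θ : N → ℂ) ≠ 0 →
      ∃ β : IrrCharacter (E ⧸ ι.range),
        ∀ e : E, (χ' : G → ℂ) (π e) = (β : E ⧸ ι.range → ℂ) (e : E ⧸ ι.range) * η.character e := by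
    intro χ' hne
    have hχ' : IsIrrCharacter E ((χ' : G → ℂ) ∘ π) := H12.IsIrrCharacter.comp_surjective χ'.2 hπ
    obtain ⟨β, hβ⟩ := H13.gallagher_exists ι.range (H12.isCharacter_character η) hirr hχ' (by
      rw [hη_res, show (fun m : ι.range => ((χ' : G → ℂ) ∘ π) m) =
        (fun n : N => (χ' : G → ℂ) n) ∘ φi.symm from funext fun m => by
          obtain ⟨r, rfl⟩ := φi.surjective m
          simp only [Function.comp_apply, MulEquiv.symm_apply_apply]
          rw [hφi, hπι], H12.classInner_comp_equiv]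
      exact hne)
    exact ⟨β, fun e => by
      rw [show (χ' : G → ℂ) (π e) = ((χ' : G → ℂ) ∘ π) e from rfl, hβ, Pi.mul_apply,
        H13.inflateIrr_apply]⟩
  -- in each coset the cover character is somewhere nonzero
  have hne0 : ∀ e : E, ∃ n : N, η.character (e * ι n) ≠ 0 := by
    intro e
    by_contra h
    push Not at h
    have key : ∀ B : Module.End ℂ (Fin d → ℂ), LinearMap.trace ℂ _ (η e * B) = 0 := by
      intro B
      exact H25.induction_of_irreducible ρ
        (LinearMap.ker ((LinearMap.trace ℂ _).comp (LinearMap.mulLeft ℂ (η e))))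
        (fun n => by
          rw [LinearMap.mem_ker, LinearMap.comp_apply, LinearMap.mulLeft_apply, ← hη n, ← map_mul]
          exact h n) B
    have h1 := key (η e⁻¹)
    rw [← map_mul, mul_inv_cancel, map_one, LinearMap.trace_one, Module.finrank_fin_fun] at h1
    exact H12.irr_apply_one_ne_zero θ (hθ1.trans h1)
  -- the projection to the characters over `θ`
  have hproj : ∀ x : G, p ∣ orderOf (x : G ⧸ N) →
      ∑ χ' : IrrCharacter G,
        (if χ' ∈ U ∧ classInner (fun n : N => (χ' : G → ℂ) n) (θ : N → ℂ) ≠ 0 then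
          (χ' : G → ℂ) 1 * (χ' : G → ℂ) x else 0) = 0 := by
    intro x hx
    set f : G → ℂ := fun y => if h : y ∈ N then conj ((θ : N → ℂ) ⟨y, h⟩) else 0 with hf
    have hfc : IsClassFunction G f := by
      intro y c
      by_cases hy : y ∈ N
      · simp only [hf, dif_pos hy, dif_pos (hN.conj_mem y hy c)]
        exact congrArg conj (hinv c ⟨y, hy⟩)
      · have hy' : c * y * c⁻¹ ∉ N := fun h =>
          hy (by simpa [mul_assoc] using hN.conj_mem _ h c⁻¹)
        simp only [hf, dif_neg hy, dif_neg hy']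
    have hfsum : ∀ F : G → ℂ, ∑ y : G, f y * F y = ∑ n : N, conj ((θ : N → ℂ) n) * F n := by
      intro F
      rw [← Finset.sum_subset (Finset.subset_univ (Finset.univ.filter (· ∈ N)))
        (fun y _ hy => by simp only [hf, dif_neg (by simpa using hy : y ∉ N), zero_mul]),
        Finset.sum_subtype (p := (· ∈ N)) _ (by simp)]
      exact Fintype.sum_congr _ _ fun n => by simp only [hf, dif_pos n.2]
    have hk : ∀ χ' : IrrCharacter G, (∑ y : G, f y * (χ' : G → ℂ) y) / (χ' : G → ℂ) 1 =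
        if classInner (fun n : N => (χ' : G → ℂ) n) (θ : N → ℂ) ≠ 0 then
          (Nat.card N : ℂ) / (θ : N → ℂ) 1 else 0 := by
      intro χ'
      have hsum : ∑ n : N, conj ((θ : N → ℂ) n) * (χ' : G → ℂ) n =
          (Nat.card N : ℂ) * classInner (fun n : N => (χ' : G → ℂ) n) (θ : N → ℂ) := by
        rw [H12.classInner_def, mul_inv_cancel_left₀ (H12.card_ne_zero' (G := N))]
        exact Finset.sum_congr rfl fun n _ => mul_comm _ _
      rw [hfsum, hsum]
      split_ifs with h
      · have hcl := congrFun (H13.clifford_res N χ'.2 θ.2 h {θ} fun φ => by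
          rw [Finset.mem_singleton]
          constructor
          · rintro rfl; exact ⟨1, H13.twist_one N _⟩
          · rintro ⟨c, hc⟩
            refine Subtype.ext ?_
            rw [← hc]
            exact funext fun n => hinv c n) 1
        simp only [Finset.sum_singleton, Pi.smul_apply, smul_eq_mul, OneMemClass.coe_one] at hcl
        rw [hcl]
        have := H12.irr_apply_one_ne_zero θ
        field_simp
      · rw [not_not] at h
        rw [h, mul_zero, zero_div]
    have hzero : ∑ y : G, f y * ∑ᶠ χ' ∈ U, (χ' : G → ℂ) 1 * (χ' : G → ℂ) (y * x) = 0 := by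
      refine Finset.sum_eq_zero fun y _ => ?_
      by_cases hy : y ∈ N
      · rw [hU _ ?_, mul_zero]
        rw [show y * x = x * (x⁻¹ * y * x) by group]
        exact dvd_orderOf_of_coset N hx (by simpa using hN.conj_mem _ hy x⁻¹)
      · simp [hf, dif_neg hy]
    simp only [H20.finsum_mem_eq_sum_ite, Finset.mul_sum] at hzero
    rw [Finset.sum_comm] at hzero
    have hc0 : (Nat.card N : ℂ) / (θ : N → ℂ) 1 ≠ 0 :=
      div_ne_zero (H12.card_ne_zero' (G := N)) (H12.irr_apply_one_ne_zero θ)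
    refine (mul_eq_zero.1 ?_).resolve_left hc0
    refine Eq.trans ?_ hzero
    rw [Finset.mul_sum]
    refine Finset.sum_congr rfl fun χ' _ => ?_
    by_cases hmem : χ' ∈ U
    · simp only [hmem, if_true, true_and, mul_left_comm (f _)]
      rw [← Finset.mul_sum, sum_mul_shift χ' f hfc x, hk χ']
      split_ifs <;> ring
    · simp [hmem]
  -- the quotient cover
  let C : Subgroup (E ⧸ ι.range) := π.ker.map (QuotientGroup.mk' ι.range)
  have hmap : ι.range ≤ N.comap π := by
    rintro _ ⟨r, rfl⟩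
    rw [Subgroup.mem_comap, hπι]
    exact r.2
  let F : E ⧸ ι.range →* G ⧸ N := QuotientGroup.map ι.range N π hmap
  have hF : ∀ e : E, F (e : E ⧸ ι.range) = ((π e : G) : G ⧸ N) := fun e => rfl
  have hFs : Function.Surjective F := by
    intro y
    obtain ⟨g, rfl⟩ := QuotientGroup.mk_surjective y
    obtain ⟨e, rfl⟩ := hπ g
    exact ⟨(e : E ⧸ ι.range), rfl⟩
  have hkerF : F.ker = C := by
    ext z
    obtain ⟨e, rfl⟩ := QuotientGroup.mk_surjective z
    constructor
    · intro he
      rw [MonoidHom.mem_ker, hF, QuotientGroup.eq_one_iff] at he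
      refine ⟨e * (ι ⟨π e, he⟩)⁻¹, ?_, ?_⟩
      · show π _ = 1
        rw [map_mul, map_inv, hπι, mul_inv_cancel]
      · rw [QuotientGroup.mk'_apply, QuotientGroup.mk_mul,
          (QuotientGroup.eq_one_iff _).2 (inv_mem (show ι ⟨π e, he⟩ ∈ ι.range from ⟨_, rfl⟩)),
          mul_one]
    · rintro ⟨k, hk, hke⟩
      rw [MonoidHom.mem_ker, ← hke, QuotientGroup.mk'_apply, hF, show π k = 1 from hk,
        QuotientGroup.mk_one]
  have hpC : ¬ p ∣ Nat.card F.ker := fun h => by
    rw [hkerF] at h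
    exact hker (h.trans (Subgroup.card_map_dvd _ _))
  have hCc : F.ker ≤ Subgroup.center (E ⧸ ι.range) := by
    rw [hkerF]
    rintro _ ⟨x, hx, rfl⟩
    rw [Subgroup.mem_center_iff]
    intro y
    obtain ⟨y, rfl⟩ := QuotientGroup.mk'_surjective _ y
    rw [← map_mul, ← map_mul, Subgroup.mem_center_iff.mp (hcent x hx) y]
  let W : Set (IrrCharacter (E ⧸ ι.range)) :=
    {β | ∃ χ' ∈ U, classInner (fun n : N => (χ' : G → ℂ) n) (θ : N → ℂ) ≠ 0 ∧
      ∀ e : E, (χ' : G → ℂ) (π e) = (β : E ⧸ ι.range → ℂ) (e : E ⧸ ι.range) * η.character e}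
  have huniq : ∀ (β β' : IrrCharacter (E ⧸ ι.range)), (∀ e : E,
      (β : E ⧸ ι.range → ℂ) (e : E ⧸ ι.range) * η.character e =
        (β' : E ⧸ ι.range → ℂ) (e : E ⧸ ι.range) * η.character e) → β = β' := by
    intro β β' h
    refine Subtype.ext (funext fun z => ?_)
    obtain ⟨e, rfl⟩ := QuotientGroup.mk_surjective z
    obtain ⟨n, hn⟩ := hne0 e
    have h1 := h (e * ι n)
    rw [QuotientGroup.mk_mul, (QuotientGroup.eq_one_iff (ι n)).2 (MonoidHom.mem_range.2 ⟨n, rfl⟩), mul_one] at h1
    exact mul_right_cancel₀ hn h1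
  have hW : SqVanish p W := by
    intro z hz
    obtain ⟨e, rfl⟩ := QuotientGroup.mk_surjective z
    obtain ⟨n, hn⟩ := hne0 e
    have hπn : ((π (e * ι n) : G) : G ⧸ N) = F (e : E ⧸ ι.range) := by
      rw [hF, map_mul, hπι, QuotientGroup.mk_mul, (QuotientGroup.eq_one_iff (n : G)).2 n.2, mul_one]
    have hsing : p ∣ orderOf ((π (e * ι n) : G) : G ⧸ N) := by
      rw [hπn]
      by_contra h
      set o := orderOf (F (e : E ⧸ ι.range))
      have hmem : (e : E ⧸ ι.range) ^ o ∈ F.ker := by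
        rw [MonoidHom.mem_ker, map_pow, pow_orderOf_eq_one]
      have h1 : (e : E ⧸ ι.range) ^ (o * Nat.card F.ker) = 1 := by
        rw [pow_mul]
        exact congrArg Subtype.val (pow_card_eq_one' (x := (⟨_, hmem⟩ : F.ker)))
      exact (hp.out.dvd_mul.1 (hz.trans (orderOf_dvd_of_pow_eq_one h1))).elim h hpC
    have h0 := hproj _ hsing
    rw [H20.finsum_mem_eq_sum_ite]
    refine (mul_eq_zero.1 ?_).resolve_left
      (mul_ne_zero (H12.irr_apply_one_ne_zero θ) hn)
    refine Eq.trans ?_ h0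
    rw [Finset.mul_sum]
    have hb : ∀ χ' : IrrCharacter G, classInner (fun n : N => (χ' : G → ℂ) n) (θ : N → ℂ) ≠ 0 →
        ∀ β : IrrCharacter (E ⧸ ι.range),
        (∀ e : E, (χ' : G → ℂ) (π e) = (β : E ⧸ ι.range → ℂ) (e : E ⧸ ι.range) * η.character e) →
        (χ' : G → ℂ) 1 * (χ' : G → ℂ) (π (e * ι n)) = (θ : N → ℂ) 1 * η.character (e * ι n) *
          ((β : E ⧸ ι.range → ℂ) 1 * (β : E ⧸ ι.range → ℂ) (e : E ⧸ ι.range)) := by
      intro χ' _ β hβ
      have h1 := hβ 1
      rw [map_one, QuotientGroup.mk_one, Representation.char_one, Module.finrank_fin_fun] at h1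
      rw [h1, hθ1, hβ (e * ι n), QuotientGroup.mk_mul,
        (QuotientGroup.eq_one_iff (ι n)).2 (MonoidHom.mem_range.2 ⟨n, rfl⟩), mul_one]
      ring
    have hW' : ∀ β : IrrCharacter (E ⧸ ι.range),
        (θ : N → ℂ) 1 * η.character (e * ι n) *
          (if β ∈ W then (β : E ⧸ ι.range → ℂ) 1 * (β : E ⧸ ι.range → ℂ) (e : E ⧸ ι.range) else 0) =
        ∑ χ' : IrrCharacter G, (if (χ' ∈ U ∧ classInner (fun n : N => (χ' : G → ℂ) n) (θ : N → ℂ) ≠ 0)
          ∧ ∀ e : E, (χ' : G → ℂ) (π e) = (β : E ⧸ ι.range → ℂ) (e : E ⧸ ι.range) * η.character e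
          then (χ' : G → ℂ) 1 * (χ' : G → ℂ) (π (e * ι n)) else 0) := by
      intro β
      by_cases h : β ∈ W
      · obtain ⟨χ', h1, h2, h3⟩ := id h
        rw [if_pos h, Finset.sum_eq_single χ', if_pos ⟨⟨h1, h2⟩, h3⟩, hb χ' h2 β h3]
        · intro χ'' _ hne
          refine if_neg fun h' => hne (Subtype.ext (funext fun g => ?_))
          obtain ⟨e', rfl⟩ := hπ g
          rw [h'.2, h3]
        · simp
      · rw [if_neg h, mul_zero]
        exact (Finset.sum_eq_zero fun χ' _ => if_neg fun h' => h ⟨χ', h'.1.1, h'.1.2, h'.2⟩).symm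
    rw [Finset.sum_congr rfl fun β _ => hW' β, Finset.sum_comm]
    refine Finset.sum_congr rfl fun χ' _ => ?_
    by_cases h : χ' ∈ U ∧ classInner (fun n : N => (χ' : G → ℂ) n) (θ : N → ℂ) ≠ 0
    · obtain ⟨β, hβ⟩ := hfac χ' h.2
      rw [if_pos h, Finset.sum_eq_single β, if_pos ⟨h, hβ⟩]
      · intro β' _ hne
        exact if_neg fun h' => hne (huniq _ _ fun e' => by rw [← hβ, ← h'.2])
      · simp
    · rw [if_neg h]
      exact Finset.sum_eq_zero fun β _ => if_neg fun h' => h h'.1
  -- solvability and `p`-part of the cover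
  haveI : Fintype F.ker := Fintype.ofFinite _
  have hsE : IsPSolvable p (E ⧸ ι.range) :=
    H10.isPSolvable_of_quotient_of_card F.ker
      (Or.inr ((Nat.Prime.coprime_iff_not_dvd hp.out).2 hpC).symm)
      (H10.isPSolvable_of_equiv (H10.isPSolvable_quotient hsolv N)
        (QuotientGroup.quotientKerEquivOfSurjective F hFs).symm)
  have hcardE : (Nat.card (E ⧸ ι.range)).factorization p = (Nat.card G).factorization p := by
    rw [Subgroup.card_eq_card_quotient_mul_card_subgroup F.ker,
      Nat.card_congr (QuotientGroup.quotientKerEquivOfSurjective F hFs).toEquiv,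
      Subgroup.card_eq_card_quotient_mul_card_subgroup N,
      Nat.factorization_mul Nat.card_pos.ne' Nat.card_pos.ne',
      Nat.factorization_mul Nat.card_pos.ne' Nat.card_pos.ne', Finsupp.add_apply, Finsupp.add_apply,
      Nat.factorization_eq_zero_of_not_dvd hpC, Nat.factorization_eq_zero_of_not_dvd hpN]
  -- a nontrivial normal `p`-subgroup of the cover
  have hcoreGN : pPrimeCore p (G ⧸ N) = ⊥ := by
    subst hNdef
    exact H1.pPrimeCore_quotient_pPrimeCore p
  have hpGN : p ∣ Nat.card (G ⧸ N) := by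
    rw [Subgroup.card_eq_card_quotient_mul_card_subgroup N] at hpG
    exact (hp.out.dvd_mul.1 hpG).resolve_right hpN
  haveI : Nontrivial (G ⧸ N) := Finite.one_lt_card_iff_nontrivial.1
    (lt_of_lt_of_le hp.out.one_lt (Nat.le_of_dvd Nat.card_pos hpGN))
  have hOp : pCore p (G ⧸ N) ≠ ⊥ :=
    (H10.pCore_or_pPrimeCore_ne_bot (H10.isPSolvable_quotient hsolv N)).resolve_right
      (fun h => h hcoreGN)
  haveI := H1.pCore_normal' p (G ⧸ N)
  set K : Subgroup (E ⧸ ι.range) := (pCore p (G ⧸ N)).comap F with hK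
  haveI hKn : K.Normal := by rw [hK]; exact Subgroup.Normal.comap inferInstance F
  have hkerK : F.ker ≤ K := fun x hx => by
    rw [hK, Subgroup.mem_comap, MonoidHom.mem_ker.1 hx]; exact one_mem _
  obtain ⟨j, hj⟩ := IsPGroup.iff_card.1 (H1.isPGroup_pCore p (G ⧸ N))
  have hj0 : j ≠ 0 := by
    intro h0
    rw [h0, pow_zero] at hj
    exact hOp (Subgroup.eq_bot_of_card_eq _ hj)
  have hidx : (F.ker.subgroupOf K).index = p ^ j := by
    rw [← hj, ← Subgroup.relIndex, Subgroup.relIndex_ker, hK,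
      Subgroup.map_comap_eq_self_of_surjective hFs]
  have hcardK : Nat.card K = p ^ j * Nat.card F.ker := by
    rw [← hidx, ← Subgroup.card_mul_index (F.ker.subgroupOf K), mul_comm,
      Nat.card_congr (Subgroup.subgroupOfEquivOfLe hkerK).toEquiv]
  let R : Sylow p K := default
  have hRcard : Nat.card (R : Subgroup K) = p ^ j := by
    rw [R.card_eq_multiplicity, hcardK, Nat.factorization_mul (pow_ne_zero _ hp.out.ne_zero)
      Nat.card_pos.ne', Finsupp.add_apply, hp.out.factorization_pow, Finsupp.single_eq_same,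
      Nat.factorization_eq_zero_of_not_dvd hpC, add_zero]
  have hRn : (R : Subgroup K).Normal := by
    rw [← Subgroup.normalizer_eq_top_iff, eq_top_iff]
    have hsup : (R : Subgroup K) ⊔ F.ker.subgroupOf K = ⊤ := by
      refine Subgroup.eq_top_of_card_eq _ (Nat.dvd_antisymm (Subgroup.card_subgroup_dvd_card _) ?_)
      rw [hcardK]
      refine Nat.Coprime.mul_dvd_of_dvd_of_dvd
        (((Nat.Prime.coprime_iff_not_dvd hp.out).2 hpC).pow_left j) ?_ ?_
      · rw [← hRcard]; exact Subgroup.card_dvd_of_le le_sup_left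
      · rw [← Nat.card_congr (Subgroup.subgroupOfEquivOfLe hkerK).toEquiv]
        exact Subgroup.card_dvd_of_le le_sup_right
    rw [← hsup]
    have hcen : F.ker.subgroupOf K ≤ Subgroup.centralizer ((R : Subgroup K) : Set K) := fun x hx y _ =>
      Subtype.ext (Subgroup.mem_center_iff.1 (hCc (Subgroup.mem_subgroupOf.1 hx)) (y : E ⧸ ι.range))
    exact sup_le Subgroup.le_normalizer (hcen.trans (Subgroup.centralizer_le_normalizer _))
  haveI := R.characteristic_of_normal hRn
  haveI := H1.pCore_normal' p (E ⧸ ι.range)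
  set Q : Subgroup (E ⧸ ι.range) := pCore p (E ⧸ ι.range) with hQdef
  have hQ : IsPGroup p Q := H1.isPGroup_pCore p _
  have hQne : Q ≠ ⊥ := by
    intro h0
    have hle : (R : Subgroup K).map K.subtype ≤ Q := H1.le_pCore (R.2.map K.subtype)
    rw [h0] at hle
    have := Subgroup.card_le_of_le hle
    rw [Subgroup.card_map_of_injective K.subtype_injective, hRcard, Subgroup.card_bot] at this
    exact absurd this (not_le.2 (Nat.one_lt_pow hj0 hp.out.one_lt))
  haveI : Fintype ((E ⧸ ι.range) ⧸ Q) := Fintype.ofFinite _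
  have hlt : (Nat.card ((E ⧸ ι.range) ⧸ Q)).factorization p < (Nat.card G).factorization p := by
    obtain ⟨i, hi⟩ := IsPGroup.iff_card.1 hQ
    have hi0 : i ≠ 0 := fun h0 => hQne (Subgroup.eq_bot_of_card_eq _ (by rw [hi, h0, pow_zero]))
    rw [← hcardE, Subgroup.card_eq_card_quotient_mul_card_subgroup Q,
      Nat.factorization_mul Nat.card_pos.ne' Nat.card_pos.ne', Finsupp.add_apply, hi,
      hp.out.factorization_pow, Finsupp.single_eq_same]
    omega
  have hclosed : ∀ β ∈ W, blockOf M (β : E ⧸ ι.range → ℂ) ⊆ W :=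
    closed_of_quotient Q hM hQ hW
      (IH _ hlt (H10.isPSolvable_quotient hsE Q) _ (sqVanish_quotSet Q hW))
  -- the two factors lie in one block
  obtain ⟨βχ, hβχ⟩ := hfac χ hχ
  obtain ⟨βψ, hβψ⟩ := hfac ψ hψ
  haveI hNEn : (pPrimeCore p (E ⧸ ι.range)).Normal := H1.pPrimeCore_normal' p _
  set NE : Subgroup (E ⧸ ι.range) := pPrimeCore p (E ⧸ ι.range) with hNE
  haveI := Fintype.ofFinite NE
  have hNEC : NE ≤ F.ker := by
    intro x hx
    rw [MonoidHom.mem_ker]
    haveI : (NE.map F).Normal := hNEn.map F hFs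
    have := H1.le_pPrimeCore (p := p) (N := NE.map F)
      ((H1.card_pPrimeCore_coprime p _).coprime_dvd_left (Subgroup.card_map_dvd _ _))
      (Subgroup.mem_map_of_mem F hx)
    rwa [hcoreGN, Subgroup.mem_bot] at this
  have hprop : ∀ c : NE, (βψ : E ⧸ ι.range → ℂ) c * (χ : G → ℂ) 1 =
      (βχ : E ⧸ ι.range → ℂ) c * (ψ : G → ℂ) 1 := by
    intro c
    have hc := hNEC c.2
    rw [hkerF] at hc
    obtain ⟨k, hk, hkc⟩ := hc
    have hk1 : π k = 1 := hk
    have h1 := hβχ k
    have h2 := hβψ k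
    rw [hk1] at h1 h2
    rw [QuotientGroup.mk'_apply] at hkc
    rw [hkc] at h1 h2
    rw [h1, h2]
    ring
  obtain ⟨μ, hμ⟩ := exists_constituent NE βχ
  have hμψ : classInner (fun c : NE => (βψ : E ⧸ ι.range → ℂ) c) (μ : NE → ℂ) ≠ 0 := by
    have hval : (fun c : NE => (βψ : E ⧸ ι.range → ℂ) c) =
        ((ψ : G → ℂ) 1 / (χ : G → ℂ) 1) • (fun c : NE => (βχ : E ⧸ ι.range → ℂ) c) := by
      funext c
      have := H12.irr_apply_one_ne_zero χ
      rw [Pi.smul_apply, smul_eq_mul]
      field_simp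
      linear_combination hprop c
    rw [hval, H12.classInner_smul_left]
    exact mul_ne_zero (div_ne_zero (H12.irr_apply_one_ne_zero ψ) (H12.irr_apply_one_ne_zero χ)) hμ
  obtain ⟨B', hB', hmem, -, -⟩ := Cfsg.Agent.S4492.result p M hM hsE NE hNE μ (fun g c => by
    refine congrArg (μ : NE → ℂ) (Subtype.ext ?_)
    show g * (c : E ⧸ ι.range) * g⁻¹ = c
    rw [Subgroup.mem_center_iff.1 (hCc (hNEC c.2)) g, mul_inv_cancel_right])
  have hmemW : βψ ∈ W := hclosed βχ ⟨χ, hχU, hχ, hβχ⟩
    (H20.sameBlock_of_mem hB' ((hmem βχ).2 hμ) ((hmem βψ).2 hμψ))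
  obtain ⟨χ', hχ'U, -, hχ'⟩ := hmemW
  rwa [show ψ = χ' from Subtype.ext (funext fun g => by
    obtain ⟨e, rfl⟩ := hπ g
    rw [hβψ, hχ'])]

/-- The induction. -/
theorem closed_of_sqVanish_aux (hM : IsPModular p M) :
    ∀ (a n : ℕ) (G : Type u) [Group G] [Fintype G], (Nat.card G).factorization p ≤ a →
      Nat.card G ≤ n → IsPSolvable p G → ∀ U : Set (IrrCharacter G), SqVanish p U →
        ∀ χ ∈ U, blockOf M (χ : G → ℂ) ⊆ U := by
  intro a
  induction a using Nat.strong_induction_on with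
  | _ a IHa =>
  intro n
  induction n with
  | zero => intro G _ _ _ h; exact absurd h (by have := Nat.card_pos (α := G); omega)
  | succ n ihn =>
    intro G _ _ ha hn hsolv U hU χ hχ ψ hψ
    classical
    by_cases hpG : p ∣ Nat.card G
    swap
    · have hsing := (H20.blockOf_eq_singleton_iff hM χ).1 fun h =>
        hpG (h.trans (Nat.div_dvd_of_dvd (H22.charDegree_dvd_card χ)))
      rw [hsing, Set.mem_singleton_iff] at hψ
      rwa [hψ]
    haveI hNn : (pPrimeCore p G).Normal := H1.pPrimeCore_normal' p G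
    set N := pPrimeCore p G with hNdef
    haveI := Fintype.ofFinite N
    have hpN : ¬ p ∣ Nat.card N := fun h =>
      (Nat.Prime.coprime_iff_not_dvd hp.out).1 (H1.card_pPrimeCore_coprime p G).symm h
    obtain ⟨θ, hθ⟩ := exists_constituent N χ
    have hsing : blockOf M (θ : N → ℂ) = {θ} := (H20.blockOf_eq_singleton_iff hM θ).1 fun h =>
      hpN (h.trans (Nat.div_dvd_of_dvd (H22.charDegree_dvd_card θ)))
    have hb : IsPBlock M (blockOf M (θ : N → ℂ)) := H20.isPBlock_blockOf θ
    have hψθ : classInner (fun m : N => (ψ : G → ℂ) m) (θ : N → ℂ) ≠ 0 := by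
      obtain ⟨φ, hφ⟩ := exists_constituent N ψ
      obtain ⟨g, hg⟩ := covered_conj N (H20.isPBlock_blockOf χ) hb χ (H20.mem_blockOf_self χ) θ
        (H20.mem_blockOf_self θ) hθ ψ hψ φ hφ
      rw [hsing, Set.mem_singleton_iff] at hg
      rw [← hg, classInner_res_conjChar N ψ g φ]
      exact hφ
    set T := H13.inertia N (θ : N → ℂ) with hT
    have hNT : N ≤ T := H13.le_inertia N (H12.irr_isClassFunction θ)
    haveI := Fintype.ofFinite T
    by_cases htop : T = ⊤
    · have hinv : ∀ (g : G) (m : N),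
          (θ : N → ℂ) ⟨g * m * g⁻¹, hNn.conj_mem m m.2 g⟩ = (θ : N → ℂ) m := fun g m => by
        have hg : g ∈ T := htop ▸ Subgroup.mem_top g
        exact congrFun ((H13.mem_inertia N).1 hg) m
      exact mem_of_invariant hM hsolv
        (fun K _ _ hlt hK W hW β hβ =>
          IHa _ (lt_of_lt_of_le hlt ha) _ K le_rfl le_rfl hK W hW β hβ)
        N hNdef hpG θ hinv hU hχ hθ hψθ
    · have hst : IsBlockStab N T (blockOf M (θ : N → ℂ)) := by
        refine ⟨fun g hg φ hφ => ?_, fun g hg φ hφ hc => hg ?_⟩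
        · rw [hsing, Set.mem_singleton_iff] at hφ ⊢
          subst hφ
          exact Subtype.ext (funext fun m => by
            rw [conjChar_apply]
            exact congrFun ((H13.mem_inertia N).1 hg) m)
        · rw [hsing, Set.mem_singleton_iff] at hφ hc
          subst hφ
          refine (H13.mem_inertia N).2 (funext fun m => ?_)
          rw [H13.twist_apply, ← conjChar_apply]
          exact congrFun (congrArg Subtype.val hc) m
      obtain ⟨φχ, hov, hindχ⟩ := exists_psi N T hNT hst (H20.mem_blockOf_self (M := M) θ) hθ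
      obtain ⟨φψ, hov', hindψ⟩ := exists_psi N T hNT hst (H20.mem_blockOf_self (M := M) θ) hψθ
      have hlt : Nat.card T ≤ n := by
        have h1 : Nat.card T < Nat.card G :=
          lt_of_le_of_ne (Subgroup.card_le_card_group T) fun h =>
            htop (Subgroup.eq_top_of_card_eq T h)
        omega
      have hTa : (Nat.card T).factorization p ≤ a := le_trans
        ((Nat.factorization_le_iff_dvd Nat.card_pos.ne' Nat.card_pos.ne').2
          (Subgroup.card_subgroup_dvd_card T) p) ha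
      obtain ⟨-, χ', hχ'U, hχ'⟩ := ihn T hTa hlt (H10.isPSolvable_subgroup hsolv T)
        (inertiaSet N T hNT (blockOf M (θ : N → ℂ)) U) (sqVanish_inertiaSet N T hNT hst hpN hU)
        φχ ⟨hov, χ, hχ, hindχ⟩
        ((sameBlock_ind_iff N T hNT hst hb hov hov' hindχ hindψ).1 hψ)
      rwa [show ψ = χ' from Subtype.ext (hindψ.trans hχ'.symm)]

end H21
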