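import Cfsg.Agent.H21.WeylMin

/-!
The generic Hecke algebra of the Weyl group of a (B,N)-pair acting on functions on the Weyl group, its
Casimir map and the rank inequalities between the centre and the Casimir map.
-/

set_option autoImplicit false
set_option linter.unusedSectionVars false
set_option linter.style.haveILetI false

namespace H21.Hecke

open H56 Matrix
open scoped Classical

variable {G : Type*} [Group G] (P : Cfsg.BNPair G) [Fintype (Weyl P)]

variable {R : Type*} [CommRing R]

/-- left multiplication by `T_s` in the generic Hecke algebra, on the standard basis -/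
noncomputable def Lmat (t : R) (s : P.S) : Matrix (Weyl P) (Weyl P) R :=
  Matrix.of fun x w => if lenW P w < lenW P (simW P s * w) then (if x = simW P s * w then 1 else 0)
    else (t - 1) * (if x = w then 1 else 0) + t * (if x = simW P s * w then 1 else 0)

/-- right multiplication by `T_s` -/
noncomputable def Rmat (t : R) (s : P.S) : Matrix (Weyl P) (Weyl P) R :=
  Matrix.of fun x w => if lenW P w < lenW P (w * simW P s) then (if x = w * simW P s then 1 else 0)
    else (t - 1) * (if x = w then 1 else 0) + t * (if x = w * simW P s then 1 else 0)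

/-- basis vector -/
noncomputable def dlt (w : Weyl P) : Weyl P → R := Pi.single w 1

theorem lmat_dlt (t : R) (s : P.S) (w : Weyl P) :
    Lmat P t s *ᵥ dlt P w = if lenW P w < lenW P (simW P s * w) then dlt P (simW P s * w)
      else (t - 1) • dlt P w + t • dlt P (simW P s * w) := by
  funext x
  rw [dlt, Matrix.mulVec_single_one]
  simp only [Lmat, Matrix.col_apply, Matrix.of_apply]
  split_ifs <;> simp [dlt, Pi.single_apply, simW_ne_one, *]
  exact absurd (mul_eq_right.1 ((‹x = simW P s * w›).symm.trans ‹x = w›)) (simW_ne_one P s)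

theorem rmat_dlt (t : R) (s : P.S) (w : Weyl P) :
    Rmat P t s *ᵥ dlt P w = if lenW P w < lenW P (w * simW P s) then dlt P (w * simW P s)
      else (t - 1) • dlt P w + t • dlt P (w * simW P s) := by
  funext x
  rw [dlt, Matrix.mulVec_single_one]
  simp only [Rmat, Matrix.col_apply, Matrix.of_apply]
  split_ifs <;> simp [dlt, Pi.single_apply, simW_ne_one, *]
  exact absurd (mul_eq_left.1 ((‹x = w * simW P s›).symm.trans ‹x = w›)) (simW_ne_one P s)

theorem lenW_right_cases (u : P.S) (w : Weyl P) :
    lenW P (w * simW P u) = lenW P w + 1 ∨ lenW P (w * simW P u) + 1 = lenW P w := by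
  rw [← lenW_inv P (w * simW P u), ← lenW_inv P w, _root_.mul_inv_rev, simW_inv]
  exact lenW_simW_mul P u w⁻¹

/-- A left ascent stays a left ascent after a right step, unless both steps coincide. -/
theorem left_right_aux {s u : P.S} {w : Weyl P} (h1 : lenW P w < lenW P (simW P s * w))
    (h2 : lenW P (simW P s * (w * simW P u)) < lenW P (w * simW P u)) :
    simW P s * w = w * simW P u := by
  rcases lenW_right_cases P u w with h | h
  · obtain ⟨l, hl, rfl⟩ := exists_red P w
    have hred : Red P (l ++ [u]) := by
      show lenW P (ws P (l ++ [u])) = _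
      rw [ws_append, List.length_append, ← hl]
      simpa using h
    have e : ws P (l ++ [u]) = ws P l * simW P u := by simp
    obtain ⟨i, hi, he⟩ := exchange P (l ++ [u]) hred s (by
      rw [e, List.length_append, List.length_singleton, ← hl, ← h]; exact h2)
    rw [e] at he
    rcases Nat.lt_or_ge i l.length with hil | hil
    · exfalso
      rw [List.eraseIdx_append_of_lt_length hil, ws_append, ← mul_assoc] at he
      simp only [ws_cons, ws_nil, mul_one, mul_left_inj] at he
      rw [he] at h1
      have := lenW_ws_le P (l.eraseIdx i)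
      rw [List.length_eraseIdx_of_lt hil] at this
      rw [hl] at h1
      omega
    · obtain rfl : i = l.length := by simp at hi; omega
      rw [List.eraseIdx_append_of_length_le le_rfl] at he
      simp only [Nat.sub_self, List.eraseIdx_cons_zero, List.append_nil] at he
      calc simW P s * ws P l = simW P s * (simW P s * (ws P l * simW P u)) := by rw [he]
        _ = _ := simW_mul_cancel P s _
  · exfalso
    have e : simW P s * w = simW P s * (w * simW P u) * simW P u := by
      rw [mul_assoc, mul_assoc w, simW_mul_self, mul_one]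
    rcases lenW_right_cases P u (simW P s * (w * simW P u)) with h' | h' <;> rw [← e] at h' <;> omega

theorem left_step_iff {s u : P.S} {w : Weyl P} (hne : simW P s * w ≠ w * simW P u) :
    lenW P (w * simW P u) < lenW P (simW P s * (w * simW P u)) ↔ lenW P w < lenW P (simW P s * w) := by
  constructor
  · intro h
    by_contra hn
    have h1 := lenW_simW_mul_ne P s w
    have h2 : lenW P (simW P s * (w * simW P u * simW P u)) < lenW P (w * simW P u * simW P u) := by
      rw [mul_assoc w, simW_mul_self, mul_one]; omega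
    have e := left_right_aux P h h2
    rw [mul_assoc w, simW_mul_self, mul_one] at e
    apply hne
    conv_lhs => rw [← e]
    exact simW_mul_cancel P s _
  · intro h
    by_contra hn
    exact hne (left_right_aux P h (lt_of_le_of_ne (not_lt.1 hn) (lenW_simW_mul_ne P s _)))

theorem right_step_iff {s u : P.S} {w : Weyl P} (hne : simW P s * w ≠ w * simW P u) :
    lenW P (simW P s * w) < lenW P (simW P s * w * simW P u) ↔ lenW P w < lenW P (w * simW P u) := by
  have h := left_step_iff P (s := u) (u := s) (w := w⁻¹) (fun e => hne (by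
    have e' := congrArg (·⁻¹) e
    simp only [_root_.mul_inv_rev, simW_inv, inv_inv] at e'
    exact e'.symm))
  rw [← lenW_inv P (w⁻¹ * simW P s), ← lenW_inv P (simW P u * (w⁻¹ * simW P s)), lenW_inv P w⁻¹ |>.symm,
    ← lenW_inv P (simW P u * w⁻¹)] at h
  simpa only [_root_.mul_inv_rev, simW_inv, inv_inv] using h

/-- The left and right actions commute. -/
theorem lmat_comm_rmat (t : R) (s u : P.S) :
    Lmat P t s * Rmat P t u = Rmat P t u * Lmat P t s := by
  refine Matrix.ext_of_mulVec_single fun w => ?_
  change (Lmat P t s * Rmat P t u) *ᵥ dlt P w = (Rmat P t u * Lmat P t s) *ᵥ dlt P w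
  rw [← Matrix.mulVec_mulVec, ← Matrix.mulVec_mulVec, rmat_dlt, lmat_dlt]
  by_cases hne : simW P s * w = w * simW P u
  · have e1 : simW P s * (w * simW P u) = w := by rw [← hne, simW_mul_cancel]
    have e2 : simW P s * w * simW P u = w := by rw [hne, mul_assoc, simW_mul_self, mul_one]
    by_cases h : lenW P w < lenW P (simW P s * w)
    · rw [if_pos h, if_pos (hne ▸ h), lmat_dlt, rmat_dlt, e1, e2, if_neg (by rw [← hne]; omega),
        if_neg (by omega), hne]
    · have h' := lenW_simW_mul_ne P s w
      have h2 : ¬ lenW P w < lenW P (w * simW P u) := hne ▸ h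
      have h3 : lenW P (simW P s * w) < lenW P w := by omega
      have h4 : lenW P (w * simW P u) < lenW P w := hne ▸ h3
      simp only [if_neg h, if_neg h2, Matrix.mulVec_add, Matrix.mulVec_smul, lmat_dlt, rmat_dlt, e1,
        e2, if_pos h3, if_pos h4]
      rw [hne]
  · have ea : simW P s * (w * simW P u) = simW P s * w * simW P u := (mul_assoc _ _ _).symm
    have i1 := left_step_iff P (s := s) (u := u) (w := w) hne
    have i2 := right_step_iff P (s := s) (u := u) (w := w) hne
    by_cases h : lenW P w < lenW P (simW P s * w) <;> by_cases h' : lenW P w < lenW P (w * simW P u)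
    all_goals
      simp only [h, h', if_true, if_false, Matrix.mulVec_add, Matrix.mulVec_smul, lmat_dlt, rmat_dlt,
        i1, i2]
      simp only [ea, smul_add, smul_smul, mul_comm t (t - 1)]
      try abel

/-- commutes with every right action -/
def CR (t : R) (X : Matrix (Weyl P) (Weyl P) R) : Prop := ∀ u : P.S, X * Rmat P t u = Rmat P t u * X

variable {P} {t : R}

theorem cr_lmat (s : P.S) : CR P t (Lmat P t s) := fun u => lmat_comm_rmat P t s u

theorem cr_one : CR P t 1 := fun u => by rw [one_mul, mul_one]

theorem CR.mul {X Y : Matrix (Weyl P) (Weyl P) R} (hX : CR P t X) (hY : CR P t Y) : CR P t (X * Y) :=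
  fun u => by rw [mul_assoc, hY u, ← mul_assoc, hX u, mul_assoc]

theorem CR.smul {X : Matrix (Weyl P) (Weyl P) R} (hX : CR P t X) (c : R) : CR P t (c • X) :=
  fun u => by rw [smul_mul_assoc, hX u, mul_smul_comm]

theorem CR.add {X Y : Matrix (Weyl P) (Weyl P) R} (hX : CR P t X) (hY : CR P t Y) : CR P t (X + Y) :=
  fun u => by rw [add_mul, hX u, hY u, mul_add]

theorem CR.sum {ι : Type*} (s : Finset ι) (f : ι → Matrix (Weyl P) (Weyl P) R)
    (h : ∀ i, CR P t (f i)) : CR P t (∑ i ∈ s, f i) := fun u => by
  rw [Finset.sum_mul, Finset.mul_sum]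
  exact Finset.sum_congr rfl fun i _ => h i u

theorem rmat_up {u : P.S} {w : Weyl P} (h : lenW P w < lenW P (w * simW P u)) :
    Rmat P t u *ᵥ dlt P w = dlt P (w * simW P u) := by
  rw [rmat_dlt, if_pos h]

/-- An element commuting with the right actions is determined by its value at `1`. -/
theorem ext_of_one {X Y : Matrix (Weyl P) (Weyl P) R} (hX : CR P t X) (hY : CR P t Y)
    (h : X *ᵥ dlt P 1 = Y *ᵥ dlt P 1) : X = Y := by
  refine Matrix.ext_of_mulVec_single fun v => ?_
  change X *ᵥ dlt P v = Y *ᵥ dlt P v
  induction hk : lenW P v using Nat.strong_induction_on generalizing v with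
  | _ k ih =>
    by_cases hv : v = 1
    · rw [hv, h]
    · obtain ⟨v', u, rfl, hlt⟩ := exists_last P hv
      rw [← rmat_up (t := t) hlt, Matrix.mulVec_mulVec, Matrix.mulVec_mulVec, hX u, hY u,
        ← Matrix.mulVec_mulVec, ← Matrix.mulVec_mulVec, ih _ (hk ▸ hlt) v' rfl]

variable (P t)

/-- product along a word -/
noncomputable def lword (l : List P.S) : Matrix (Weyl P) (Weyl P) R := (l.map (Lmat P t)).prod

/-- the basis element `T_w` as an operator -/
noncomputable def Lop (w : Weyl P) : Matrix (Weyl P) (Weyl P) R := lword P t (exists_red P w).choose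

variable {P t}

theorem cr_lword (l : List P.S) : CR P t (lword P t l) := by
  induction l with
  | nil => simpa [lword] using cr_one
  | cons s l ih => simpa [lword] using (cr_lmat s).mul ih

theorem cr_lop (w : Weyl P) : CR P t (Lop P t w) := cr_lword _

theorem lword_one : ∀ l : List P.S, Red P l → lword P t l *ᵥ dlt P 1 = dlt P (ws P l) := by
  intro l
  induction l with
  | nil => intro _; simp [lword]
  | cons s l ih =>
    intro h
    have hl := Red.tail P h
    rw [lword, List.map_cons, List.prod_cons, ← Matrix.mulVec_mulVec]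
    rw [show (List.map (Lmat P t) l).prod = lword P t l from rfl, ih hl, lmat_dlt, ws_cons, if_pos]
    have h' : lenW P (simW P s * ws P l) = l.length + 1 := by rw [← ws_cons]; exact h
    rw [hl, h']
    omega

theorem lop_one' (w : Weyl P) : Lop P t w *ᵥ dlt P 1 = dlt P w := by
  obtain ⟨h1, h2⟩ := (exists_red P w).choose_spec
  rw [Lop, lword_one _ h1, h2]

theorem lop_one : Lop P t (1 : Weyl P) = 1 :=
  ext_of_one (cr_lop _) cr_one (by rw [lop_one', Matrix.one_mulVec])

theorem lop_simW_mul {s : P.S} {w : Weyl P} (h : lenW P w < lenW P (simW P s * w)) :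
    Lop P t (simW P s * w) = Lmat P t s * Lop P t w :=
  ext_of_one (cr_lop _) ((cr_lmat s).mul (cr_lop _)) (by
    rw [lop_one', ← Matrix.mulVec_mulVec, lop_one', lmat_dlt, if_pos h])

theorem lop_mul_simW {s : P.S} {w : Weyl P} (h : lenW P w < lenW P (w * simW P s)) :
    Lop P t (w * simW P s) = Lop P t w * Lmat P t s :=
  ext_of_one (cr_lop _) ((cr_lop _).mul (cr_lmat s)) (by
    have h1 : lenW P (1 : Weyl P) < lenW P (simW P s * 1) := by
      rw [lenW_one, mul_one, lenW_simW]; exact one_pos
    have h2 : Rmat P t s *ᵥ dlt P 1 = dlt P (simW P s) := by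
      rw [rmat_up (by rw [lenW_one, one_mul, lenW_simW]; exact one_pos), one_mul]
    rw [lop_one', ← Matrix.mulVec_mulVec, lmat_dlt, if_pos h1, mul_one, ← h2, Matrix.mulVec_mulVec,
      cr_lop w s, ← Matrix.mulVec_mulVec, lop_one', rmat_up h])

theorem lmat_sq (s : P.S) : Lmat P t s * Lmat P t s = (t - 1) • Lmat P t s + t • 1 :=
  ext_of_one ((cr_lmat s).mul (cr_lmat s)) (((cr_lmat s).smul _).add (cr_one.smul _)) (by
    rw [← Matrix.mulVec_mulVec, Matrix.add_mulVec, Matrix.smul_mulVec, Matrix.smul_mulVec,
      Matrix.one_mulVec]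
    have h1 : lenW P (1 : Weyl P) < lenW P (simW P s * 1) := by
      rw [lenW_one, mul_one, lenW_simW]; exact one_pos
    rw [lmat_dlt, if_pos h1, mul_one, lmat_dlt, simW_mul_self,
      if_neg (by rw [lenW_simW, lenW_one]; omega)])

/-- any element commuting with the right actions is a combination of the `T_v` -/
theorem eq_sum_lop {X : Matrix (Weyl P) (Weyl P) R} (hX : CR P t X) :
    X = ∑ v : Weyl P, (X *ᵥ dlt P 1) v • Lop P t v := by
  refine ext_of_one hX (CR.sum _ _ fun v => (cr_lop v).smul _) ?_
  rw [Matrix.sum_mulVec]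
  simp only [Matrix.smul_mulVec, lop_one']
  funext x
  simp [Finset.sum_apply, dlt, Pi.single_apply]

variable (P t)

/-- the Casimir element of `T_u` (with denominators cleared) -/
noncomputable def casimir (N : ℕ) (u : Weyl P) : Matrix (Weyl P) (Weyl P) R :=
  ∑ w : Weyl P, t ^ (N - lenW P w) • (Lop P t w * Lop P t u * Lop P t w⁻¹)

/-- the matrix of the Casimir map -/
noncomputable def gammaMat (N : ℕ) : Matrix (Weyl P) (Weyl P) R :=
  Matrix.of fun x u => (casimir P t N u *ᵥ dlt P 1) x

/-- the matrix whose kernel is the centre -/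
noncomputable def centMat : Matrix (P.S × Weyl P) (Weyl P) R :=
  Matrix.of fun sx v => ((Lmat P t sx.1 * Lop P t v - Lop P t v * Lmat P t sx.1) *ᵥ dlt P 1) sx.2

variable {P t}

theorem cr_casimir (N : ℕ) (u : Weyl P) : CR P t (casimir P t N u) :=
  CR.sum _ _ fun w => (((cr_lop w).mul (cr_lop u)).mul (cr_lop _)).smul _

theorem casimir_comm {N : ℕ} (hN : ∀ w : Weyl P, lenW P w ≤ N) (s : P.S) (u : Weyl P) :
    Lmat P t s * casimir P t N u = casimir P t N u * Lmat P t s := by
  rw [← sub_eq_zero, casimir, Finset.mul_sum, Finset.sum_mul, ← Finset.sum_sub_distrib]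
  rw [← Finset.sum_filter_add_sum_filter_not Finset.univ
    (fun w : Weyl P => lenW P w < lenW P (simW P s * w))]
  have hflip : ∀ w : Weyl P, (lenW P (simW P s * w) < lenW P (simW P s * (simW P s * w))) ↔
      ¬ lenW P w < lenW P (simW P s * w) := fun w => by
    rw [simW_mul_cancel]
    have := lenW_simW_mul_ne P s w
    omega
  rw [← Finset.sum_nbij' (s := Finset.univ.filter fun w : Weyl P => lenW P w < lenW P (simW P s * w))
    (t := Finset.univ.filter fun w : Weyl P => ¬ lenW P w < lenW P (simW P s * w))
    (fun w => simW P s * w) (fun w => simW P s * w)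
    (fun w hw => by
      have h' := lenW_simW_mul_ne P s w
      simp [simW_mul_cancel] at hw ⊢
      omega)
    (fun w hw => by
      have h' := lenW_simW_mul_ne P s w
      simp [simW_mul_cancel] at hw ⊢
      omega)
    (fun w _ => simW_mul_cancel P s w) (fun w _ => simW_mul_cancel P s w) (fun w _ => rfl),
    ← Finset.sum_add_distrib]
  refine Finset.sum_eq_zero fun w hw => ?_
  have hw := (Finset.mem_filter.1 hw).2
  rcases lenW_simW_mul P s w with h | h
  swap
  · omega
  have hN' := hN (simW P s * w)
  have hinv : (simW P s * w)⁻¹ = w⁻¹ * simW P s := by rw [_root_.mul_inv_rev, simW_inv]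
  have hr : lenW P w⁻¹ < lenW P (w⁻¹ * simW P s) := by
    rw [← hinv, lenW_inv, lenW_inv]; exact hw
  rw [hinv, lop_simW_mul hw, lop_mul_simW hr,
    show N - lenW P w = N - lenW P (simW P s * w) + 1 by omega, pow_succ]
  set a := Lop P t w * Lop P t u * Lop P t w⁻¹ with ha
  set L := Lmat P t s with hL
  rw [show L * Lop P t w * Lop P t u * (Lop P t w⁻¹ * L) = L * a * L by
    simp only [ha, mul_assoc]]
  have e1 : L * (L * a * L) = (t - 1) • (L * a * L) + t • (a * L) := by
    rw [← mul_assoc, ← mul_assoc, lmat_sq, add_mul, add_mul, smul_mul_assoc, smul_mul_assoc,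
      smul_mul_assoc, smul_mul_assoc, one_mul]
  have e2 : L * a * L * L = (t - 1) • (L * a * L) + t • (L * a) := by
    rw [mul_assoc, lmat_sq, mul_add, mul_smul_comm, mul_smul_comm, mul_one]
  simp only [mul_smul_comm, smul_mul_assoc, e1, e2, smul_add, smul_smul]
  module

theorem centMat_mul_gammaMat {N : ℕ} (hN : ∀ w : Weyl P, lenW P w ≤ N) :
    centMat P t * gammaMat P t N = 0 := by
  ext ⟨s, x⟩ u
  rw [Matrix.mul_apply, Matrix.zero_apply]
  have h0 : Lmat P t s * casimir P t N u - casimir P t N u * Lmat P t s = 0 :=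
    sub_eq_zero.2 (casimir_comm hN s u)
  rw [eq_sum_lop (cr_casimir N u)] at h0
  have h1 := congrFun (congrArg (fun X : Matrix (Weyl P) (Weyl P) R => X *ᵥ dlt P 1) h0) x
  simp only [Finset.mul_sum, Finset.sum_mul, mul_smul_comm, smul_mul_assoc, ← Finset.sum_sub_distrib,
    ← smul_sub, Matrix.sum_mulVec, Matrix.smul_mulVec, Finset.sum_apply, Pi.smul_apply,
    smul_eq_mul, Matrix.zero_mulVec, Pi.zero_apply] at h1
  rw [← h1]
  exact Finset.sum_congr rfl fun v _ => mul_comm _ _

/-! ### change of parameter -/

variable {R' : Type*} [CommRing R'] (f : R →+* R')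

theorem map_lmat (s : P.S) : (Lmat P t s).map f = Lmat P (f t) s := by
  ext x w
  simp only [Matrix.map_apply, Lmat, Matrix.of_apply]
  split_ifs <;> simp

theorem map_lop (w : Weyl P) : (Lop P t w).map f = Lop P (f t) w := by
  rw [Lop, Lop, lword, lword, ← RingHom.mapMatrix_apply, map_list_prod, List.map_map]
  congr 2
  funext s
  exact map_lmat f s

theorem map_dlt (w : Weyl P) : f ∘ (dlt P w : Weyl P → R) = dlt P w := by
  funext x
  simp [dlt, Pi.single_apply, apply_ite f]

theorem map_gammaMat (N : ℕ) : (gammaMat P t N).map f = gammaMat P (f t) N := by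
  ext x u
  simp only [Matrix.map_apply, gammaMat, Matrix.of_apply]
  rw [RingHom.map_mulVec, map_dlt]
  congr 2
  simp only [casimir]
  rw [← RingHom.mapMatrix_apply, map_sum]
  refine Finset.sum_congr rfl fun w _ => ?_
  rw [RingHom.mapMatrix_apply, Matrix.map_smul' f _ _ (map_mul f), map_pow, Matrix.map_mul,
    Matrix.map_mul, map_lop, map_lop, map_lop]

theorem map_centMat : (centMat P t).map f = centMat P (f t) := by
  ext ⟨s, x⟩ v
  simp only [Matrix.map_apply, centMat, Matrix.of_apply]
  rw [RingHom.map_mulVec, map_dlt]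
  congr 2
  rw [Matrix.map_sub f (map_sub f), Matrix.map_mul, Matrix.map_mul, map_lop, map_lmat]

omit [Fintype (Weyl P)] in
/-- The generic rank bounds the rank at every specialisation. -/
theorem rank_specialise {m n : Type*} [Fintype m] [Fintype n] (A : Matrix m n (Polynomial ℂ)) (z : ℂ) :
    (A.map (Polynomial.evalRingHom z)).rank ≤
      (A.map (algebraMap (Polynomial ℂ) (RatFunc ℂ))).rank := by
  set B := A.map (Polynomial.evalRingHom z) with hB
  set r := B.rank with hr
  let f := B.mulVecLin
  have hfr : Module.finrank ℂ (LinearMap.range f) = r := rfl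
  let e := (LinearMap.range f).subtype
  let b : LinearMap.range f ≃ₗ[ℂ] (Fin r → ℂ) := (Module.finBasisOfFinrankEq ℂ _ hfr).equivFun
  obtain ⟨σ, hσ⟩ := f.rangeRestrict.exists_rightInverse_of_surjective f.range_rangeRestrict
  obtain ⟨π, hπ⟩ := e.exists_leftInverse_of_injective (LinearMap.range f).ker_subtype
  let P' : Matrix (Fin r) m ℂ := LinearMap.toMatrix' (b.toLinearMap.comp π)
  let Q' : Matrix n (Fin r) ℂ := LinearMap.toMatrix' (σ.comp b.symm.toLinearMap)
  have hBf : B = LinearMap.toMatrix' f := (LinearMap.toMatrix'_toLin' B).symm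
  have hone : P' * B * Q' = 1 := by
    rw [hBf, ← LinearMap.toMatrix'_comp, ← LinearMap.toMatrix'_comp, ← LinearMap.toMatrix'_id]
    congr 1
    refine LinearMap.ext fun v => ?_
    simp only [LinearMap.comp_apply, LinearMap.id_apply, LinearEquiv.coe_coe]
    have h1 : f (σ (b.symm v)) = e (b.symm v) :=
      congrArg Subtype.val (LinearMap.congr_fun hσ (b.symm v))
    rw [h1, show π (e (b.symm v)) = b.symm v from LinearMap.congr_fun hπ _,
      LinearEquiv.apply_symm_apply]
  let D := (P'.map Polynomial.C * A * Q'.map Polynomial.C).det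
  have hD : D ≠ 0 := by
    intro h0
    have h1 : Polynomial.evalRingHom z D = 1 := by
      rw [RingHom.map_det, RingHom.mapMatrix_apply, Matrix.map_mul, Matrix.map_mul, ← hB]
      have hP : (P'.map Polynomial.C).map (Polynomial.evalRingHom z) = P' := by ext i j; simp
      have hQ : (Q'.map Polynomial.C).map (Polynomial.evalRingHom z) = Q' := by ext i j; simp
      rw [hP, hQ, hone, Matrix.det_one]
    rw [h0, map_zero] at h1
    exact zero_ne_one h1
  let φ : Polynomial ℂ →+* RatFunc ℂ := algebraMap _ _
  have hu : IsUnit ((P'.map Polynomial.C).map φ * A.map φ * (Q'.map Polynomial.C).map φ) := by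
    rw [Matrix.isUnit_iff_isUnit_det, isUnit_iff_ne_zero, ← Matrix.map_mul, ← Matrix.map_mul,
      ← RingHom.mapMatrix_apply, ← RingHom.map_det]
    exact fun h => hD (RatFunc.algebraMap_injective ℂ (by rw [map_zero]; exact h))
  calc r = ((P'.map Polynomial.C).map φ * A.map φ * (Q'.map Polynomial.C).map φ).rank := by
        rw [Matrix.rank_of_isUnit _ hu, Fintype.card_fin]
    _ ≤ ((P'.map Polynomial.C).map φ * A.map φ).rank := Matrix.rank_mul_le_left _ _
    _ ≤ (A.map φ).rank := Matrix.rank_mul_le_right _ _

variable (P)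

/-- Centre and Casimir image at two parameters. -/
theorem rank_add_le [Fintype P.S] {N : ℕ} (hN : ∀ w : Weyl P, lenW P w ≤ N) (z z' : ℂ) :
    (gammaMat P z N).rank + (centMat P z').rank ≤ Nat.card (Weyl P) := by
  have h1 := rank_specialise (gammaMat P (Polynomial.X : Polynomial ℂ) N) z
  have h2 := rank_specialise (centMat P (Polynomial.X : Polynomial ℂ)) z'
  rw [map_gammaMat, Polynomial.coe_evalRingHom, Polynomial.eval_X, map_gammaMat] at h1
  rw [map_centMat, Polynomial.coe_evalRingHom, Polynomial.eval_X, map_centMat] at h2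
  have h3 := Matrix.rank_add_rank_le_card_of_mul_eq_zero
    (centMat_mul_gammaMat (t := algebraMap (Polynomial ℂ) (RatFunc ℂ) Polynomial.X) hN)
  rw [Nat.card_eq_fintype_card]
  omega

variable {P}

theorem lmat_at_one (s : P.S) (w : Weyl P) :
    Lmat P (1 : ℂ) s *ᵥ dlt P w = dlt P (simW P s * w) := by
  rw [lmat_dlt]; split_ifs <;> simp

theorem lop_at_one (v w : Weyl P) : Lop P (1 : ℂ) v *ᵥ dlt P w = dlt P (v * w) := by
  obtain ⟨-, h2⟩ := (exists_red P v).choose_spec
  rw [Lop]
  conv_rhs => rw [← h2]
  generalize (exists_red P v).choose = l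
  induction l with
  | nil => simp [lword]
  | cons s l ih =>
    rw [lword, List.map_cons, List.prod_cons, ← Matrix.mulVec_mulVec,
      show (List.map (Lmat P (1 : ℂ)) l).prod = lword P (1 : ℂ) l from rfl, ih, lmat_at_one,
      ws_cons, mul_assoc]

theorem classes_le_rank_gamma (N : ℕ) :
    Nat.card (ConjClasses (Weyl P)) ≤ (gammaMat P (1 : ℂ) N).rank := by
  have hcol : ∀ u, (gammaMat P (1 : ℂ) N).col u = ∑ w : Weyl P, dlt P (w * u * w⁻¹) := by
    intro u
    funext x
    simp only [Matrix.col_apply, gammaMat, Matrix.of_apply, casimir, one_pow, one_smul,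
      Matrix.sum_mulVec, ← Matrix.mulVec_mulVec, lop_at_one, mul_one, Finset.sum_apply, mul_assoc]
  rw [Matrix.rank_eq_finrank_span_cols, Nat.card_eq_fintype_card]
  let g : ConjClasses (Weyl P) → Weyl P → ℂ := fun c => (gammaMat P (1 : ℂ) N).col c.out
  have hg : LinearIndependent ℂ g := by
    rw [Fintype.linearIndependent_iff]
    intro a ha c
    have h := congrFun ha c.out
    simp only [g, hcol, Finset.sum_apply, Pi.smul_apply, smul_eq_mul, Pi.zero_apply, dlt,
      Pi.single_apply] at h
    rw [Finset.sum_eq_single c] at h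
    · rcases mul_eq_zero.1 h with h | h
      · exact h
      · exfalso
        rw [Finset.sum_boole, Nat.cast_eq_zero, Finset.card_eq_zero,
          Finset.filter_eq_empty_iff] at h
        exact h (x := 1) (Finset.mem_univ _) (by simp)
    · intro c' _ hne
      rw [Finset.sum_eq_zero, mul_zero]
      intro w _
      rw [if_neg]
      intro e
      apply hne
      have hconj : IsConj c'.out c.out := isConj_iff.2 ⟨w, e.symm⟩
      rw [← Quotient.out_eq c', ← Quotient.out_eq c]
      exact Quotient.sound hconj
    · intro h'; exact absurd (Finset.mem_univ c) h'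
  rw [← finrank_span_eq_card hg]
  exact Submodule.finrank_mono (Submodule.span_mono (by rintro _ ⟨c, rfl⟩; exact ⟨c.out, rfl⟩))

theorem ker_cent_le_classes [Fintype P.S] :
    Nat.card (Weyl P) ≤ (centMat P (1 : ℂ)).rank + Nat.card (ConjClasses (Weyl P)) := by
  set C := centMat P (1 : ℂ) with hC
  have hrn := LinearMap.finrank_range_add_finrank_ker C.mulVecLin
  rw [Module.finrank_fintype_fun_eq_card] at hrn
  have hinv : ∀ h ∈ LinearMap.ker C.mulVecLin, ∀ (s : P.S) (x : Weyl P),
      h (simW P s * x) = h (x * simW P s) := by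
    intro h hh s x
    have h1 := congrFun (LinearMap.mem_ker.1 hh) (s, x)
    rw [Matrix.mulVecLin_apply, Pi.zero_apply] at h1
    have hentry : ∀ v : Weyl P, C (s, x) v =
        (if v = simW P s * x then 1 else 0) - (if v = x * simW P s then 1 else 0) := by
      intro v
      have hcol : (Lmat P (1 : ℂ) s * Lop P 1 v - Lop P 1 v * Lmat P 1 s) *ᵥ dlt P 1 =
          dlt P (simW P s * v) - dlt P (v * simW P s) := by
        rw [Matrix.sub_mulVec, ← Matrix.mulVec_mulVec, ← Matrix.mulVec_mulVec, lop_at_one,
          lmat_at_one, lmat_at_one, lop_at_one, mul_one, mul_one]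
      show ((Lmat P (1 : ℂ) s * Lop P 1 v - Lop P 1 v * Lmat P 1 s) *ᵥ dlt P 1) x = _
      rw [hcol, Pi.sub_apply, dlt, dlt, Pi.single_apply, Pi.single_apply]
      congr 1
      · exact if_congr ⟨fun e => by rw [e, simW_mul_cancel], fun e => by rw [e, simW_mul_cancel]⟩ rfl rfl
      · exact if_congr ⟨fun e => by rw [e, mul_assoc, simW_mul_self, mul_one],
          fun e => by rw [e, mul_assoc, simW_mul_self, mul_one]⟩ rfl rfl
    simp only [Matrix.mulVec, dotProduct, hentry, sub_mul, Finset.sum_sub_distrib, ite_mul, one_mul,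
      zero_mul, Finset.sum_ite_eq', Finset.mem_univ, if_true, sub_eq_zero] at h1
    exact h1
  have hclass : ∀ h ∈ LinearMap.ker C.mulVecLin, ∀ (w x : Weyl P), h (w * x * w⁻¹) = h x := by
    intro h hh w
    obtain ⟨l, rfl⟩ := exists_word P w
    induction l with
    | nil => intro x; simp
    | cons s l ih =>
      intro x
      rw [ws_cons, _root_.mul_inv_rev, simW_inv,
        show simW P s * ws P l * x * ((ws P l)⁻¹ * simW P s) =
          simW P s * (ws P l * x * (ws P l)⁻¹ * simW P s) by group,
        hinv h hh, mul_assoc, simW_mul_self, mul_one, ih]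
  let T : (Weyl P → ℂ) →ₗ[ℂ] (ConjClasses (Weyl P) → ℂ) :=
    { toFun := fun h c => h c.out
      map_add' := fun _ _ => rfl
      map_smul' := fun _ _ => rfl }
  have hT : Function.Injective (T.comp (LinearMap.ker C.mulVecLin).subtype) := by
    intro a b hab
    apply Subtype.ext
    funext x
    have hx : IsConj (ConjClasses.mk x).out x :=
      ConjClasses.mk_eq_mk_iff_isConj.1 (Quotient.out_eq _)
    obtain ⟨w, hw⟩ := isConj_iff.1 hx
    rw [← hw, hclass _ a.2, hclass _ b.2]
    exact congrFun hab (ConjClasses.mk x)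
  have h2 := LinearMap.finrank_le_finrank_of_injective hT
  rw [Module.finrank_fintype_fun_eq_card] at h2
  rw [Nat.card_eq_fintype_card, Nat.card_eq_fintype_card]
  show _ ≤ Module.finrank ℂ (LinearMap.range C.mulVecLin) + _
  omega

end H21.Hecke
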