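import Cfsg.Agent.H21.HeckeGeneric
import Cfsg.Agent.H13.PermChar
import Cfsg.Agent.H53.RootGroupWeyl
import Cfsg.Prelude.Def_ParabolicCharacters

/-!
The Hecke algebra of `G` on the cosets of `B` realises the generic algebra; the number of irreducible
constituents of the permutation character on `B` equals the number of classes of the Weyl group.
-/

set_option autoImplicit false
set_option linter.unusedSectionVars false
set_option linter.style.haveILetI false

namespace H21.Hecke

open H56 Matrix Cfsg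
open scoped Classical

variable {G : Type*} [Group G] [Fintype G] (P : Cfsg.BNPair G) [Fintype (Weyl P)]
  [Fintype (G ⧸ P.B)] [DecidableEq (G ⧸ P.B)]

/-- a function on the Weyl group as a matrix on `G ⧸ B` -/
noncomputable def phi : (Weyl P → ℂ) →ₗ[ℂ] Matrix (G ⧸ P.B) (G ⧸ P.B) ℂ where
  toFun h := Matrix.of fun x y => h (wdist P x y)
  map_add' _ _ := rfl
  map_smul' _ _ := rfl

theorem phi_apply (h : Weyl P → ℂ) (x y : G ⧸ P.B) : phi P h x y = h (wdist P x y) := rfl

/-- the adjacency matrix -/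
noncomputable def adj (w : Weyl P) : Matrix (G ⧸ P.B) (G ⧸ P.B) ℂ := phi P (dlt P w)

theorem adj_apply (w : Weyl P) (x y : G ⧸ P.B) :
    adj P w x y = if wdist P x y = w then 1 else 0 := by
  rw [adj, phi_apply, dlt, Pi.single_apply]

theorem adj_eq_map (w : Weyl P) : adj P w = (Complex.ofRealHom).mapMatrix (wmat P w) := by
  ext x y
  rw [adj_apply, RingHom.mapMatrix_apply, Matrix.map_apply, wmat, Matrix.of_apply]
  split_ifs <;> simp

theorem adj_one : adj P 1 = 1 := by
  rw [adj_eq_map, wmat_one, map_one]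

theorem phi_injective : Function.Injective (phi P) := fun h h' e => by
  funext w
  obtain ⟨y, hy⟩ := wdist_surj P ((1 : G) : G ⧸ P.B) w
  have := congrFun (congrFun e ((1 : G) : G ⧸ P.B)) y
  rwa [phi_apply, phi_apply, hy] at this

theorem eq_sum_dlt (h : Weyl P → ℂ) : h = ∑ v, h v • dlt P v := by
  funext x
  simp [Finset.sum_apply, dlt, Pi.single_apply]

theorem phi_eq_sum (h : Weyl P → ℂ) : phi P h = ∑ v, h v • adj P v := by
  conv_lhs => rw [eq_sum_dlt P h, map_sum]
  simp only [map_smul]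
  rfl

variable {P}

section Thick

variable {q : ℕ} (hq : ∀ s : P.S, thick P s = q)
include hq

theorem adj_simW_mul (s : P.S) (v : Weyl P) :
    adj P (simW P s) * adj P v = if lenW P v < lenW P (simW P s * v) then adj P (simW P s * v)
      else ((q : ℂ) - 1) • adj P v + (q : ℂ) • adj P (simW P s * v) := by
  have up : ∀ v, lenW P v < lenW P (simW P s * v) →
      adj P (simW P s) * adj P v = adj P (simW P s * v) := fun v h => by
    rw [adj_eq_map, adj_eq_map, adj_eq_map, ← map_mul, wmat_simW_mul P h]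
  split_ifs with h
  · exact up v h
  · have hlt : lenW P (simW P s * v) < lenW P (simW P s * (simW P s * v)) := by
      rw [simW_mul_cancel]; have := lenW_simW_mul_ne P s v; omega
    have e := up _ hlt
    rw [simW_mul_cancel] at e
    have sq : adj P (simW P s) * adj P (simW P s) =
        (q : ℂ) • 1 + ((q : ℂ) - 1) • adj P (simW P s) := by
      rw [adj_eq_map, ← map_mul, wmat_simW_sq, hq]
      ext x y
      simp only [RingHom.mapMatrix_apply, Matrix.map_apply, Matrix.add_apply, Matrix.smul_apply,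
        smul_eq_mul, Matrix.one_apply]
      split_ifs <;> simp
    conv_lhs => rw [← e, ← mul_assoc, sq, add_mul, smul_mul_assoc, smul_mul_assoc, one_mul, e]
    rw [add_comm]

theorem phi_lmat (s : P.S) (h : Weyl P → ℂ) :
    phi P (Lmat P (q : ℂ) s *ᵥ h) = adj P (simW P s) * phi P h := by
  rw [phi_eq_sum P h, Finset.mul_sum]
  conv_lhs => rw [eq_sum_dlt P h, Matrix.mulVec_sum, map_sum]
  refine Finset.sum_congr rfl fun v _ => ?_
  rw [Matrix.mulVec_smul, map_smul, mul_smul_comm, lmat_dlt, adj_simW_mul hq]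
  congr 1
  split_ifs
  · rfl
  · rw [map_add, map_smul, map_smul]; rfl

theorem phi_lword : ∀ l : List P.S, Red P l → ∀ h : Weyl P → ℂ,
    phi P (lword P (q : ℂ) l *ᵥ h) = adj P (ws P l) * phi P h := by
  intro l
  induction l with
  | nil => intro _ h; simp [lword, adj_one]
  | cons s l ih =>
    intro hr h
    have hl := Red.tail P hr
    rw [lword, List.map_cons, List.prod_cons, ← Matrix.mulVec_mulVec,
      show (List.map (Lmat P (q : ℂ)) l).prod = lword P (q : ℂ) l from rfl, phi_lmat hq, ih hl,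
      ← mul_assoc, ws_cons, adj_simW_mul hq, if_pos]
    have h' : lenW P (simW P s * ws P l) = l.length + 1 := by rw [← ws_cons]; exact hr
    rw [hl, h']
    omega

theorem phi_lop (w : Weyl P) (h : Weyl P → ℂ) :
    phi P (Lop P (q : ℂ) w *ᵥ h) = adj P w * phi P h := by
  obtain ⟨h1, h2⟩ := (exists_red P w).choose_spec
  rw [Lop, phi_lword hq _ h1, h2]

theorem adj_row_sum (w : Weyl P) (x : G ⧸ P.B) :
    ∑ y, adj P w x y = (q : ℂ) ^ lenW P w := by
  obtain ⟨l, hl, rfl⟩ := exists_red P w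
  rw [hl]
  induction l generalizing x with
  | nil => simp [adj_one, Matrix.one_apply]
  | cons s l ih =>
    have hl' := Red.tail P hl
    have h' : lenW P (simW P s * ws P l) = l.length + 1 := by rw [← ws_cons]; exact hl
    have e := adj_simW_mul hq s (ws P l)
    rw [if_pos (by rw [hl', h']; omega)] at e
    simp only [ws_cons, ← e, Matrix.mul_apply]
    rw [Finset.sum_comm]
    simp only [← Finset.mul_sum, fun z => ih z hl', ← Finset.sum_mul]
    rw [List.length_cons, pow_succ']
    congr 1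
    simp only [adj_apply, Finset.sum_boole]
    rw [← hq s, ← card_filter_simW P s x]

end Thick

/-! ### the action of `G` -/

variable (P)

/-- the permutation matrix of `g` -/
noncomputable def pmat (g : G) : Matrix (G ⧸ P.B) (G ⧸ P.B) ℂ :=
  Matrix.of fun x y => if x = g • y then 1 else 0

theorem mul_pmat_apply (M : Matrix (G ⧸ P.B) (G ⧸ P.B) ℂ) (g : G) (x y : G ⧸ P.B) :
    (M * pmat P g) x y = M x (g • y) := by
  simp [Matrix.mul_apply, pmat]

theorem pmat_mul_apply (M : Matrix (G ⧸ P.B) (G ⧸ P.B) ℂ) (g : G) (x y : G ⧸ P.B) :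
    (pmat P g * M) x y = M (g⁻¹ • x) y := by
  simp [Matrix.mul_apply, pmat, ← inv_smul_eq_iff]

theorem pmat_mul (g g' : G) : pmat P (g * g') = pmat P g * pmat P g' := by
  ext x y
  rw [mul_pmat_apply]
  simp [pmat, mul_smul]

theorem pmat_one : pmat P (1 : G) = 1 := by
  ext x y
  simp [pmat, Matrix.one_apply]

theorem phi_comm (h : Weyl P → ℂ) (g : G) : phi P h * pmat P g = pmat P g * phi P h := by
  ext x y
  rw [mul_pmat_apply, pmat_mul_apply, phi_apply, phi_apply, ← wdist_smul P g⁻¹ x (g • y),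
    inv_smul_smul]

theorem exists_move {x a y b : G ⧸ P.B} (h : wdist P x a = wdist P y b) :
    ∃ g : G, g • x = y ∧ g • a = b := by
  induction x using QuotientGroup.induction_on with | _ x₁ => ?_
  induction a using QuotientGroup.induction_on with | _ a₁ => ?_
  induction y using QuotientGroup.induction_on with | _ y₁ => ?_
  induction b using QuotientGroup.induction_on with | _ b₁ => ?_
  rw [wdist_mk, wdist_mk] at h
  obtain ⟨n, hn⟩ := toW_surjective P (wpos P (x₁⁻¹ * a₁))
  have h1 := wpos_spec P (x₁⁻¹ * a₁)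
  have h2 := wpos_spec P (y₁⁻¹ * b₁)
  rw [← h] at h2
  rw [← hn, cellW_toW] at h1 h2
  rw [← cell_eq_of_mem P h1] at h2
  obtain ⟨β, hβ, γ, hγ, e⟩ := (mem_cell P).1 h2
  refine ⟨y₁ * β * x₁⁻¹, ?_, ?_⟩
  · rw [MulAction.Quotient.smul_coe, smul_eq_mul, inv_mul_cancel_right, QuotientGroup.eq,
      _root_.mul_inv_rev, mul_assoc, inv_mul_cancel, mul_one]
    exact inv_mem hβ
  · rw [MulAction.Quotient.smul_coe, smul_eq_mul, QuotientGroup.eq]
    have e' : (y₁ * β * x₁⁻¹ * a₁)⁻¹ * b₁ = γ := by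
      calc (y₁ * β * x₁⁻¹ * a₁)⁻¹ * b₁ = (x₁⁻¹ * a₁)⁻¹ * β⁻¹ * (y₁⁻¹ * b₁) := by group
        _ = γ := by rw [e]; group
    rw [e']; exact hγ

theorem exists_eq_phi {M : Matrix (G ⧸ P.B) (G ⧸ P.B) ℂ} (hM : ∀ g, M * pmat P g = pmat P g * M) :
    ∃ h, M = phi P h := by
  let o : G ⧸ P.B := ((1 : G) : G ⧸ P.B)
  choose z hz using wdist_surj P o
  refine ⟨fun w => M o (z w), ?_⟩
  ext x y
  rw [phi_apply]
  obtain ⟨g, hg1, hg2⟩ := exists_move P (x := o) (a := z (wdist P x y)) (y := x) (b := y) (hz _)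
  have := congrFun (congrFun (hM g) x) (z (wdist P x y))
  rw [mul_pmat_apply, pmat_mul_apply, hg2] at this
  rw [this, ← hg1, inv_smul_smul]

/-- number of group elements moving `x` to `y` and `a` to `b` -/
noncomputable def moves (x y a b : G ⧸ P.B) : ℕ :=
  (Finset.univ.filter fun g : G => g • x = y ∧ g • a = b).card

theorem card_move_one (x y : G ⧸ P.B) :
    (Finset.univ.filter fun g : G => g • x = y).card = Nat.card P.B := by
  have hconst : ∀ y', (Finset.univ.filter fun g : G => g • x = y').card =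
      (Finset.univ.filter fun g : G => g • x = y).card := by
    intro y'
    obtain ⟨g₀, hg₀, -⟩ := exists_move P (x := y') (a := y') (y := y) (b := y)
      (by rw [(wdist_eq_one_iff P).2 rfl, (wdist_eq_one_iff P).2 rfl])
    refine Finset.card_equiv (Equiv.mulLeft g₀) fun g => ?_
    simp only [Finset.mem_filter, Finset.mem_univ, true_and, Equiv.coe_mulLeft, mul_smul]
    exact ⟨fun h => by rw [h, hg₀], fun h => MulAction.injective g₀ (h.trans hg₀.symm)⟩
  have h1 := Finset.card_eq_sum_card_fiberwise (s := (Finset.univ : Finset G))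
    (t := (Finset.univ : Finset (G ⧸ P.B))) (f := fun g : G => g • x) fun _ _ => Finset.mem_univ _
  simp only [hconst, Finset.sum_const, smul_eq_mul, Finset.card_univ] at h1
  have h2 := P.B.card_mul_index
  simp only [Subgroup.index_eq_card, Nat.card_eq_fintype_card] at h2
  rw [h1, mul_comm] at h2
  rw [Nat.card_eq_fintype_card]
  exact (Nat.eq_of_mul_eq_mul_left Fintype.card_pos h2).symm

theorem moves_eq_zero {x y a b : G ⧸ P.B} (h : wdist P x a ≠ wdist P y b) : moves P x y a b = 0 := by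
  rw [moves, Finset.card_eq_zero, Finset.filter_eq_empty_iff]
  rintro g - ⟨rfl, rfl⟩
  exact h (wdist_smul P g x a).symm

theorem moves_mul {q : ℕ} (hq : ∀ s : P.S, thick P s = q) {x y a b : G ⧸ P.B}
    (h : wdist P x a = wdist P y b) :
    (moves P x y a b : ℂ) * (q : ℂ) ^ lenW P (wdist P x a) = Nat.card P.B := by
  have hconst : ∀ b', wdist P y b' = wdist P x a → moves P x y a b' = moves P x y a b := by
    intro b' hb'
    obtain ⟨g₀, hg₀, hg₁⟩ := exists_move P (x := y) (a := b') (y := y) (b := b) (hb'.trans h)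
    refine Finset.card_equiv (Equiv.mulLeft g₀) fun g => ?_
    simp only [Finset.mem_filter, Finset.mem_univ, true_and, Equiv.coe_mulLeft, mul_smul]
    exact ⟨fun ⟨e1, e2⟩ => ⟨by rw [e1, hg₀], by rw [e2, hg₁]⟩,
      fun ⟨e1, e2⟩ => ⟨MulAction.injective g₀ (e1.trans hg₀.symm),
        MulAction.injective g₀ (e2.trans hg₁.symm)⟩⟩
  have hsum : ∑ b', (moves P x y a b' : ℂ) = Nat.card P.B := by
    rw [← Nat.cast_sum, ← card_move_one P x y,
      Finset.card_eq_sum_card_fiberwise (t := (Finset.univ : Finset (G ⧸ P.B)))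
        (f := fun g : G => g • a) fun _ _ => Finset.mem_univ _]
    simp only [moves, Finset.filter_filter]
  rw [← hsum, ← adj_row_sum hq (wdist P x a) y, Finset.mul_sum]
  refine Finset.sum_congr rfl fun b' _ => ?_
  rw [adj_apply]
  by_cases hb : wdist P y b' = wdist P x a
  · rw [if_pos hb, mul_one, hconst b' hb]
  · rw [if_neg hb, mul_zero, moves_eq_zero P (fun e => hb e.symm), Nat.cast_zero]

/-- the Casimir map on matrices -/
noncomputable def cas (q N : ℕ) (M : Matrix (G ⧸ P.B) (G ⧸ P.B) ℂ) :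
    Matrix (G ⧸ P.B) (G ⧸ P.B) ℂ :=
  ∑ w : Weyl P, (q : ℂ) ^ (N - lenW P w) • (adj P w * M * adj P w⁻¹)

theorem card_smul_cas {q : ℕ} (hq : ∀ s : P.S, thick P s = q) {N : ℕ}
    (hN : ∀ w : Weyl P, lenW P w ≤ N) (M : Matrix (G ⧸ P.B) (G ⧸ P.B) ℂ) :
    (Nat.card P.B : ℂ) • cas P q N M =
      (q : ℂ) ^ N • ∑ g : G, (M * pmat P g).trace • pmat P g⁻¹ := by
  ext x y
  have hw : ∀ b w, wdist P b y = w⁻¹ ↔ wdist P y b = w := fun b w => by
    rw [wdist_symm P y b, _root_.inv_inj]
  have hL : cas P q N M x y = ∑ a, ∑ b, if wdist P x a = wdist P y b then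
      (q : ℂ) ^ (N - lenW P (wdist P x a)) * M a b else 0 := by
    simp only [cas, Matrix.sum_apply, Matrix.smul_apply, Matrix.mul_apply, smul_eq_mul,
      Finset.sum_mul, Finset.mul_sum, adj_apply, hw]
    rw [Finset.sum_comm]
    rw [Finset.sum_congr rfl fun b _ => Finset.sum_comm]
    rw [Finset.sum_comm]
    refine Finset.sum_congr rfl fun a _ => Finset.sum_congr rfl fun b _ => ?_
    rw [Finset.sum_eq_single (wdist P x a)]
    · rw [if_pos rfl]
      by_cases h : wdist P x a = wdist P y b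
      · rw [if_pos h, if_pos h.symm]; ring
      · rw [if_neg h, if_neg (fun e => h e.symm)]; ring
    · intro w _ hne
      rw [if_neg (fun e => hne e.symm)]; ring
    · intro h; exact absurd (Finset.mem_univ _) h
  have hR : (∑ g : G, (M * pmat P g).trace • pmat P g⁻¹) x y =
      ∑ a, ∑ b, (moves P x y a b : ℂ) * M a b := by
    simp only [Matrix.sum_apply, Matrix.smul_apply, Matrix.trace, Matrix.diag_apply, mul_pmat_apply,
      smul_eq_mul]
    simp only [Finset.sum_mul]
    rw [Finset.sum_comm]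
    refine Finset.sum_congr rfl fun a _ => ?_
    simp only [moves, ← Finset.sum_boole, Finset.sum_mul]
    refine Eq.trans ?_ Finset.sum_comm
    refine Finset.sum_congr rfl fun g _ => ?_
    rw [Finset.sum_eq_single (g • a)]
    · simp only [pmat, Matrix.of_apply]
      by_cases hg : g • x = y
      · rw [if_pos (eq_inv_smul_iff.2 hg), if_pos ⟨hg, trivial⟩, mul_one, one_mul]
      · rw [if_neg (fun e => hg (eq_inv_smul_iff.1 e)), if_neg (fun e => hg e.1), mul_zero, zero_mul]
    · intro b _ hb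
      rw [if_neg fun e => hb e.2.symm, zero_mul]
    · intro h; exact absurd (Finset.mem_univ _) h
  rw [Matrix.smul_apply, Matrix.smul_apply, hL, hR, smul_eq_mul, smul_eq_mul, Finset.mul_sum,
    Finset.mul_sum]
  refine Finset.sum_congr rfl fun a _ => ?_
  rw [Finset.mul_sum, Finset.mul_sum]
  refine Finset.sum_congr rfl fun b _ => ?_
  by_cases h : wdist P x a = wdist P y b
  · rw [if_pos h, ← moves_mul P hq h]
    have e : (q : ℂ) ^ lenW P (wdist P x a) * (q : ℂ) ^ (N - lenW P (wdist P x a)) = (q : ℂ) ^ N := by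
      rw [← pow_add, Nat.add_sub_cancel' (hN _)]
    rw [← e]; ring
  · rw [if_neg h, moves_eq_zero P h]; simp

/-- the isotypic projection, as a matrix -/
noncomputable def proj (χ : IrrCharacter G) : Matrix (G ⧸ P.B) (G ⧸ P.B) ℂ :=
  ∑ g : G, ((χ : G → ℂ) 1 * (Nat.card G : ℂ)⁻¹ * (starRingEnd ℂ) ((χ : G → ℂ) g)) • pmat P g

theorem toLin_pmat (g : G) :
    Matrix.toLinAlgEquiv' (pmat P g) = permRep ℂ G (G ⧸ P.B) g := by
  refine LinearMap.ext fun f => funext fun x => ?_
  rw [Matrix.toLinAlgEquiv'_apply, H13.permRep_apply]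
  simp [Matrix.mulVec, dotProduct, pmat, ← inv_smul_eq_iff]

theorem toLin_proj (χ : IrrCharacter G) :
    Matrix.toLinAlgEquiv' (proj P χ) = H13.isoProj (permRep ℂ G (G ⧸ P.B)) χ := by
  simp only [proj, map_sum, map_smul, toLin_pmat]
  rfl

/-- multiplicity in the permutation character -/
noncomputable def mult (χ : IrrCharacter G) : ℂ :=
  classInner (fixedPointCharacter P.B) (χ : G → ℂ)

theorem proj_eq_zero_iff (χ : IrrCharacter G) : proj P χ = 0 ↔ mult P χ = 0 := by
  rw [mult, show fixedPointCharacter P.B = (permRep ℂ G (G ⧸ P.B)).character from H13.permChar_eq,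
    ← H13.isoProj_eq_zero_iff, ← toLin_proj, map_eq_zero_iff _ Matrix.toLinAlgEquiv'.injective]

theorem proj_mul (χ ψ : IrrCharacter G) :
    proj P χ * proj P ψ = if χ = ψ then proj P χ else 0 := by
  apply Matrix.toLinAlgEquiv'.injective
  rw [map_mul, toLin_proj, toLin_proj, H13.isoProj_mul]
  split_ifs
  · rw [toLin_proj]
  · rw [map_zero]

theorem sum_proj : ∑ χ : IrrCharacter G, proj P χ = 1 := by
  apply Matrix.toLinAlgEquiv'.injective
  rw [map_sum, map_one]
  simp only [toLin_proj]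
  exact H13.sum_isoProj _

theorem proj_comm_of {M : Matrix (G ⧸ P.B) (G ⧸ P.B) ℂ} (hM : ∀ g, M * pmat P g = pmat P g * M)
    (χ : IrrCharacter G) : proj P χ * M = M * proj P χ := by
  simp only [proj, Finset.sum_mul, Finset.mul_sum, smul_mul_assoc, mul_smul_comm, hM]

theorem proj_comm (χ : IrrCharacter G) (g : G) : proj P χ * pmat P g = pmat P g * proj P χ := by
  apply Matrix.toLinAlgEquiv'.injective
  rw [map_mul, map_mul, toLin_proj, toLin_pmat]
  exact H13.isoProj_comm _ χ g

theorem sum_classFun {f : G → ℂ} (hf : IsClassFunction G f) :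
    ∑ g : G, f g • pmat P g⁻¹ = ∑ χ : IrrCharacter G,
      (classInner f χ * (Nat.card G : ℂ) / (χ : G → ℂ) 1) • proj P χ := by
  simp only [proj, Finset.smul_sum, smul_smul]
  rw [Finset.sum_comm]
  refine Fintype.sum_equiv (Equiv.inv G) _ _ fun g => ?_
  simp only [Equiv.inv_apply]
  rw [← Finset.sum_smul, H12.classFunction_apply_eq_sum hf g]
  congr 1
  refine Finset.sum_congr rfl fun χ _ => ?_
  rw [← H12.irr_inv, inv_inv]
  have h1 := H12.irr_apply_one_ne_zero χ
  have h2 : (Nat.card G : ℂ) ≠ 0 := Nat.cast_ne_zero.2 Nat.card_pos.ne'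
  field_simp

variable {q : ℕ} (hq : ∀ s : P.S, thick P s = q) (hq0 : q ≠ 0) {N : ℕ}
  (hN : ∀ w : Weyl P, lenW P w ≤ N)

include hq hN in
theorem cas_mem_span {M : Matrix (G ⧸ P.B) (G ⧸ P.B) ℂ} (hM : ∀ g, M * pmat P g = pmat P g * M) :
    ∃ c : IrrCharacter G → ℂ, cas P q N M = ∑ χ, c χ • proj P χ := by
  have hf : IsClassFunction G fun g => (M * pmat P g).trace := fun g h => by
    show (M * pmat P (h * g * h⁻¹)).trace = (M * pmat P g).trace
    rw [pmat_mul, pmat_mul, ← mul_assoc, ← mul_assoc, hM h, Matrix.trace_mul_comm,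
      ← mul_assoc, ← mul_assoc, ← pmat_mul, inv_mul_cancel, pmat_one, one_mul]
  have h := card_smul_cas P hq hN M
  rw [sum_classFun P hf, Finset.smul_sum] at h
  have hB : (Nat.card P.B : ℂ) ≠ 0 := Nat.cast_ne_zero.2 Nat.card_pos.ne'
  refine ⟨fun χ => (Nat.card P.B : ℂ)⁻¹ * ((q : ℂ) ^ N *
    (classInner (fun g => (M * pmat P g).trace) χ * (Nat.card G : ℂ) / (χ : G → ℂ) 1)), ?_⟩
  rw [← inv_smul_smul₀ hB (cas P q N M), h, Finset.smul_sum]
  simp only [smul_smul, mul_assoc]

include hq hN hq0 in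
theorem cas_one : ∃ b : IrrCharacter G → ℂ, (∀ χ, proj P χ ≠ 0 → b χ ≠ 0) ∧
    cas P q N 1 = ∑ χ, b χ • proj P χ := by
  have hπ : (fun g => ((1 : Matrix (G ⧸ P.B) (G ⧸ P.B) ℂ) * pmat P g).trace) =
      fixedPointCharacter P.B := by
    funext g
    rw [one_mul, fixedPointCharacter,
      show Nat.card (MulAction.fixedBy (G ⧸ P.B) g) = Nat.card {x : G ⧸ P.B // x = g • x} from
        Nat.card_congr (Equiv.subtypeEquivRight fun x => eq_comm),
      Nat.card_eq_fintype_card, Fintype.card_subtype]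
    simp only [Matrix.trace, Matrix.diag_apply, pmat, Matrix.of_apply, Finset.sum_boole]
  have hcl : IsClassFunction G (fixedPointCharacter P.B) := by
    rw [show fixedPointCharacter P.B = (permRep ℂ G (G ⧸ P.B)).character from H13.permChar_eq]
    exact H12.IsCharacter.isClassFunction (H12.isCharacter_character _)
  have h := card_smul_cas P hq hN 1
  rw [sum_classFun P (by rw [hπ]; exact hcl), Finset.smul_sum, hπ] at h
  have hB : (Nat.card P.B : ℂ) ≠ 0 := Nat.cast_ne_zero.2 Nat.card_pos.ne'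
  refine ⟨fun χ => (Nat.card P.B : ℂ)⁻¹ * ((q : ℂ) ^ N *
    (mult P χ * (Nat.card G : ℂ) / (χ : G → ℂ) 1)), fun χ hχ => ?_, ?_⟩
  · have h1 : mult P χ ≠ 0 := fun e => hχ ((proj_eq_zero_iff P χ).2 e)
    have h2 := H12.irr_apply_one_ne_zero χ
    have h3 : (Nat.card G : ℂ) ≠ 0 := Nat.cast_ne_zero.2 Nat.card_pos.ne'
    have h4 : (q : ℂ) ^ N ≠ 0 := pow_ne_zero _ (Nat.cast_ne_zero.2 hq0)
    simp [h1, h2, h3, h4, hB]
  · rw [← inv_smul_smul₀ hB (cas P q N 1), h, Finset.smul_sum]
    simp only [smul_smul, mul_assoc]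
    rfl

include hq in
theorem phi_gamma (h : Weyl P → ℂ) :
    phi P (gammaMat P (q : ℂ) N *ᵥ h) = cas P q N (phi P h) := by
  have hcol : ∀ u, phi P (fun x => gammaMat P (q : ℂ) N x u) = cas P q N (adj P u) := by
    intro u
    show phi P (casimir P (q : ℂ) N u *ᵥ dlt P 1) = _
    rw [casimir, Matrix.sum_mulVec, map_sum]
    refine Finset.sum_congr rfl fun w _ => ?_
    rw [Matrix.smul_mulVec, map_smul, ← Matrix.mulVec_mulVec, ← Matrix.mulVec_mulVec, phi_lop hq,
      phi_lop hq, lop_one', ← mul_assoc]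
    rfl
  have e : gammaMat P (q : ℂ) N *ᵥ h = ∑ u, h u • fun x => gammaMat P (q : ℂ) N x u := by
    funext x
    simp [Matrix.mulVec, dotProduct, mul_comm]
  rw [e, map_sum, phi_eq_sum P h]
  simp only [map_smul, hcol, cas, Finset.mul_sum, Finset.sum_mul, Finset.smul_sum, mul_smul_comm,
    smul_mul_assoc, smul_smul]
  rw [Finset.sum_comm]
  refine Finset.sum_congr rfl fun w _ => Finset.sum_congr rfl fun u _ => ?_
  rw [mul_comm]

include hq hN hq0 in
theorem constituents_le_rank_gamma :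
    Nat.card {χ : IrrCharacter G // proj P χ ≠ 0} ≤ (gammaMat P (q : ℂ) N).rank := by
  obtain ⟨b, hb, hcas⟩ := cas_one P hq hq0 hN
  have hγ : ∀ χ : {χ : IrrCharacter G // proj P χ ≠ 0},
      ∃ h, phi P (gammaMat P (q : ℂ) N *ᵥ h) = proj P χ.1 := by
    intro χ
    obtain ⟨h, hh⟩ := exists_eq_phi P (proj_comm P χ.1)
    refine ⟨(b χ.1)⁻¹ • h, ?_⟩
    rw [Matrix.mulVec_smul, map_smul, phi_gamma P hq, ← hh]
    have e : cas P q N (proj P χ.1) = proj P χ.1 * cas P q N 1 := by
      simp only [cas, Finset.mul_sum, mul_smul_comm, ← mul_assoc, mul_one]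
      refine Finset.sum_congr rfl fun w _ => ?_
      rw [proj_comm_of P (M := adj P w) (fun g => phi_comm P _ g)]
    rw [e, hcas, Finset.mul_sum, Finset.sum_eq_single χ.1, mul_smul_comm, proj_mul, if_pos rfl,
      inv_smul_smul₀ (hb _ χ.2)]
    · intro ψ _ hψ
      rw [mul_smul_comm, proj_mul, if_neg hψ.symm, smul_zero]
    · intro h'; exact absurd (Finset.mem_univ _) h'
  choose h hh using hγ
  let v : {χ : IrrCharacter G // proj P χ ≠ 0} → LinearMap.range (gammaMat P (q : ℂ) N).mulVecLin :=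
    fun χ => ⟨gammaMat P (q : ℂ) N *ᵥ h χ, h χ, rfl⟩
  have hli : LinearIndependent ℂ v := by
    rw [Fintype.linearIndependent_iff]
    intro a ha χ
    have h1 := congrArg (fun z : LinearMap.range (gammaMat P (q : ℂ) N).mulVecLin =>
      phi P (z : Weyl P → ℂ) * proj P χ.1) ha
    simp only [Submodule.coe_sum, Submodule.coe_smul, map_sum, map_smul, v, hh, Finset.sum_mul,
      smul_mul_assoc, proj_mul, ZeroMemClass.coe_zero, map_zero, zero_mul] at h1
    rw [Finset.sum_eq_single χ (fun ψ _ hψ => by rw [if_neg (fun e => hψ (Subtype.ext e)), smul_zero])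
      (fun h' => absurd (Finset.mem_univ _) h'), if_pos rfl] at h1
    exact (smul_eq_zero.1 h1).resolve_right χ.2
  rw [Nat.card_eq_fintype_card]
  exact hli.fintype_card_le_finrank

include hq hN hq0 in
theorem ker_cent_le_constituents [Fintype P.S] :
    Nat.card (Weyl P) ≤ (centMat P (q : ℂ)).rank +
      Nat.card {χ : IrrCharacter G // proj P χ ≠ 0} := by
  set C := centMat P (q : ℂ) with hC
  have hrn := LinearMap.finrank_range_add_finrank_ker C.mulVecLin
  rw [Module.finrank_fintype_fun_eq_card] at hrn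
  have hs : ∀ h ∈ LinearMap.ker C.mulVecLin, ∀ s : P.S,
      adj P (simW P s) * phi P h = phi P h * adj P (simW P s) := by
    intro h hh s
    have h0 : (∑ v, h v • ((Lmat P (q : ℂ) s * Lop P (q : ℂ) v - Lop P (q : ℂ) v * Lmat P (q : ℂ) s)
        *ᵥ dlt P 1)) = 0 := by
      funext x
      have h1 := congrFun (LinearMap.mem_ker.1 hh) (s, x)
      rw [Matrix.mulVecLin_apply, Pi.zero_apply] at h1
      rw [Pi.zero_apply, ← h1, Finset.sum_apply]
      exact Finset.sum_congr rfl fun v _ => mul_comm _ _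
    have h2 := congrArg (phi P) h0
    have hone : Lmat P (q : ℂ) s *ᵥ dlt P 1 = dlt P (simW P s) := by
      rw [lmat_dlt, if_pos (by rw [lenW_one, mul_one, lenW_simW]; exact one_pos), mul_one]
    simp only [map_sum, map_smul, map_zero, Matrix.sub_mulVec, ← Matrix.mulVec_mulVec, lop_one', hone,
      map_sub, phi_lmat hq, phi_lop hq] at h2
    simp only [smul_sub, Finset.sum_sub_distrib, ← mul_smul_comm, ← Finset.mul_sum] at h2
    rw [show (∑ v, h v • phi P (dlt P v)) = phi P h from (phi_eq_sum P h).symm] at h2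
    simp only [mul_smul_comm, ← smul_mul_assoc, ← Finset.sum_mul] at h2
    rw [show (∑ v, h v • adj P v) = phi P h from (phi_eq_sum P h).symm] at h2
    exact sub_eq_zero.1 h2
  have hcomm : ∀ h ∈ LinearMap.ker C.mulVecLin, ∀ w,
      adj P w * phi P h = phi P h * adj P w := by
    intro h hh w
    obtain ⟨l, hl, rfl⟩ := exists_red P w
    induction l with
    | nil => simp [adj_one]
    | cons s l ih =>
      have hl' := Red.tail P hl
      have h' : lenW P (simW P s * ws P l) = l.length + 1 := by rw [← ws_cons]; exact hl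
      have e := adj_simW_mul hq s (ws P l)
      rw [if_pos (by rw [hl', h']; omega)] at e
      rw [ws_cons, ← e, mul_assoc, ih hl', ← mul_assoc, hs h hh s, mul_assoc]
  obtain ⟨b, hb, hcas⟩ := cas_one P hq hq0 hN
  let T : ({χ : IrrCharacter G // proj P χ ≠ 0} → ℂ) →ₗ[ℂ] Matrix (G ⧸ P.B) (G ⧸ P.B) ℂ :=
    Fintype.linearCombination ℂ fun χ => proj P χ.1
  have hmem : ∀ h ∈ LinearMap.ker C.mulVecLin, phi P h ∈ LinearMap.range T := by
    intro h hh
    have e : cas P q N (phi P h) = phi P h * cas P q N 1 := by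
      simp only [cas, Finset.mul_sum, mul_smul_comm, ← mul_assoc, mul_one, hcomm h hh]
    obtain ⟨c, hc⟩ := cas_mem_span P hq hN (phi_comm P h)
    rw [e, hcas, Finset.mul_sum] at hc
    have key : ∀ χ, phi P h * proj P χ = (c χ / b χ) • proj P χ := by
      intro χ
      by_cases hp : proj P χ = 0
      · rw [hp, mul_zero, smul_zero]
      have h1 := congrArg (· * proj P χ) hc
      simp only [Finset.sum_mul, smul_mul_assoc, mul_smul_comm, mul_assoc, proj_mul] at h1
      rw [Finset.sum_eq_single χ, Finset.sum_eq_single χ, if_pos rfl] at h1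
      · rw [div_eq_inv_mul, mul_smul, ← h1, inv_smul_smul₀ (hb χ hp)]
      all_goals first
        | (intro ψ _ hψ; rw [if_neg hψ]; simp)
        | (intro h'; exact absurd (Finset.mem_univ _) h')
    refine ⟨fun χ => c χ.1 / b χ.1, ?_⟩
    have e2 : phi P h = ∑ χ, (c χ / b χ) • proj P χ := by
      simp only [← key, ← Finset.mul_sum, sum_proj, mul_one]
    rw [e2, Fintype.linearCombination_apply]
    rw [← Finset.sum_subtype (Finset.univ.filter fun χ : IrrCharacter G => proj P χ ≠ 0)
      (by simp) (fun χ => (c χ / b χ) • proj P χ)]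
    refine Finset.sum_filter_of_ne fun χ _ hne e => hne ?_
    rw [e, smul_zero]
  let Φ : LinearMap.ker C.mulVecLin →ₗ[ℂ] LinearMap.range T :=
    LinearMap.codRestrict _ ((phi P).comp (LinearMap.ker C.mulVecLin).subtype) fun h => hmem _ h.2
  have hΦ : Function.Injective Φ := fun h h' e =>
    Subtype.ext (phi_injective P (congrArg Subtype.val e))
  have h2 := (LinearMap.finrank_le_finrank_of_injective hΦ).trans T.finrank_range_le
  rw [Module.finrank_fintype_fun_eq_card] at h2
  rw [Nat.card_eq_fintype_card, Nat.card_eq_fintype_card]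
  show _ ≤ Module.finrank ℂ (LinearMap.range C.mulVecLin) + _
  omega

omit [Fintype (Weyl P)] [Fintype (G ⧸ P.B)] [DecidableEq (G ⧸ P.B)] in
theorem constituent_iff (χ : IrrCharacter G) :
    (∃ φ : G → ℂ, IsCharacter G φ ∧ fixedPointCharacter P.B = (χ : G → ℂ) + φ) ↔
      mult P χ ≠ 0 := by
  have hπ : IsCharacter G (fixedPointCharacter P.B) := by
    rw [show fixedPointCharacter P.B = (permRep ℂ G (G ⧸ P.B)).character from H13.permChar_eq]
    exact H12.isCharacter_character _
  constructor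
  · rintro ⟨φ, hφ, e⟩
    obtain ⟨m, hm⟩ := H12.IsCharacter.classInner_nat hφ (H12.isCharacter_irr χ)
    rw [mult, e, H12.classInner_add_left, H12.classInner_irr_self, hm]
    rw [← Nat.cast_one, ← Nat.cast_add]
    exact Nat.cast_ne_zero.2 (by omega)
  · intro h
    refine ⟨fixedPointCharacter P.B - (χ : G → ℂ), ?_, by rw [add_sub_cancel]⟩
    rw [H12.isCharacter_iff]
    refine ⟨H12.IsClassFunction.sub (H12.IsCharacter.isClassFunction hπ) (H12.irr_isClassFunction χ),
      fun ψ => ?_⟩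
    obtain ⟨m, hm⟩ := H12.IsCharacter.classInner_nat hπ (H12.isCharacter_irr ψ)
    rw [H12.classInner_sub_left, hm, H12.classInner_irr]
    split_ifs with e
    · subst e
      rw [mult, hm] at h
      have : m ≠ 0 := fun e => h (by rw [e, Nat.cast_zero])
      exact ⟨m - 1, by rw [Nat.cast_sub (Nat.one_le_iff_ne_zero.2 this), Nat.cast_one]⟩
    · exact ⟨m, by rw [sub_zero]⟩

omit [Fintype (Weyl P)] [Fintype (G ⧸ P.B)] [DecidableEq (G ⧸ P.B)] in
include hq hq0 in
/-- The number of distinct constituents of `1_B^G` is the number of classes of the Weyl group. -/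
theorem constituents_card :
    Nat.card {χ : IrrCharacter G // ∃ φ : G → ℂ, IsCharacter G φ ∧
      fixedPointCharacter P.B = (χ : G → ℂ) + φ} = Nat.card (ConjClasses (Weyl P)) := by
  haveI := Fintype.ofFinite (Weyl P)
  haveI := Fintype.ofFinite (G ⧸ P.B)
  haveI := Fintype.ofFinite P.S
  have hN : ∀ w : Weyl P, lenW P w ≤ Finset.univ.sup (lenW P) := fun w =>
    Finset.le_sup (Finset.mem_univ w)
  set N := Finset.univ.sup (lenW P) with hNdef
  have e : Nat.card {χ : IrrCharacter G // ∃ φ : G → ℂ, IsCharacter G φ ∧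
      fixedPointCharacter P.B = (χ : G → ℂ) + φ} = Nat.card {χ : IrrCharacter G // proj P χ ≠ 0} :=
    Nat.card_congr (Equiv.subtypeEquivRight fun χ => by
      rw [constituent_iff, Ne, Ne, proj_eq_zero_iff])
  have h1 := classes_le_rank_gamma (P := P) N
  have h2 := ker_cent_le_classes (P := P)
  have h3 := constituents_le_rank_gamma P hq hq0 hN
  have h4 := ker_cent_le_constituents P hq hq0 hN
  have h5 := rank_add_le P hN 1 (q : ℂ)
  have h6 := rank_add_le P hN (q : ℂ) 1
  omega

end H21.Hecke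

namespace H21

open H53.RootGroupSys

/-- the thickness of the panels of a root group system -/
theorem thick_rootSys {G : Type*} [Group G] {ι R : Type*} {S : H53.RootGroupSys G ι R} (hS : S.Axioms)
    (hsep : Sep S) (i : ι) :
    H56.thick (pair hS hsep) ⟨S.n i, ⟨i, rfl⟩⟩ = Nat.card (S.U (S.a i)) := by
  set P := pair hS hsep with hP
  let s : P.S := ⟨S.n i, ⟨i, rfl⟩⟩
  have hn : ∀ x ∈ S.U (S.a i), x * S.n i ∈ H56.cellW P (H56.simW P s) := by
    intro x hx
    rw [H56.cellW_simW]
    refine (H56.mem_cell P).2 ⟨x, Uplus_le_B (U_le_Uplus (hS.pos_a i) hx), 1, one_mem _, ?_⟩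
    show x * S.n i = x * S.n i * 1
    rw [mul_one]
  let f : S.U (S.a i) → {z : G ⧸ P.B // H56.wdist P ((1 : G) : G ⧸ P.B) z = H56.simW P s} :=
    fun x => ⟨((x * S.n i : G) : G ⧸ P.B), by
      rw [H56.wdist_mk, inv_one, one_mul, H56.wpos_eq_iff]; exact hn x x.2⟩
  refine (Nat.card_congr (Equiv.ofBijective f ⟨?_, ?_⟩)).symm
  · intro x y e
    have e' := QuotientGroup.eq.1 (congrArg Subtype.val e)
    have hz : (x : G)⁻¹ * y ∈ S.U (S.a i) := mul_mem (inv_mem x.2) y.2
    have h1 := acts_conj_mem (acts_inv (acts_n hS i)) hz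
    rw [inv_inv, sigma_inv hS, hS.sigma_a] at h1
    have h2 : (S.n i)⁻¹ * ((x : G)⁻¹ * y) * S.n i ∈ S.B := by
      have : (S.n i)⁻¹ * ((x : G)⁻¹ * y) * S.n i = ((x : G) * S.n i)⁻¹ * (y * S.n i) := by group
      rw [this]; exact e'
    have h3 : (S.n i)⁻¹ * ((x : G)⁻¹ * y) * S.n i ∈ S.B ⊓ S.Uminus :=
      Subgroup.mem_inf.2 ⟨h2, Subgroup.subset_closure ⟨_, pos_neg_a hS i, h1⟩⟩
    rw [hsep.B_V, Subgroup.mem_bot] at h3
    apply Subtype.ext
    rw [← inv_mul_eq_one]
    calc (x : G)⁻¹ * y = S.n i * ((S.n i)⁻¹ * ((x : G)⁻¹ * y) * S.n i) * (S.n i)⁻¹ := by group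
      _ = 1 := by rw [h3]; group
  · rintro ⟨z, hz⟩
    induction z using QuotientGroup.induction_on with | _ g => ?_
    rw [H56.wdist_mk, inv_one, one_mul, H56.wpos_eq_iff, H56.cellW_simW] at hz
    obtain ⟨b, hb, c, hc, hg⟩ := (H56.mem_cell P).1 hz
    obtain ⟨u, hu, h, hh, rfl⟩ := mem_B hS (show b ∈ S.B from hb)
    obtain ⟨v, hv, x, hx, rfl⟩ := Uplus_split hS i hu
    refine ⟨⟨x, hx⟩, Subtype.ext (QuotientGroup.eq.2 ?_)⟩
    show (x * S.n i)⁻¹ * g ∈ S.B
    have hv' : x⁻¹ * v * x ∈ S.Uhat i := by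
      simpa using Ua_conj_Uhat hS i (inv_mem hx) hv
    have hh' : (S.n i)⁻¹ * h * S.n i ∈ S.H := by
      obtain ⟨k, hk, e⟩ := n_inv_eq hS i
      have : (S.n i)⁻¹ * h * S.n i = k * (S.n i * h * (S.n i)⁻¹) * (S.n i * S.n i) := by
        calc (S.n i)⁻¹ * h * S.n i = k * S.n i * h * S.n i := by rw [e]
          _ = _ := by group
      rw [this]
      exact mul_mem (mul_mem hk (hS.n_norm i h hh)) (hS.n_sq i)
    have e : (x * S.n i)⁻¹ * g =
        ((S.n i)⁻¹ * (x⁻¹ * v * x) * S.n i) * ((S.n i)⁻¹ * h * S.n i) * c := by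
      rw [hg]
      show (x * S.n i)⁻¹ * (v * x * h * S.n i * c) = _
      group
    rw [e]
    exact mul_mem (mul_mem (Uplus_le_B (Uhat_le_Uplus i (n_inv_conj_Uhat hS i hv'))) (H_le_B hh')) hc

end H21
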