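import Cfsg.Agent.H21.SL2Blocks
import Cfsg.Agent.H40.SL2Arith
import Cfsg.Agent.H74.SL2
import Cfsg.Agent.H19.ItoSylow
import Cfsg.Agent.H13.AbelianDegree
import Cfsg.Agent.H12.Transport
import Cfsg.Agent.S2299
import Cfsg.Agent.S2325

/-!
The McKay equality for `SL₂(q)`, `q` odd.
-/

set_option autoImplicit false
set_option linter.style.haveILetI false
set_option linter.unusedSectionVars false

namespace H21

open Cfsg Matrix
open scoped Classical commutatorElement

universe u

theorem charDegree_irrCongr {G K : Type*} [Group G] [Group K] (e : K ≃* G) (χ : IrrCharacter G) :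
    charDegree (H12.irrCongr e χ : K → ℂ) = charDegree (χ : G → ℂ) := by
  simp [charDegree, H12.irrCongr_apply]

theorem card_irr_deg_of_eq_top {G : Type*} [Group G] (H : Subgroup G) (h : H = ⊤) (P : ℕ → Prop) :
    Nat.card {χ : IrrCharacter G // P (charDegree (χ : G → ℂ))} =
      Nat.card {ψ : IrrCharacter H // P (charDegree (ψ : H → ℂ))} :=
  Nat.card_congr (Equiv.subtypeEquiv
    (H12.irrCongr ((MulEquiv.subgroupCongr h).trans Subgroup.topEquiv)) fun χ => by
      rw [charDegree_irrCongr])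

theorem card_coprime_irr_normalizer {G : Type*} [Group G] [Finite G] {ℓ : ℕ} [Fact ℓ.Prime]
    (S : Sylow ℓ G) (hab : ∀ a ∈ (S : Subgroup G), ∀ b ∈ (S : Subgroup G), a * b = b * a) :
    Nat.card {ψ : IrrCharacter (Subgroup.normalizer ((S : Subgroup G) : Set G)) //
      ¬ ℓ ∣ charDegree (ψ : Subgroup.normalizer ((S : Subgroup G) : Set G) → ℂ)} =
      Nat.card (ConjClasses (Subgroup.normalizer ((S : Subgroup G) : Set G))) := by
  let S' := Sylow.subtype (P := S) (Subgroup.le_normalizer (H := (S : Subgroup G)))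
  have hS' : (S' : Subgroup (Subgroup.normalizer ((S : Subgroup G) : Set G))) =
      (S : Subgroup G).subgroupOf (Subgroup.normalizer ((S : Subgroup G) : Set G)) := rfl
  have hn : (S' : Subgroup (Subgroup.normalizer ((S : Subgroup G) : Set G))).Normal := by
    rw [hS']; exact Subgroup.normal_in_normalizer
  have hab' : ∀ a ∈ (S' : Subgroup (Subgroup.normalizer ((S : Subgroup G) : Set G))),
      ∀ b ∈ (S' : Subgroup (Subgroup.normalizer ((S : Subgroup G) : Set G))), a * b = b * a :=
    fun a ha b hb => Subtype.ext (hab _ ha _ hb)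
  haveI := Fintype.ofFinite (Subgroup.normalizer ((S : Subgroup G) : Set G))
  rw [← H12.card_irrCharacter]
  exact Nat.card_congr (Equiv.subtypeUnivEquiv fun χ =>
    H19.ItoSylow.not_dvd_of_normal_abelian S' hn hab' χ)

theorem sum_deg_sq_eq {G : Type*} [Group G] [Fintype G] :
    ∑ χ : IrrCharacter G, charDegree (χ : G → ℂ) ^ 2 = Nat.card G :=
  H12.sum_degree_sq_nat

theorem card_deg_one {G : Type*} [Group G] [Fintype G] :
    (Finset.univ.filter fun χ : IrrCharacter G => charDegree (χ : G → ℂ) = 1).card =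
      (commutator G).index := by
  rw [← H12.card_linear_irr, ← Fintype.card_subtype, ← Nat.card_eq_fintype_card]
  refine Nat.card_congr (Equiv.subtypeEquivRight fun χ => ?_)
  rw [H22.irr_one_eq_charDegree χ, Nat.cast_eq_one]

variable {F : Type u} [Field F] [Fintype F]

local notation "S2" => Matrix.SpecialLinearGroup (Fin 2) F

theorem eq_pm_of_mul_self (h2 : (2 : F) ≠ 0) {y : S2} (hy : y * y = 1) : y = 1 ∨ y = -1 := by
  refine H40.eq_pm_of_scalar ?_
  have e : ((y⁻¹ : S2) : Matrix (Fin 2) (Fin 2) F) = (y : Matrix (Fin 2) (Fin 2) F) := by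
    rw [inv_eq_of_mul_eq_one_right hy]
  rw [Matrix.SpecialLinearGroup.coe_inv, adjugate_fin_two] at e
  have e00 := congrFun (congrFun e 0) 0
  have e01 := congrFun (congrFun e 0) 1
  have e10 := congrFun (congrFun e 1) 0
  simp at e00 e01 e10
  refine ⟨?_, ?_, e00.symm⟩
  · exact (mul_eq_zero.1 (show (2 : F) * (y : Matrix (Fin 2) (Fin 2) F) 0 1 = 0 by
      linear_combination -e01)).resolve_left h2
  · exact (mul_eq_zero.1 (show (2 : F) * (y : Matrix (Fin 2) (Fin 2) F) 1 0 = 0 by
      linear_combination -e10)).resolve_left h2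

/-! ### the Borel subgroup -/

/-- the upper triangular subgroup -/
abbrev mcBorel : Subgroup S2 := Subgroup.normalizer (H74.SL2.upper F : Set S2)

/-- coordinates on the upper triangular subgroup -/
noncomputable def mcBorelEquiv : (mcBorel (F := F)) ≃ Fˣ × F where
  toFun g := (Units.mkOfMulEqOne ((g.1 : Matrix (Fin 2) (Fin 2) F) 0 0)
    ((g.1 : Matrix (Fin 2) (Fin 2) F) 1 1) (by
      have hd := g.1.2
      rw [det_fin_two, H74.SL2.mem_normalizer_upper.1 g.2, mul_zero, sub_zero] at hd
      exact hd), (g.1 : Matrix (Fin 2) (Fin 2) F) 0 1)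
  invFun w := ⟨⟨!![(w.1 : F), w.2; 0, (w.1⁻¹ : Fˣ)], by simp [det_fin_two]⟩,
    H74.SL2.mem_normalizer_upper.2 rfl⟩
  left_inv g := by
    have hd := g.1.2
    rw [det_fin_two, H74.SL2.mem_normalizer_upper.1 g.2, mul_zero, sub_zero] at hd
    apply Subtype.ext
    apply Subtype.ext
    ext i j
    fin_cases i <;> fin_cases j <;>
      simp [(H74.SL2.mem_normalizer_upper.1 g.2)]
    exact inv_eq_of_mul_eq_one_right hd
  right_inv w := by
    refine Prod.ext (Units.ext ?_) ?_ <;> simp

theorem card_lin_solutions (u v : F) :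
    Nat.card {bd : F × F // bd.2 * u = bd.1 * v} =
      if u = 0 ∧ v = 0 then Fintype.card F ^ 2 else Fintype.card F := by
  split_ifs with h
  · rw [h.1, h.2, Nat.card_congr (Equiv.subtypeUnivEquiv fun bd => by simp), Nat.card_prod,
      Nat.card_eq_fintype_card, sq]
  · rw [← Nat.card_eq_fintype_card]
    by_cases hu : u = 0
    · have hv : v ≠ 0 := fun hv => h ⟨hu, hv⟩
      refine Nat.card_congr
        { toFun := fun bd => bd.1.2
          invFun := fun d => ⟨(0, d), by simp [hu]⟩
          left_inv := fun bd => ?_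
          right_inv := fun d => rfl }
      obtain ⟨⟨b, d⟩, hb⟩ := bd
      subst hu
      simp only [mul_zero] at hb
      exact Subtype.ext (Prod.ext ((mul_eq_zero.1 hb.symm).resolve_right hv).symm rfl)
    · refine Nat.card_congr
        { toFun := fun bd => bd.1.1
          invFun := fun b => ⟨(b, b * v / u), by simp [div_mul_cancel₀, hu]⟩
          left_inv := fun bd => ?_
          right_inv := fun b => rfl }
      refine Subtype.ext (Prod.ext rfl ?_)
      show bd.1.1 * v / u = bd.1.2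
      rw [← bd.2, mul_div_cancel_right₀ _ hu]

theorem card_classes_borel (h2 : (2 : F) ≠ 0) :
    Nat.card (ConjClasses (mcBorel (F := F))) = Fintype.card F + 3 := by
  set q := Fintype.card F with hq
  have hB : Nat.card (mcBorel (F := F)) = (q - 1) * q := by
    rw [Nat.card_congr mcBorelEquiv, Nat.card_prod, Nat.card_units, Nat.card_eq_fintype_card]
  have hiff : ∀ g h : (mcBorel (F := F)), Commute g h ↔
      (mcBorelEquiv h).2 * (((mcBorelEquiv g).1 : F) - ((mcBorelEquiv g).1⁻¹ : Fˣ)) =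
        (mcBorelEquiv g).2 * (((mcBorelEquiv h).1 : F) - ((mcBorelEquiv h).1⁻¹ : Fˣ)) := by
    intro g h
    have hg := H74.SL2.mem_normalizer_upper.1 g.2
    have hh := H74.SL2.mem_normalizer_upper.1 h.2
    have hd : ∀ x : (mcBorel (F := F)), ((x : S2) : Matrix (Fin 2) (Fin 2) F) 1 1 =
        (((x : S2) : Matrix (Fin 2) (Fin 2) F) 0 0)⁻¹ := by
      intro x
      have h' := x.1.2
      rw [det_fin_two, H74.SL2.mem_normalizer_upper.1 x.2, mul_zero, sub_zero] at h'
      exact (inv_eq_of_mul_eq_one_right h').symm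
    rw [commute_iff_eq]
    simp only [mcBorelEquiv, Equiv.coe_fn_mk]
    constructor
    · intro e
      have e' := congrArg (fun x : (mcBorel (F := F)) => ((x : S2) : Matrix (Fin 2) (Fin 2) F)) e
      simp only [Subgroup.coe_mul, Matrix.SpecialLinearGroup.coe_mul] at e'
      have e01 := congrFun (congrFun e' 0) 1
      simp [mul_apply, Fin.sum_univ_two, hd] at e01 ⊢
      linear_combination e01
    · intro e
      simp at e
      apply Subtype.ext
      apply Subtype.ext
      simp only [Subgroup.coe_mul, Matrix.SpecialLinearGroup.coe_mul]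
      ext i j
      fin_cases i <;> fin_cases j <;> simp [mul_apply, Fin.sum_univ_two, hg, hh, hd]
      · ring
      · linear_combination e
      · ring
  let e : {gh : (mcBorel (F := F)) × (mcBorel (F := F)) // Commute gh.1 gh.2} ≃
      (Σ ac : Fˣ × Fˣ, {bd : F × F //
        bd.2 * ((ac.1 : F) - ((ac.1⁻¹ : Fˣ) : F)) = bd.1 * ((ac.2 : F) - ((ac.2⁻¹ : Fˣ) : F))}) :=
    { toFun := fun w => ⟨((mcBorelEquiv w.1.1).1, (mcBorelEquiv w.1.2).1),
        ⟨((mcBorelEquiv w.1.1).2, (mcBorelEquiv w.1.2).2), (hiff _ _).1 w.2⟩⟩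
      invFun := fun w => ⟨(mcBorelEquiv.symm (w.1.1, w.2.1.1), mcBorelEquiv.symm (w.1.2, w.2.1.2)),
        (hiff _ _).2 (by simpa using w.2.2)⟩
      left_inv := fun w => Subtype.ext (Prod.ext (by simp) (by simp))
      right_inv := fun w => Sigma.subtype_ext (by simp) (by simp) }
  have hsq : (Finset.univ.filter fun a : Fˣ => (a : F) - ((a⁻¹ : Fˣ) : F) = 0).card = 2 := by
    have : (Finset.univ.filter fun a : Fˣ => (a : F) - ((a⁻¹ : Fˣ) : F) = 0) = {1, -1} := by
      ext a
      simp only [Finset.mem_filter, Finset.mem_univ, true_and, Finset.mem_insert,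
        Finset.mem_singleton, sub_eq_zero]
      rw [Units.val_inj, eq_inv_iff_mul_eq_one]
      constructor
      · intro h
        rcases mul_self_eq_one_iff.1 (show (a : F) * a = 1 from congrArg Units.val h) with h' | h'
        · exact Or.inl (Units.ext h')
        · exact Or.inr (Units.ext (by simpa using h'))
      · rintro (rfl | rfl) <;> simp
    rw [this, Finset.card_pair]
    intro h
    exact h2 (by have h' : (1 : F) = -1 := congrArg Units.val h
                 linear_combination h')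
  have hmain := card_comm_eq_card_conjClasses_mul_card (mcBorel (F := F))
  rw [Nat.card_congr e, Nat.card_sigma] at hmain
  simp only [card_lin_solutions] at hmain
  rw [Finset.sum_ite, Finset.sum_const, Finset.sum_const] at hmain
  have hA : (Finset.univ.filter fun ac : Fˣ × Fˣ =>
      (ac.1 : F) - ((ac.1⁻¹ : Fˣ) : F) = 0 ∧ (ac.2 : F) - ((ac.2⁻¹ : Fˣ) : F) = 0).card = 4 := by
    rw [show (Finset.univ.filter fun ac : Fˣ × Fˣ =>
      (ac.1 : F) - ((ac.1⁻¹ : Fˣ) : F) = 0 ∧ (ac.2 : F) - ((ac.2⁻¹ : Fˣ) : F) = 0) =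
      (Finset.univ.filter fun a : Fˣ => (a : F) - ((a⁻¹ : Fˣ) : F) = 0) ×ˢ
      (Finset.univ.filter fun a : Fˣ => (a : F) - ((a⁻¹ : Fˣ) : F) = 0) from by ext; simp,
      Finset.card_product, hsq]
  have hU : Fintype.card (Fˣ × Fˣ) = (q - 1) * (q - 1) := by
    rw [Fintype.card_prod, Fintype.card_units]
  have hsplit := Finset.card_filter_add_card_filter_not (s := (Finset.univ : Finset (Fˣ × Fˣ)))
    (fun ac => (ac.1 : F) - ((ac.1⁻¹ : Fˣ) : F) = 0 ∧ (ac.2 : F) - ((ac.2⁻¹ : Fˣ) : F) = 0)
  rw [hA, Finset.card_univ, hU] at hsplit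
  rw [hA, hB] at hmain
  obtain ⟨r, hr⟩ : ∃ r, q = r + 1 := ⟨q - 1, by have := Fintype.card_pos (α := F); omega⟩
  rw [smul_eq_mul, smul_eq_mul, ← hq, hr] at hmain
  rw [hr, Nat.add_sub_cancel] at hsplit
  rw [Nat.add_sub_cancel] at hmain
  have hr0 : 0 < r := by have := Fintype.one_lt_card (α := F); omega
  refine Nat.eq_of_mul_eq_mul_right (Nat.mul_pos hr0 (Nat.succ_pos r)) ?_
  rw [hr, ← hmain]
  generalize Finset.card _ = X at hsplit ⊢
  nlinarith [congrArg (· * (r + 1)) hsplit]

theorem mckay_sl2_p (hodd : Odd (Fintype.card F)) (p : ℕ) [Fact p.Prime] [CharP F p] (hp2 : p ≠ 2)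
    (S : Sylow p S2) :
    Nat.card {χ : IrrCharacter S2 // ¬ p ∣ charDegree (χ : S2 → ℂ)} =
      Nat.card {ψ : IrrCharacter (Subgroup.normalizer ((S : Subgroup S2) : Set S2)) //
        ¬ p ∣ charDegree (ψ : Subgroup.normalizer ((S : Subgroup S2) : Set S2) → ℂ)} := by
  obtain ⟨C, hC⟩ := (H17.slEmb F).exists_nonSplit
  have hpq : p ∣ Fintype.card F := by
    obtain ⟨n, -, hn⟩ := FiniteField.card F p
    exact hn ▸ dvd_pow_self p n.ne_zero
  have hiff : ∀ χ : IrrCharacter S2, ¬ p ∣ charDegree (χ : S2 → ℂ) ↔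
      ¬ ((χ : S2 → ℂ) 1 = (Fintype.card F : ℂ)) := by
    intro χ
    refine ⟨fun h e => h ?_, not_dvd_degree_of_ne_card hp2 χ⟩
    rw [H22.irr_one_eq_charDegree χ, Nat.cast_inj] at e
    rwa [e]
  have hleft : Nat.card {χ : IrrCharacter S2 // ¬ p ∣ charDegree (χ : S2 → ℂ)} =
      Fintype.card F + 3 := by
    rw [Nat.card_congr (Equiv.subtypeEquivRight hiff)]
    have hall := H12.card_irrCharacter (G := S2)
    rw [Cfsg.Agent.S2325.result hodd] at hall
    have hone := H17.card_sl_deg_q hC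
    rw [Nat.card_eq_fintype_card] at hone hall ⊢
    rw [Fintype.card_subtype_compl, hone, hall]
    omega
  obtain ⟨k, hk⟩ := MulAction.exists_smul_eq S2 (H74.SL2.upperSylow (F := F) p) S
  have hS : (S : Subgroup S2) = (H74.SL2.upper F).map (MulAut.conj k).toMonoidHom := by
    rw [← hk, Sylow.coe_subgroup_smul, H74.SL2.coe_upperSylow]
    rfl
  have hab : ∀ a ∈ (S : Subgroup S2), ∀ b ∈ (S : Subgroup S2), a * b = b * a := by
    rw [hS]
    rintro _ ⟨a, ha, rfl⟩ _ ⟨b, hb, rfl⟩
    obtain ⟨x, rfl⟩ := H74.SL2.mem_upper.1 ha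
    obtain ⟨y, rfl⟩ := H74.SL2.mem_upper.1 hb
    rw [← map_mul, ← map_mul, ← H74.SL2.uT_add, ← H74.SL2.uT_add, add_comm]
  rw [hleft, card_coprime_irr_normalizer S hab, hS,
    ← card_classes_borel (H40.two_ne_zero_of_odd_card hodd), ← H12.card_irrCharacter,
    ← H12.card_irrCharacter]
  exact Nat.card_congr (H12.irrCongr
    ((MulEquiv.subgroupMap (MulAut.conj k) (mcBorel (F := F))).trans
      (MulEquiv.subgroupCongr (Subgroup.map_equiv_normalizer_eq _ _))).symm)

/-! ### counting by degree -/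

theorem card_deg_filter (hodd : Odd (Fintype.card F)) (hq : 5 ≤ Fintype.card F) (f : ℕ → Prop) :
    Nat.card {χ : IrrCharacter S2 // f (charDegree (χ : S2 → ℂ))} =
      (if f 1 then 1 else 0) + (if f (Fintype.card F) then 1 else 0) +
      (if f (Fintype.card F + 1) then (Fintype.card F - 3) / 2 else 0) +
      (if f (Fintype.card F - 1) then (Fintype.card F - 1) / 2 else 0) +
      (if f ((Fintype.card F + 1) / 2) then 2 else 0) +
      (if f ((Fintype.card F - 1) / 2) then 2 else 0) := by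
  obtain ⟨hval, hcnt⟩ := Cfsg.Agent.S2299.result (F := F) hodd
  obtain ⟨c1, cq, cp, cm, chp, chm⟩ := hcnt hq
  set q := Fintype.card F with hqdef
  have hd := fun χ : IrrCharacter S2 => H22.irr_one_eq_charDegree χ
  let D : Finset ℕ := {1, q, q + 1, q - 1, (q + 1) / 2, (q - 1) / 2}
  have hmem : ∀ χ : IrrCharacter S2, charDegree (χ : S2 → ℂ) ∈ D := by
    intro χ
    simp only [D, Finset.mem_insert, Finset.mem_singleton]
    have h1 : ((q - 1 : ℕ) : ℂ) = (q : ℂ) - 1 := by
      rw [Nat.cast_sub (by omega), Nat.cast_one]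
    have h2 : ((q + 1 : ℕ) : ℂ) = (q : ℂ) + 1 := by push_cast; rfl
    rcases hval _ χ.2 with d | d | d | d | d | d <;> rw [hd χ] at d
    · left; exact_mod_cast d
    · right; left; exact_mod_cast d
    · right; right; left; rw [← h2] at d; exact_mod_cast d
    · right; right; right; left; rw [← h1] at d; exact Nat.cast_injective d
    · right; right; right; right; left; exact Nat.cast_injective d
    · right; right; right; right; right; exact Nat.cast_injective d
  have hfib : ∀ (d : ℕ) (c : ℂ) (n : ℕ), (d : ℂ) = c →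
      Nat.card {χ : IrrCharacter S2 // (χ : S2 → ℂ) 1 = c} = n →
      ((Finset.univ.filter fun χ : IrrCharacter S2 => f (charDegree (χ : S2 → ℂ))).filter
        fun χ : IrrCharacter S2 => charDegree (χ : S2 → ℂ) = d).card = if f d then n else 0 := by
    intro d c n hdc hn
    rw [Finset.filter_filter]
    split_ifs with hf
    · rw [← hn, Nat.card_eq_fintype_card, Fintype.card_subtype]
      congr 1
      ext χ
      simp only [Finset.mem_filter, Finset.mem_univ, true_and]
      rw [hd χ, ← hdc, Nat.cast_inj]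
      exact ⟨fun h => h.2, fun h => ⟨h ▸ hf, h⟩⟩
    · rw [Finset.card_eq_zero, Finset.filter_eq_empty_iff]
      rintro χ - ⟨h, e⟩
      exact hf (e ▸ h)
  obtain ⟨k, hk⟩ := id hodd
  rw [Nat.card_eq_fintype_card, Fintype.card_subtype,
    Finset.card_eq_sum_card_fiberwise (t := D) (fun χ _ => hmem χ)]
  simp only [D]
  rw [Finset.sum_insert (by simp; omega), Finset.sum_insert (by simp; omega),
    Finset.sum_insert (by simp; omega), Finset.sum_insert (by simp; omega),
    Finset.sum_insert (by simp; omega), Finset.sum_singleton,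
    hfib 1 1 1 Nat.cast_one c1, hfib q q 1 rfl cq,
    hfib (q + 1) _ _ (by push_cast; rfl) cp,
    hfib (q - 1) _ _ (by rw [Nat.cast_sub (by omega), Nat.cast_one]) cm,
    hfib ((q + 1) / 2) _ _ rfl chp, hfib ((q - 1) / 2) _ _ rfl chm]
  simp only [add_assoc]

/-! ### odd primes -/

theorem classes_normalizer_sylow (h2 : (2 : F) ≠ 0) {g : S2} (hg : H40.Reg2 g) (ℓ : ℕ)
    [Fact ℓ.Prime] (hℓ : ℓ ≠ 2) (hdvd : ℓ ∣ Nat.card (H40.tor g))
    (hfull : (Nat.card (H40.tor g)).factorization ℓ = (Nat.card S2).factorization ℓ)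
    (P : Sylow ℓ S2) :
    2 * Nat.card (ConjClasses (Subgroup.normalizer ((P : Subgroup S2) : Set S2))) =
      Nat.card (H40.tor g) + 6 ∧
      (∀ a ∈ (P : Subgroup S2), ∀ b ∈ (P : Subgroup S2), a * b = b * a) := by
  obtain ⟨g', hg', hcard, hle⟩ := H40.sylow_in_torus hg ℓ hfull P
  obtain ⟨hc, -, hn⟩ := H40.odd_sylow_facts h2 hg ℓ hℓ hdvd hfull P
  refine ⟨?_, fun a ha b hb => H40.tor_comm hg' (hle ha) (hle hb)⟩
  have hC : Subgroup.centralizer ((P : Subgroup S2) : Set S2) = H40.tor g' := by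
    refine (Subgroup.eq_of_le_of_card_ge ?_ (by rw [hc, hcard])).symm
    exact fun x hx => Subgroup.mem_centralizer_iff.2 fun z hz => H40.tor_comm hg' (hle hz) hx
  have hN : Subgroup.normalizer ((P : Subgroup S2) : Set S2) =
      Subgroup.normalizer (H40.tor g' : Set S2) := by
    refine Subgroup.eq_of_le_of_card_ge ?_ (by rw [hn, H40.card_normalizer_tor h2 hg', hcard])
    have key : ∀ x ∈ Subgroup.normalizer ((P : Subgroup S2) : Set S2), ∀ y ∈ H40.tor g',
        x * y * x⁻¹ ∈ H40.tor g' := by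
      intro x hx y hy
      rw [← hC, Subgroup.mem_centralizer_iff] at hy ⊢
      intro z hz
      have hz' : x⁻¹ * z * x ∈ (P : Subgroup S2) :=
        (Subgroup.mem_normalizer_iff.1 hx _).2 (by simpa [mul_assoc] using (SetLike.mem_coe.1 hz))
      have := congrArg (fun w => x * w * x⁻¹) (hy _ hz')
      simpa [mul_assoc] using this
    intro x hx
    rw [Subgroup.mem_normalizer_iff]
    refine fun y => ⟨key x hx y, fun hy => ?_⟩
    have := key x⁻¹ (inv_mem hx) _ hy
    simpa [mul_assoc] using this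
  rw [hN, ← hcard]
  exact H40.card_classes_normalizer_tor h2 hg'

theorem mckay_sl2_odd (hodd : Odd (Fintype.card F)) (ℓ : ℕ) [Fact ℓ.Prime] (hℓ : ℓ ≠ 2)
    (hdvd : ℓ ∣ Fintype.card F - 1 ∨ ℓ ∣ Fintype.card F + 1) (S : Sylow ℓ S2) :
    Nat.card {χ : IrrCharacter S2 // ¬ ℓ ∣ charDegree (χ : S2 → ℂ)} =
      Nat.card {ψ : IrrCharacter (Subgroup.normalizer ((S : Subgroup S2) : Set S2)) //
        ¬ ℓ ∣ charDegree (ψ : Subgroup.normalizer ((S : Subgroup S2) : Set S2) → ℂ)} := by
  have h2 : (2 : F) ≠ 0 := H40.two_ne_zero_of_odd_card hodd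
  have hl : ℓ.Prime := Fact.out
  have h3 : 3 ≤ ℓ := by have := hl.two_le; omega
  obtain ⟨k, hk⟩ := id hodd
  have h1 : 1 < Fintype.card F := Fintype.one_lt_card
  have hsmall : ∀ {m : ℕ}, ℓ ∣ m → ∀ i, (i = 1 ∨ i = 2) → ¬ ℓ ∣ m + i := by
    intro m hm i hi h
    have := Nat.le_of_dvd (by omega) ((Nat.dvd_add_right hm).1 h)
    omega
  have hhalf : ∀ m j : ℕ, m = 2 * j → (ℓ ∣ j ↔ ℓ ∣ m) := fun m j h => by
    subst h
    exact ⟨fun h => h.mul_left 2, fun h => (hl.dvd_mul.1 h).resolve_left fun h' =>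
      hℓ ((Nat.prime_dvd_prime_iff_eq hl Nat.prime_two).1 h')⟩
  have hp : (Fintype.card F + 1) / 2 = k + 1 := by omega
  have hm : (Fintype.card F - 1) / 2 = k := by omega
  have hp' := hhalf (Fintype.card F + 1) (k + 1) (by omega)
  have hm' := hhalf (Fintype.card F - 1) k (by omega)
  have main : ∀ c d : ℕ, c * d = (Fintype.card F - 1) * (Fintype.card F + 1) → d ≠ 0 → ℓ ∣ c →
      ¬ ℓ ∣ d → ¬ ℓ ∣ Fintype.card F → ∀ g : S2, H40.Reg2 g → Nat.card (H40.tor g) = c →
      2 * Nat.card {ψ : IrrCharacter (Subgroup.normalizer ((S : Subgroup S2) : Set S2)) //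
        ¬ ℓ ∣ charDegree (ψ : Subgroup.normalizer ((S : Subgroup S2) : Set S2) → ℂ)} = c + 6 := by
    intro c d hcd hd hc hnd hnq g hg hgc
    have hc0 : c ≠ 0 := hgc ▸ Nat.card_pos.ne'
    obtain ⟨hcl, hab⟩ := classes_normalizer_sylow h2 hg ℓ hℓ (hgc ▸ hc) (by
      rw [hgc, H40.factorization_SL2_of_dvd ℓ hcd hc0 hd hnq,
        Nat.factorization_eq_zero_of_not_dvd hnd, add_zero]) S
    rw [card_coprime_irr_normalizer S hab, hcl, hgc]
  rcases hdvd with hd | hd
  · have hq5 : 5 ≤ Fintype.card F := by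
      have := Nat.le_of_dvd (by omega) hd
      omega
    have e1 : ¬ ℓ ∣ Fintype.card F := by
      rw [show Fintype.card F = Fintype.card F - 1 + 1 by omega]
      exact hsmall hd 1 (Or.inl rfl)
    have e2 : ¬ ℓ ∣ Fintype.card F + 1 := by
      rw [show Fintype.card F + 1 = Fintype.card F - 1 + 2 by omega]
      exact hsmall hd 2 (Or.inr rfl)
    obtain ⟨g, hg, c, hc⟩ := H40.exists_split (F := F) (by omega)
    have hR := main _ _ rfl (by omega) hd e2 e1 g hg (H40.card_tor_of_eig hg hc)
    rw [card_deg_filter hodd hq5 (fun d => ¬ ℓ ∣ d), if_pos hl.not_dvd_one, if_pos e1, if_pos e2,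
      if_neg (not_not.2 hd), hp, hm, if_pos (mt hp'.1 e2), if_neg (not_not.2 (hm'.2 hd))]
    omega
  · have hq5 : 5 ≤ Fintype.card F := by
      have := Nat.le_of_dvd (by omega) hd
      rcases Nat.lt_or_ge (Fintype.card F) 5 with h | h
      · exfalso
        have : k = 1 := by omega
        subst this
        rw [hk] at hd
        have h4 : ℓ ∣ 4 := by simpa using hd
        have := Nat.le_of_dvd (by norm_num) h4
        interval_cases ℓ
        · norm_num at h4
        · exact absurd hl (by norm_num)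
      · exact h
    have e2 : ¬ ℓ ∣ Fintype.card F - 1 := by
      intro h
      refine hsmall h 2 (Or.inr rfl) ?_
      rwa [show Fintype.card F - 1 + 2 = Fintype.card F + 1 by omega]
    have e1 : ¬ ℓ ∣ Fintype.card F := fun h => hsmall h 1 (Or.inl rfl) hd
    obtain ⟨g, hg, hne⟩ := H40.exists_nonsplit (F := F)
    have hR := main _ _ (mul_comm _ _) (by omega) hd e2 e1 g hg (H40.card_tor_of_noEig hg hne)
    rw [card_deg_filter hodd hq5 (fun d => ¬ ℓ ∣ d), if_pos hl.not_dvd_one, if_pos e1,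
      if_neg (not_not.2 hd), if_pos e2, hp, hm, if_neg (not_not.2 (hp'.2 hd)), if_pos (mt hm'.1 e2)]
    omega

/-! ### the prime two -/

theorem commutator_index_sylow_two (h2 : (2 : F) ≠ 0) {g : S2} (hg : H40.Reg2 g)
    (hfull : (Nat.card (Subgroup.normalizer (H40.tor g : Set S2))).factorization 2 =
      (Nat.card S2).factorization 2)
    (hc8 : 3 ≤ (Nat.card (H40.tor g)).factorization 2) (S : Sylow 2 S2) :
    (commutator (S : Subgroup S2)).index = 4 := by
  obtain ⟨k, hk⟩ := H40.exists_conj_mem 2 _ hfull S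
  set g' := k * g * k⁻¹
  have hg' : H40.Reg2 g' := H40.reg_conj hg k
  have hSN : ∀ y ∈ (S : Subgroup S2), y ∈ Subgroup.normalizer (H40.tor g' : Set S2) := by
    intro y hy
    rw [H40.mem_normalizer_tor h2 hg']
    rcases (H40.mem_normalizer_tor h2 hg).1 (hk y hy) with h | h
    · left
      calc y * (k * g * k⁻¹) * y⁻¹ = k * (k⁻¹ * y * k * g * (k⁻¹ * y * k)⁻¹) * k⁻¹ := by group
        _ = k * g * k⁻¹ := by rw [h]
    · right
      calc y * (k * g * k⁻¹) * y⁻¹ = k * (k⁻¹ * y * k * g * (k⁻¹ * y * k)⁻¹) * k⁻¹ := by group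
        _ = k * g⁻¹ * k⁻¹ := by rw [h]
        _ = (k * g * k⁻¹)⁻¹ := by group
  have hct : Nat.card (H40.tor g') = Nat.card (H40.tor g) := H40.tor_conj_card g k
  have hv : (Nat.card S2).factorization 2 = (Nat.card (H40.tor g)).factorization 2 + 1 := by
    rw [← hfull, H40.card_normalizer_tor h2 hg, Nat.factorization_mul two_ne_zero Nat.card_pos.ne',
      Finsupp.add_apply, Nat.prime_two.factorization_self, add_comm]
  set v := (Nat.card (H40.tor g)).factorization 2 with hvdef
  set P := (S : Subgroup S2)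
  have hcS : Nat.card P = 2 ^ (v + 1) := by rw [S.card_eq_multiplicity, hv]
  let A : Subgroup P := (H40.tor g').subgroupOf P
  have hA2 : ∃ i, Nat.card A = 2 ^ i := (IsPGroup.iff_card).1 (S.2.to_subgroup A)
  obtain ⟨i, hi⟩ := hA2
  have hAdvd : Nat.card A ∣ Nat.card (H40.tor g') := by
    refine Subgroup.card_dvd_of_injective ((P.subtype.comp A.subtype).codRestrict (H40.tor g')
      fun a => a.2) fun a b h => ?_
    exact Subtype.ext (Subtype.ext (congrArg (fun w : H40.tor g' => (w : S2)) h))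
  have hiv : i ≤ v := by
    rw [hi, hct] at hAdvd
    exact (Nat.prime_two.pow_dvd_iff_le_factorization Nat.card_pos.ne').1 hAdvd
  obtain ⟨x, hx⟩ : ∃ x : P, (x : S2) ∉ H40.tor g' := by
    by_contra h
    push Not at h
    have : A = ⊤ := (Subgroup.eq_top_iff' A).2 h
    rw [this, Subgroup.card_top, hcS] at hi
    have := Nat.pow_right_injective le_rfl hi
    omega
  have hidx : A.index = 2 := by
    refine Subgroup.index_eq_two_iff.2 ⟨x, fun y => ?_⟩
    simp only [A, Subgroup.mem_subgroupOf, Subgroup.coe_mul]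
    by_cases hy : (y : S2) ∈ H40.tor g'
    · refine Or.inr ⟨hy, fun h => hx ?_⟩
      simpa using mul_mem (inv_mem hy) h
    · refine Or.inl ⟨?_, hy⟩
      have h1 := H40.conj_of_mem_normalizer h2 hg' (hSN _ x.2) hx
      have h1' := H40.conj_of_mem_normalizer h2 hg' (hSN _ y.2) hy
      have e : ((y : S2) * (x : S2)) * g' * ((y : S2) * (x : S2))⁻¹ = g' := by
        calc ((y : S2) * (x : S2)) * g' * ((y : S2) * (x : S2))⁻¹
            = (y : S2) * ((x : S2) * g' * (x : S2)⁻¹) * (y : S2)⁻¹ := by group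
          _ = ((y : S2) * g' * (y : S2)⁻¹)⁻¹ := by rw [h1]; group
          _ = g' := by rw [h1', inv_inv]
      exact H40.mem_tor.2 (mul_inv_eq_iff_eq_mul.1 e)
  have hP2 : Nat.card P = 2 * Nat.card A := by
    rw [← A.card_mul_index, hidx, mul_comm]
  have hcomm : ∀ a ∈ A, ∀ b ∈ A, a * b = b * a := fun a ha b hb =>
    Subtype.ext (H40.tor_comm hg' ha hb)
  have hinv : ∀ a, a ∉ A → ∀ b ∈ A, a * b * a⁻¹ = b⁻¹ := fun a ha b hb =>
    Subtype.ext (H40.conj_torus hg' (H40.conj_of_mem_normalizer h2 hg' (hSN _ a.2) ha) hb)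
  have hneg : (-1 : S2) ∈ P := by
    rw [← H40.normalizer_sq_eq_neg_one h2 hg' (hSN _ x.2) hx]
    exact mul_mem x.2 x.2
  have htwo : Nat.card {y : A // (y : P) * y = 1} = 2 := by
    refine Eq.trans ?_ (H40.card_center_two (F := F) h2)
    refine Nat.card_congr
      { toFun := fun y => ⟨((y.1 : P) : S2), H40.scalar_iff_mem_center.2 ?_⟩
        invFun := fun z => ⟨⟨⟨z.1, ?_⟩, Subgroup.mem_subgroupOf.2
          (H40.scalar_mem_tor g' (H40.scalar_iff_mem_center.1 z.2))⟩, ?_⟩
        left_inv := fun y => rfl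
        right_inv := fun z => rfl }
    · rcases eq_pm_of_mul_self h2 (congrArg Subtype.val y.2 : ((y.1 : P) : S2) * _ = 1) with h | h <;>
        rw [h]
      · exact H40.scalar_one
      · exact H40.scalar_neg_one
    · rcases H40.eq_pm_of_scalar (H40.scalar_iff_mem_center.1 z.2) with h | h <;> rw [h]
      · exact one_mem _
      · exact hneg
    · apply Subtype.ext
      show z.1 * z.1 = 1
      rcases H40.eq_pm_of_scalar (H40.scalar_iff_mem_center.1 z.2) with h | h <;> rw [h] <;> simp
  have hk := H40.card_classes_of_inverted A rfl hP2 hcomm hinv htwo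
  have hdeg : ∀ χ : IrrCharacter P, charDegree (χ : P → ℂ) = 1 ∨ charDegree (χ : P → ℂ) = 2 := by
    intro χ
    have hle : charDegree (χ : P → ℂ) ≤ 2 := by
      obtain ⟨n, ρ, hρ, h⟩ := χ.2
      haveI := hρ
      show H12.degree (χ : P → ℂ) ≤ 2
      rw [← h, H12.degree_character, ← hidx]
      exact H13.finrank_le_index_of_abelian ρ A hcomm
    have := H12.irr_degree_pos χ
    have e : H12.degree (χ : P → ℂ) = charDegree (χ : P → ℂ) := rfl
    omega
  haveI := Fintype.ofFinite P
  have hs := sum_deg_sq_eq (G := P)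
  have hsplit := Finset.card_filter_add_card_filter_not (s := (Finset.univ : Finset (IrrCharacter P)))
    (fun χ => charDegree (χ : P → ℂ) = 1)
  have s1 : ∑ χ ∈ Finset.univ.filter (fun χ : IrrCharacter P => charDegree (χ : P → ℂ) = 1),
      charDegree (χ : P → ℂ) ^ 2 =
      (Finset.univ.filter fun χ : IrrCharacter P => charDegree (χ : P → ℂ) = 1).card := by
    rw [Finset.card_eq_sum_ones]
    exact Finset.sum_congr rfl fun χ hχ => by rw [(Finset.mem_filter.1 hχ).2, one_pow]
  have s4 : ∑ χ ∈ Finset.univ.filter (fun χ : IrrCharacter P => ¬ charDegree (χ : P → ℂ) = 1),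
      charDegree (χ : P → ℂ) ^ 2 =
      (Finset.univ.filter fun χ : IrrCharacter P => ¬ charDegree (χ : P → ℂ) = 1).card * 4 := by
    rw [← smul_eq_mul, ← Finset.sum_const]
    exact Finset.sum_congr rfl fun χ hχ => by
      rw [(hdeg χ).resolve_left (Finset.mem_filter.1 hχ).2]; norm_num
  rw [← Finset.sum_filter_add_sum_filter_not Finset.univ (fun χ : IrrCharacter P =>
    charDegree (χ : P → ℂ) = 1), s1, s4, card_deg_one] at hs
  rw [card_deg_one, Finset.card_univ, ← Nat.card_eq_fintype_card, H12.card_irrCharacter] at hsplit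
  omega

theorem card_odd_irr_of_twoGroup {P : Type*} [Group P] [Finite P] (hP : IsPGroup 2 P) :
    Nat.card {χ : IrrCharacter P // ¬ 2 ∣ charDegree (χ : P → ℂ)} = (commutator P).index := by
  haveI := Fintype.ofFinite P
  rw [← H12.card_linear_irr]
  refine Nat.card_congr (Equiv.subtypeEquivRight fun χ => ?_)
  rw [H22.irr_one_eq_charDegree χ, Nat.cast_eq_one]
  refine ⟨fun h => ?_, fun h => by rw [h]; norm_num⟩
  obtain ⟨n, hn⟩ := IsPGroup.iff_card.1 hP
  have hdvd : charDegree (χ : P → ℂ) ∣ 2 ^ n := hn ▸ H12.irr_degree_dvd_card χ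
  obtain ⟨j, -, hj⟩ := (Nat.dvd_prime_pow Nat.prime_two).1 hdvd
  rcases j with _ | j
  · simpa using hj
  · exact absurd (hj ▸ dvd_pow_self 2 (Nat.succ_ne_zero j)) h

theorem card_odd_irr_twentyfour {N : Type*} [Group N] [Finite N] (hN : Nat.card N = 24)
    (T : Subgroup N) [T.Normal] (hT : Nat.card T = 8) (z : N) (hz : z ∈ commutator N)
    (hz1 : z ≠ 1) (hz2 : z * z = 1) (hzc : ∀ x, z * x = x * z)
    (hcent : ∀ w : N, (∀ u ∈ T, w * u = u * w) → w * w = 1) :
    Nat.card {χ : IrrCharacter N // ¬ 2 ∣ charDegree (χ : N → ℂ)} = 4 := by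
  haveI := Fintype.ofFinite N
  set m := (commutator N).index with hm
  have hNT : commutator N ≤ T := by
    have hq : Nat.card (N ⧸ T) = 3 := by
      have := T.card_eq_card_quotient_mul_card_subgroup
      rw [hN, hT] at this
      omega
    haveI : Fact (Nat.Prime 3) := ⟨Nat.prime_three⟩
    haveI : IsCyclic (N ⧸ T) := isCyclic_of_prime_card hq
    refine le_trans ?_ (QuotientGroup.ker_mk' T).le
    rw [commutator_eq_closure, Subgroup.closure_le]
    rintro _ ⟨a, b, rfl⟩
    rw [SetLike.mem_coe, MonoidHom.mem_ker, map_commutatorElement, commutatorElement_eq_one_iff_mul_comm]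
    exact mul_comm' _ _
  have hm12 : m ≠ 12 := by
    intro h
    have hc2 : Nat.card (commutator N) = 2 := by
      have := (commutator N).card_mul_index
      rw [← hm, h, hN] at this
      omega
    have hcz : ∀ c ∈ commutator N, c = 1 ∨ c = z := by
      intro c hc
      obtain ⟨u, hu, huniq⟩ := Nat.card_eq_two_iff' (1 : commutator N) |>.1 hc2
      by_cases h1 : c = 1
      · exact Or.inl h1
      · have e1 := huniq ⟨c, hc⟩ (fun e => h1 (congrArg Subtype.val e))
        have e2 := huniq ⟨z, hz⟩ (fun e => hz1 (congrArg Subtype.val e))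
        exact Or.inr (congrArg Subtype.val (e1.trans e2.symm))
    haveI : Fact (Nat.Prime 3) := ⟨Nat.prime_three⟩
    obtain ⟨w, hw⟩ := exists_prime_orderOf_dvd_card' (G := N) 3 (by rw [hN]; norm_num)
    have hw3 : w * w * w = 1 := by
      rw [← pow_orderOf_eq_one w, hw]; simp [pow_succ]
    have hww := hcent w fun u _ => by
      rcases hcz _ (Subgroup.commutator_mem_commutator (Subgroup.mem_top w) (Subgroup.mem_top u)) with
        h1 | h1
      · exact commutatorElement_eq_one_iff_mul_comm.1 h1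
      · exfalso
        have e : w * u * w⁻¹ = z * u := by
          rw [← h1, commutatorElement_def]; group
        have e2 : w * w * u * (w * w)⁻¹ = u := by
          calc w * w * u * (w * w)⁻¹ = w * (w * u * w⁻¹) * w⁻¹ := by group
            _ = w * (z * u) * w⁻¹ := by rw [e]
            _ = z * (w * u * w⁻¹) := by rw [← mul_assoc w z u, ← hzc w]; group
            _ = u := by rw [e, ← mul_assoc, hz2, one_mul]
        have e3 : w * w * w * u * (w * w * w)⁻¹ = z * u := by
          calc w * w * w * u * (w * w * w)⁻¹ = w * (w * w * u * (w * w)⁻¹) * w⁻¹ := by group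
            _ = z * u := by rw [e2, e]
        rw [hw3, inv_one, mul_one, one_mul] at e3
        exact hz1 (mul_eq_right.1 e3.symm)
    have := orderOf_dvd_of_pow_eq_one (show w ^ 2 = 1 by rw [pow_two, hww])
    rw [hw] at this
    norm_num at this
  have hm3 : m = 3 ∨ m = 6 ∨ m = 12 := by
    have h1 := (commutator N).card_mul_index
    have h8 : Nat.card (commutator N) ∣ 2 ^ 3 := (Subgroup.card_dvd_of_le hNT).trans (by rw [hT]; norm_num)
    obtain ⟨j, hj, e⟩ := (Nat.dvd_prime_pow Nat.prime_two).1 h8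
    have hj0 : j ≠ 0 := by
      rintro rfl
      rw [pow_zero, Subgroup.card_eq_one] at e
      rw [e, Subgroup.mem_bot] at hz
      exact hz1 hz
    rw [← hm, hN, e] at h1
    interval_cases j <;> omega
  have hsign : ∀ χ : IrrCharacter N, (χ : N → ℂ) z = (χ : N → ℂ) 1 ∨ (χ : N → ℂ) z = -(χ : N → ℂ) 1 := by
    intro χ
    have hc : z ∈ Subgroup.center N := Subgroup.mem_center_iff.2 fun x => (hzc x).symm
    obtain ⟨ω, hω⟩ := H17.exists_central_char χ.2 (Subgroup.center N) fun y hy => hy
    have h1 := hω ⟨z, hc⟩ 1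
    rw [mul_one] at h1
    have h2 : ((ω ⟨z, hc⟩ : ℂˣ) : ℂ) ^ 2 = 1 := by
      rw [← Units.val_pow_eq_pow_val, ← map_pow, show (⟨z, hc⟩ : Subgroup.center N) ^ 2 = 1 from
        Subtype.ext (by simp [pow_two, hz2]), map_one, Units.val_one]
    rcases sq_eq_one_iff.1 h2 with e | e <;> rw [e] at h1
    · exact Or.inl (by rw [h1, one_mul])
    · exact Or.inr (by rw [h1, neg_one_mul])
  have hlin : ∀ χ : IrrCharacter N, charDegree (χ : N → ℂ) = 1 → (χ : N → ℂ) z = (χ : N → ℂ) 1 := by
    intro χ hχ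
    obtain ⟨f, hf⟩ := H12.exists_monoidHom_of_apply_one_eq_one (H12.isCharacter_irr χ)
      (by rw [H22.irr_one_eq_charDegree χ, hχ, Nat.cast_one])
    have := Abelianization.commutator_subset_ker f hz
    rw [← hf]
    simp [MonoidHom.mem_ker.1 this]
  set A := Finset.univ.filter fun χ : IrrCharacter N => (χ : N → ℂ) z = (χ : N → ℂ) 1 with hA
  have hall : ∑ χ ∈ A, charDegree (χ : N → ℂ) ^ 2 + ∑ χ ∈ Aᶜ, charDegree (χ : N → ℂ) ^ 2 = 24 := by
    rw [Finset.sum_add_sum_compl, sum_deg_sq_eq, hN]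
  have hdiff : ∑ χ ∈ A, charDegree (χ : N → ℂ) ^ 2 = ∑ χ ∈ Aᶜ, charDegree (χ : N → ℂ) ^ 2 := by
    have h := H12.regular_eq_sum z
    rw [if_neg hz1, ← Finset.sum_add_sum_compl A] at h
    have e1 : ∀ χ ∈ A, (χ : N → ℂ) 1 * (χ : N → ℂ) z = ((charDegree (χ : N → ℂ) ^ 2 : ℕ) : ℂ) :=
      fun χ hχ => by
        rw [(Finset.mem_filter.1 hχ).2, H22.irr_one_eq_charDegree χ]; push_cast; ring
    have e2 : ∀ χ ∈ Aᶜ, (χ : N → ℂ) 1 * (χ : N → ℂ) z = -((charDegree (χ : N → ℂ) ^ 2 : ℕ) : ℂ) :=
      fun χ hχ => by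
        rw [(hsign χ).resolve_left (by simpa [hA] using hχ), H22.irr_one_eq_charDegree χ]
        push_cast; ring
    rw [Finset.sum_congr rfl e1, Finset.sum_congr rfl e2, Finset.sum_neg_distrib, ← Nat.cast_sum,
      ← Nat.cast_sum, ← sub_eq_add_neg, sub_eq_zero, Nat.cast_inj] at h
    exact h
  have hd3 : ∀ χ : IrrCharacter N, charDegree (χ : N → ℂ) ∈ ({1, 2, 3} : Finset ℕ) := by
    intro χ
    have hpos : 0 < charDegree (χ : N → ℂ) := H12.irr_degree_pos χ
    have h12 : charDegree (χ : N → ℂ) ^ 2 ≤ 12 := by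
      by_cases hχ : χ ∈ A
      · have := Finset.single_le_sum (f := fun χ : IrrCharacter N => charDegree (χ : N → ℂ) ^ 2)
          (fun _ _ => Nat.zero_le _) hχ
        omega
      · have := Finset.single_le_sum (f := fun χ : IrrCharacter N => charDegree (χ : N → ℂ) ^ 2)
          (fun _ _ => Nat.zero_le _) (Finset.mem_compl.2 hχ)
        omega
    have : charDegree (χ : N → ℂ) ≤ 3 := by nlinarith
    simp only [Finset.mem_insert, Finset.mem_singleton]
    omega
  have hsum : ∀ s : Finset (IrrCharacter N), ∑ χ ∈ s, charDegree (χ : N → ℂ) ^ 2 =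
      (s.filter fun χ : IrrCharacter N => charDegree (χ : N → ℂ) = 1).card +
      4 * (s.filter fun χ : IrrCharacter N => charDegree (χ : N → ℂ) = 2).card +
      9 * (s.filter fun χ : IrrCharacter N => charDegree (χ : N → ℂ) = 3).card := by
    intro s
    rw [← Finset.sum_fiberwise_of_maps_to (t := {1, 2, 3}) (fun χ _ => hd3 χ)]
    have e : ∀ d, ∑ χ ∈ s.filter (fun χ : IrrCharacter N => charDegree (χ : N → ℂ) = d),
        charDegree (χ : N → ℂ) ^ 2 =
        d ^ 2 * (s.filter fun χ : IrrCharacter N => charDegree (χ : N → ℂ) = d).card := fun d => by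
      rw [Finset.sum_congr rfl (g := fun _ => d ^ 2) (fun χ hχ => by
        rw [(Finset.mem_filter.1 hχ).2]), Finset.sum_const, smul_eq_mul, mul_comm]
    rw [Finset.sum_insert (by simp), Finset.sum_insert (by simp), Finset.sum_singleton, e, e, e]
    ring
  have hc1 : (A.filter fun χ : IrrCharacter N => charDegree (χ : N → ℂ) = 1).card = m := by
    rw [hm, ← card_deg_one, hA, Finset.filter_filter]
    congr 1
    ext χ
    simpa using hlin χ
  have hc1' : (Aᶜ.filter fun χ : IrrCharacter N => charDegree (χ : N → ℂ) = 1).card = 0 := by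
    rw [Finset.card_eq_zero, Finset.filter_eq_empty_iff]
    intro χ hχ h
    exact (Finset.mem_compl.1 hχ) (by simp [hA, hlin χ h])
  have hA12 := hsum A
  have hB12 := hsum Aᶜ
  rw [hc1] at hA12
  rw [hc1'] at hB12
  have hodd3 : ∀ χ : IrrCharacter N, ¬ 2 ∣ charDegree (χ : N → ℂ) ↔
      (charDegree (χ : N → ℂ) = 1 ∨ charDegree (χ : N → ℂ) = 3) := fun χ => by
    have := hd3 χ
    simp only [Finset.mem_insert, Finset.mem_singleton] at this
    omega
  rw [Nat.card_congr (Equiv.subtypeEquivRight hodd3), Nat.card_eq_fintype_card, Fintype.card_subtype,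
    Finset.filter_or, Finset.card_union_of_disjoint (by
      rw [Finset.disjoint_filter]; intro χ _ h h'; omega), card_deg_one, ← hm]
  have h33 : (Finset.univ.filter fun χ : IrrCharacter N => charDegree (χ : N → ℂ) = 3).card =
      (A.filter fun χ : IrrCharacter N => charDegree (χ : N → ℂ) = 3).card +
      (Aᶜ.filter fun χ : IrrCharacter N => charDegree (χ : N → ℂ) = 3).card := by
    rw [← Finset.card_union_of_disjoint (Finset.disjoint_filter_filter disjoint_compl_right),
      ← Finset.filter_union, Finset.union_compl]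
  omega

theorem neg_one_mem_commutator_normalizer (h2 : (2 : F) ≠ 0) (S : Sylow 2 S2) :
    ∃ h : (-1 : S2) ∈ Subgroup.normalizer ((S : Subgroup S2) : Set S2),
      (⟨-1, h⟩ : Subgroup.normalizer ((S : Subgroup S2) : Set S2)) ∈
        commutator (Subgroup.normalizer ((S : Subgroup S2) : Set S2)) := by
  obtain ⟨φ, hφ, -⟩ := H40.exists_q8_hom (F := F) h2
  obtain ⟨Q, hQ⟩ := (H37.range_q8_isPGroup φ).exists_le_sylow
  obtain ⟨k, hk⟩ := MulAction.exists_smul_eq S2 Q S
  have hmem : ∀ u ∈ φ.range, k * u * k⁻¹ ∈ (S : Subgroup S2) := by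
    intro u hu
    rw [← hk, Sylow.coe_subgroup_smul, Subgroup.mem_pointwise_smul_iff_inv_smul_mem]
    simpa [MulAut.smul_def, mul_assoc] using hQ hu
  have hcm : ⁅(QuaternionGroup.a 1 : QuaternionGroup 2), (QuaternionGroup.xa 0 : QuaternionGroup 2)⁆ = QuaternionGroup.a 2 := by
    rw [commutatorElement_def]; decide +kernel
  have hz : φ (QuaternionGroup.a 2) = -1 := by
    refine (eq_pm_of_mul_self h2 ?_).resolve_left fun h => ?_
    · rw [← map_mul, show (QuaternionGroup.a 2 : QuaternionGroup 2) * .a 2 = 1 by decide +kernel,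
        map_one]
    · rw [← map_one φ] at h
      exact absurd (hφ h) (by decide +kernel)
  have e : (-1 : S2) = ⁅k * φ (.a 1) * k⁻¹, k * φ (.xa 0) * k⁻¹⁆ := by
    have h1 : φ ⁅(QuaternionGroup.a 1 : QuaternionGroup 2), (QuaternionGroup.xa 0 : QuaternionGroup 2)⁆ = -1 := by rw [hcm, hz]
    rw [map_commutatorElement] at h1
    calc (-1 : S2) = k * (-1) * k⁻¹ := by
          rw [← H40.comm_of_scalar H40.scalar_neg_one k, mul_inv_cancel_right]
      _ = k * ⁅φ (.a 1), φ (.xa 0)⁆ * k⁻¹ := by rw [h1]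
      _ = _ := by rw [commutatorElement_def, commutatorElement_def]; group
  set a : Subgroup.normalizer ((S : Subgroup S2) : Set S2) :=
    ⟨_, Subgroup.le_normalizer (hmem (φ (.a 1)) ⟨_, rfl⟩)⟩
  set b : Subgroup.normalizer ((S : Subgroup S2) : Set S2) :=
    ⟨_, Subgroup.le_normalizer (hmem (φ (.xa 0)) ⟨_, rfl⟩)⟩
  have hab : ((⁅a, b⁆ : Subgroup.normalizer ((S : Subgroup S2) : Set S2)) : S2) = -1 := by
    rw [e]; simp [commutatorElement_def, a, b]
  refine ⟨hab ▸ (⁅a, b⁆).2, ?_⟩
  have h1 : ⁅a, b⁆ ∈ commutator (Subgroup.normalizer ((S : Subgroup S2) : Set S2)) :=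
    Subgroup.commutator_mem_commutator (Subgroup.mem_top a) (Subgroup.mem_top b)
  convert h1 using 1
  exact Subtype.ext hab.symm

theorem mckay_sl2_two (hodd : Odd (Fintype.card F)) (S : Sylow 2 S2) :
    Nat.card {χ : IrrCharacter S2 // ¬ 2 ∣ charDegree (χ : S2 → ℂ)} =
      Nat.card {ψ : IrrCharacter (Subgroup.normalizer ((S : Subgroup S2) : Set S2)) //
        ¬ 2 ∣ charDegree (ψ : Subgroup.normalizer ((S : Subgroup S2) : Set S2) → ℂ)} := by
  have h2 : (2 : F) ≠ 0 := H40.two_ne_zero_of_odd_card hodd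
  have h1 : 1 < Fintype.card F := Fintype.one_lt_card
  obtain ⟨k, hk⟩ := id hodd
  set q := Fintype.card F with hq
  have hnq : ¬ 2 ∣ q := by omega
  set N := Subgroup.normalizer ((S : Subgroup S2) : Set S2) with hNdef
  by_cases h35 : q % 8 = 3 ∨ q % 8 = 5
  · have h8 : (Nat.card S2).factorization 2 = 3 := by
      rw [H40.factorization_SL2_of_dvd (F := F) 2 (c := q - 1) (d := q + 1) rfl (by omega) (by omega) hnq]
      rcases h35 with h | h
      · rw [H40.factorization_two_eq_one (by omega), H40.factorization_two_eq_two (by omega)]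
      · rw [H40.factorization_two_eq_two (by omega), H40.factorization_two_eq_one (by omega)]
    have hS8 : Nat.card (S : Subgroup S2) = 8 := by rw [S.card_eq_multiplicity, h8]; rfl
    have hN : Nat.card N = 24 := by
      rw [hNdef, H40.card_normalizer_q8 h2 h8 S]
      show 3 * Nat.card (S : Subgroup S2) = 24
      rw [hS8]
    by_cases h3 : q = 3
    · refine card_irr_deg_of_eq_top N ?_ (fun d => ¬ 2 ∣ d)
      refine Subgroup.eq_top_of_card_eq _ ?_
      rw [hN, H40.card_SL2_pm, ← hq, h3]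
    · obtain ⟨hz, hzc⟩ := neg_one_mem_commutator_normalizer h2 S
      have hle : (S : Subgroup S2) ≤ N := Subgroup.le_normalizer
      haveI : ((S : Subgroup S2).subgroupOf N).Normal := Subgroup.normal_in_normalizer
      have hR := card_odd_irr_twentyfour hN ((S : Subgroup S2).subgroupOf N)
        (by rw [Nat.card_congr (Subgroup.subgroupOfEquivOfLe hle).toEquiv, hS8]) ⟨-1, hz⟩ hzc
        (fun h => H17.neg_one_sl_ne_one h2 (congrArg Subtype.val h))
        (Subtype.ext (by simp))
        (fun x => Subtype.ext (H40.comm_of_scalar H40.scalar_neg_one x.1))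
        (fun w hw => by
          have hwc : (w : S2) ∈ Subgroup.centralizer ((S : Subgroup S2) : Set S2) :=
            Subgroup.mem_centralizer_iff.2 fun u hu =>
              (congrArg Subtype.val (hw ⟨u, hle hu⟩ hu)).symm
          rw [H40.sylow_two_center h2 S, H40.scalar_iff_mem_center] at hwc
          apply Subtype.ext
          show (w : S2) * (w : S2) = 1
          rcases H40.eq_pm_of_scalar hwc with h | h <;> rw [h] <;> simp)
      rw [hR, card_deg_filter hodd (by omega) (fun d => ¬ 2 ∣ d), ← hq]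
      split_ifs <;> omega
  · have h17 : q % 8 = 1 ∨ q % 8 = 7 := by omega
    have main : ∀ (g : S2) (c d : ℕ), H40.Reg2 g → Nat.card (H40.tor g) = c →
        c * d = (q - 1) * (q + 1) → c % 8 = 0 → d % 4 = 2 →
        Nat.card {ψ : IrrCharacter N // ¬ 2 ∣ charDegree (ψ : N → ℂ)} = 4 := by
      intro g c d hg hc hcd hc8 hd4
      have hc0 : c ≠ 0 := hc ▸ Nat.card_pos.ne'
      have hf := H40.factorization_SL2_of_dvd (F := F) 2 hcd hc0 (by omega) hnq
      rw [H40.factorization_two_eq_one hd4] at hf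
      have h3 := H40.three_le_factorization_two hc0 hc8
      have hfull : (Nat.card (Subgroup.normalizer (H40.tor g : Set S2))).factorization 2 =
          (Nat.card S2).factorization 2 := by
        rw [H40.card_normalizer_tor h2 hg, hc, Nat.factorization_mul two_ne_zero hc0, hf]
        simp [Nat.prime_two.factorization]
        omega
      have hNS : N = (S : Subgroup S2) := H40.sylow_two_self_normalizing h2 hg hfull (by omega) S
      rw [← commutator_index_sylow_two h2 hg hfull (hc ▸ h3) S, ← card_odd_irr_of_twoGroup S.2]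
      exact Nat.card_congr (Equiv.subtypeEquiv (H12.irrCongr (MulEquiv.subgroupCongr hNS.symm))
        fun χ => by rw [charDegree_irrCongr])
    rw [card_deg_filter hodd (by omega) (fun d => ¬ 2 ∣ d), ← hq]
    rcases h17 with h | h
    · obtain ⟨g, hg, c, hc⟩ := H40.exists_split (F := F) (by omega)
      rw [main g _ (q + 1) hg (H40.card_tor_of_eig hg hc) rfl (by omega) (by omega)]
      split_ifs <;> omega
    · obtain ⟨g, hg, hne⟩ := H40.exists_nonsplit (F := F)
      rw [main g _ (q - 1) hg (H40.card_tor_of_noEig hg hne) (mul_comm _ _) (by omega) (by omega)]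
      split_ifs <;> omega

/-- **McKay equality for `SL₂(q)`**, `q` odd. -/
theorem mckay_sl2 (hodd : Odd (Fintype.card F)) (ℓ : ℕ) [Fact ℓ.Prime] (S : Sylow ℓ S2) :
    Nat.card {χ : IrrCharacter S2 // ¬ ℓ ∣ charDegree (χ : S2 → ℂ)} =
      Nat.card {ψ : IrrCharacter (Subgroup.normalizer ((S : Subgroup S2) : Set S2)) //
        ¬ ℓ ∣ charDegree (ψ : Subgroup.normalizer ((S : Subgroup S2) : Set S2) → ℂ)} := by
  have hl : ℓ.Prime := Fact.out
  by_cases h2 : ℓ = 2
  · subst h2; exact mckay_sl2_two hodd S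
  by_cases hq : ℓ ∣ Fintype.card F
  · obtain ⟨p, hp⟩ := CharP.exists F
    obtain ⟨n, hpp, hn⟩ := FiniteField.card F p
    obtain rfl : ℓ = p := (Nat.prime_dvd_prime_iff_eq hl hpp).1 (hl.dvd_of_dvd_pow (hn ▸ hq))
    haveI := hp
    exact mckay_sl2_p hodd ℓ h2 S
  by_cases hpm : ℓ ∣ Fintype.card F - 1 ∨ ℓ ∣ Fintype.card F + 1
  · exact mckay_sl2_odd hodd ℓ h2 hpm S
  · refine card_irr_deg_of_eq_top _ ?_ (fun d => ¬ ℓ ∣ d)
    have hnd : ¬ ℓ ∣ Nat.card S2 := by
      rw [H40.card_SL2_pm]
      intro h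
      rcases hl.dvd_mul.1 h with h | h
      · exact hq h
      · exact hpm (hl.dvd_mul.1 h)
    have : (S : Subgroup S2) = ⊥ := by
      rw [← Subgroup.card_eq_one, S.card_eq_multiplicity, Nat.factorization_eq_zero_of_not_dvd hnd,
        pow_zero]
    rw [this]
    exact (Subgroup.normalizer_eq_top_iff).2 inferInstance

end H21
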