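import Cfsg.Agent.H21.WeylTop

/-!
The Steinberg character of a parabolic subgroup of a finite group with a (B,N)-pair.
-/

set_option autoImplicit false
set_option maxHeartbeats 200000
set_option linter.unusedSectionVars false
set_option linter.style.haveILetI false

namespace H21.ParSt

open H56 Cfsg
open scoped Classical

variable {G : Type*} [Group G] (P : Cfsg.BNPair G) [Fintype G] [Fintype P.S]

/-- the alternating sum over the parabolic subgroups inside `P_K` -/
noncomputable def parSt (K : Finset P.S) : par P (K : Set P.S) → ℂ := fun x =>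
  ∑ M ∈ K.powerset, (-1 : ℂ) ^ M.card *
    fixedPointCharacter ((par P (M : Set P.S)).subgroupOf (par P (K : Set P.S))) x

theorem par_mono {M K : Set P.S} (h : M ⊆ K) : par P M ≤ par P K := fun g hg => by
  obtain ⟨l, hl, he⟩ := (mem_par_iff g).1 hg
  exact (mem_par_iff g).2 ⟨l, fun s hs => h (hl s hs), he⟩

theorem wMem_mono {M K : Set P.S} (h : M ⊆ K) {v : Weyl P} (hv : WMem P M v) : WMem P K v := by
  obtain ⟨l, hl, he⟩ := hv
  exact ⟨l, fun s hs => h (hl s hs), he⟩

theorem card_doubleCoset_sub {J L K : Set P.S} (hJ : J ⊆ K) (hL : L ⊆ K) :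
    Nat.card (DoubleCoset.Quotient (((par P J).subgroupOf (par P K) : Subgroup (par P K)) : Set (par P K))
      (((par P L).subgroupOf (par P K) : Subgroup (par P K)) : Set (par P K))) =
      Nat.card {w : Weyl P // MinPair P J L w ∧ WMem P K w} := by
  refine (Nat.card_congr (Equiv.ofBijective
    (fun w : {w : Weyl P // MinPair P J L w ∧ WMem P K w} =>
      DoubleCoset.mk ((par P J).subgroupOf (par P K)) ((par P L).subgroupOf (par P K))
        ⟨wrep P w.1, (mem_par_iff _).2 (by rw [wpos_wrep]; exact w.2.2)⟩)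
    ⟨?_, ?_⟩)).symm
  · rintro ⟨w, hw⟩ ⟨w', hw'⟩ h
    obtain ⟨x, hx, y, hy, e⟩ := DoubleCoset.rel_iff.1 (Quotient.exact' h)
    obtain ⟨v, hv, he⟩ := wpos_mul_of_right (K := L)
      ((mem_par_iff (y : G)).1 (Subgroup.mem_subgroupOf.1 hy)) ((x : G) * wrep P w)
    obtain ⟨u, hu, he'⟩ := wpos_mul_of_left (J := J)
      ((mem_par_iff (x : G)).1 (Subgroup.mem_subgroupOf.1 hx)) (wrep P w)
    have e' : wrep P w' = (x : G) * wrep P w * y := congrArg Subtype.val e
    rw [← e', wpos_wrep, he', wpos_wrep] at he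
    exact Subtype.ext (minPair_unique hw.1 hw'.1 ⟨u, v, hu, hv, he⟩)
  · intro q
    induction q using Quotient.inductionOn' with | h g => ?_
    obtain ⟨m, hm, hmm, -⟩ := exists_shortest (J := J) (K := L) (wpos P (g : G))
    have hmK : WMem P K m := by
      obtain ⟨u, v, hu, hv, rfl⟩ := hm
      exact wMem_mul (wMem_mul (wMem_mono P hJ hu) ((mem_par_iff _).1 g.2)) (wMem_mono P hL hv)
    refine ⟨⟨m, hmm, hmK⟩, ?_⟩
    have h := mk_eq_of_dRel (J := J) (K := L) (g := wrep P m) (g' := (g : G))
      (dRel_symm (by rwa [wpos_wrep]))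
    obtain ⟨x, hx, y, hy, e⟩ := DoubleCoset.rel_iff.1 (Quotient.exact' h)
    exact Quotient.sound' (DoubleCoset.rel_iff.2
      ⟨⟨x, par_mono P hJ hx⟩, Subgroup.mem_subgroupOf.2 hx, ⟨y, par_mono P hL hy⟩,
        Subgroup.mem_subgroupOf.2 hy, Subtype.ext e⟩)

theorem card_quotient_sub {M K : Set P.S} (hM : M ⊆ K) :
    Nat.card (par P K ⧸ (par P M).subgroupOf (par P K)) =
      Nat.card {x : G ⧸ P.B // WMem P K (wdist P ((1 : G) : G ⧸ P.B) x) ∧
        MinPair P (∅ : Set P.S) M (wdist P ((1 : G) : G ⧸ P.B) x)} := by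
  obtain ⟨hinj, hsurj⟩ := mapOfLE_bijOn P M
  let f : par P K ⧸ (par P M).subgroupOf (par P K) → G ⧸ par P M :=
    Quotient.lift (fun y : par P K => ((y : G) : G ⧸ par P M)) fun a b h => by
      have h1 := Subgroup.mem_subgroupOf.1 (QuotientGroup.leftRel_apply.1 h)
      rw [QuotientGroup.eq]
      simpa using h1
  have hf : ∀ y : par P K, f (y : par P K ⧸ (par P M).subgroupOf (par P K)) = ((y : G) : G ⧸ par P M) :=
    fun y => rfl
  have hfi : Function.Injective f := by
    intro a b h
    induction a using QuotientGroup.induction_on with | _ a => ?_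
    induction b using QuotientGroup.induction_on with | _ b => ?_
    rw [hf, hf, QuotientGroup.eq] at h
    rw [QuotientGroup.eq, Subgroup.mem_subgroupOf]
    simpa using h
  have hg : ∀ g : G, WMem P K (wdist P ((1 : G) : G ⧸ P.B) (g : G ⧸ P.B)) ↔ g ∈ par P K := fun g => by
    rw [wdist_mk, inv_one, one_mul, mem_par_iff]
  have hmap : ∀ g : G, Subgroup.quotientMapOfLE (B_le_par (J := M)) (g : G ⧸ P.B) = (g : G ⧸ par P M) :=
    fun g => rfl
  rw [← Nat.card_range_of_injective hfi]
  refine (Nat.card_congr (Equiv.ofBijective (fun x : {x : G ⧸ P.B //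
      WMem P K (wdist P ((1 : G) : G ⧸ P.B) x) ∧
        MinPair P (∅ : Set P.S) M (wdist P ((1 : G) : G ⧸ P.B) x)} =>
    (⟨Subgroup.quotientMapOfLE (B_le_par (J := M)) x.1, by
      obtain ⟨x, hx, hx'⟩ := x
      induction x using QuotientGroup.induction_on with | _ g => ?_
      exact ⟨((⟨g, (hg g).1 hx⟩ : par P K) : par P K ⧸ (par P M).subgroupOf (par P K)), rfl⟩⟩ :
      Set.range f)) ⟨?_, ?_⟩)).symm
  · intro x y h
    exact Subtype.ext (congrArg (fun z : {x : G ⧸ P.B //
      MinPair P (∅ : Set P.S) M (wdist P ((1 : G) : G ⧸ P.B) x)} => z.1)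
      (@hinj ⟨x.1, x.2.2⟩ ⟨y.1, y.2.2⟩ (congrArg Subtype.val h)))
  · rintro ⟨_, ⟨q, rfl⟩⟩
    induction q using QuotientGroup.induction_on with | _ y => ?_
    obtain ⟨⟨x, hx⟩, he⟩ := hsurj ((y : G) : G ⧸ par P M)
    induction x using QuotientGroup.induction_on with | _ g => ?_
    have he' : (g : G ⧸ par P M) = ((y : G) : G ⧸ par P M) := he
    rw [QuotientGroup.eq] at he'
    refine ⟨⟨(g : G ⧸ P.B), (hg g).2 ?_, hx⟩, Subtype.ext he⟩
    have := mul_mem y.2 (inv_mem (par_mono P hM he'))
    simpa [mul_assoc] using this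

/-- the sum over subsets of `K` -/
theorem sum_subsets_inter (K A : Finset P.S) :
    ∑ M ∈ K.powerset, (-1 : ℂ) ^ M.card * (if M ⊆ A then 1 else 0) = if K ∩ A = ∅ then 1 else 0 := by
  rw [← sum_subsets (K ∩ A), ← Finset.sum_subset (Finset.subset_univ K.powerset)]
  · refine Finset.sum_congr rfl fun M hM => ?_
    simp [Finset.subset_inter_iff, Finset.mem_powerset.1 hM]
  · intro M _ hM
    simp only [Finset.mem_powerset] at hM
    simp [Finset.subset_inter_iff, hM]

theorem isClassFunction_parSt (K : Finset P.S) : IsClassFunction (par P (K : Set P.S)) (parSt P K) := by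
  intro g h
  simp only [parSt]
  exact Finset.sum_congr rfl fun M _ => by
    rw [H12.IsCharacter.isClassFunction (H17.UGL.isCharacter_fixedPointCharacter _) g h]

variable (huniq : ∀ w w' : Weyl P, IsTop P w → IsTop P w' → w = w')
include huniq

theorem inter_ascR_iff {K : Finset P.S} {w wK : Weyl P} (hK : IsLongest (K : Set P.S) wK)
    (hw : WMem P (K : Set P.S) w) : K ∩ ascR P w = ∅ ↔ w = wK := by
  constructor
  · intro h
    refine longest_unique huniq ⟨hw, fun s hs => ?_⟩ hK
    refine lt_of_le_of_ne (not_lt.1 fun hlt => ?_) (lenW_mul_simW_ne s w)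
    exact Finset.notMem_empty s (h ▸ Finset.mem_inter.2 ⟨Finset.mem_coe.1 hs, by simp [ascR, hlt]⟩)
  · rintro rfl
    ext s
    simp only [Finset.mem_inter, ascR, Finset.mem_filter, Finset.mem_univ, true_and,
      Finset.notMem_empty, iff_false, not_and]
    exact fun hs => (hK.2 s (Finset.mem_coe.2 hs)).not_gt

theorem parSt_norm (K : Finset P.S) : classInner (parSt P K) (parSt P K) = 1 := by
  haveI := Fintype.ofFinite (Weyl P)
  obtain ⟨wK, hK, -⟩ := exists_longest (P := P) (K : Set P.S)
  have hinner : ∀ J ∈ K.powerset, ∀ L ∈ K.powerset,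
      classInner (fixedPointCharacter ((par P (J : Set P.S)).subgroupOf (par P (K : Set P.S))))
        (fixedPointCharacter ((par P (L : Set P.S)).subgroupOf (par P (K : Set P.S)))) =
      ∑ w ∈ Finset.univ.filter (fun w => WMem P (K : Set P.S) w),
        (if J ⊆ ascL P w then 1 else 0) * (if L ⊆ ascR P w then (1 : ℂ) else 0) := by
    intro J hJ L hL
    rw [classInner]
    simp only [H17.UGL.conj_fixedPointCharacter]
    rw [H40.inner_fixedPointCharacter, card_doubleCoset_sub P
      (Finset.coe_subset.2 (Finset.mem_powerset.1 hJ)) (Finset.coe_subset.2 (Finset.mem_powerset.1 hL)),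
      Nat.card_eq_fintype_card, Fintype.card_subtype, ← Finset.sum_boole, Finset.sum_filter]
    refine Finset.sum_congr rfl fun w _ => ?_
    simp only [minPair_iff]
    split_ifs <;> simp_all
  have hform : parSt P K = ∑ M ∈ K.powerset, ((-1 : ℂ) ^ M.card) •
      fixedPointCharacter ((par P (M : Set P.S)).subgroupOf (par P (K : Set P.S))) := by
    funext x
    simp [parSt, Finset.sum_apply]
  rw [hform, H12.classInner_sum_left]
  simp only [H12.classInner_smul_left, H12.classInner_sum_right, H12.classInner_smul_right, map_pow,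
    map_neg, map_one]
  rw [Finset.sum_congr rfl fun J hJ => Finset.sum_congr rfl fun L hL =>
    show _ = ∑ w ∈ Finset.univ.filter (fun w => WMem P (K : Set P.S) w),
      ((-1 : ℂ) ^ J.card * (if J ⊆ ascL P w then 1 else 0)) *
        ((-1 : ℂ) ^ L.card * (if L ⊆ ascR P w then 1 else 0)) by
    rw [hinner J hJ L hL, Finset.mul_sum, Finset.mul_sum]
    exact Finset.sum_congr rfl fun w _ => by ring]
  rw [Finset.sum_congr rfl fun J _ => Finset.sum_comm, Finset.sum_comm]
  simp only [← Finset.mul_sum, ← Finset.sum_mul, sum_subsets_inter]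
  rw [Finset.sum_eq_single wK]
  · have hR := (inter_ascR_iff P huniq hK hK.1).2 rfl
    have hL : ascL P wK = ascR P wK := by
      ext s
      simp only [ascL, ascR, Finset.mem_filter, Finset.mem_univ, true_and]
      rw [← lenW_inv P (simW P s * wK), mul_inv_rev, simW_inv, longest_inv huniq hK]
    rw [if_pos hR, if_pos (hL ▸ hR), one_mul]
  · intro w hw hne
    rw [if_neg (fun h => hne ((inter_ascR_iff P huniq hK (Finset.mem_filter.1 hw).2).1 h)), mul_zero]
  · intro h
    exact absurd (Finset.mem_filter.2 ⟨Finset.mem_univ _, hK.1⟩) h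

theorem parSt_one (K : Finset P.S) {wK : Weyl P} (hK : IsLongest (K : Set P.S) wK) :
    parSt P K 1 = (Nat.card {x : G ⧸ P.B // wdist P ((1 : G) : G ⧸ P.B) x = wK} : ℂ) := by
  haveI := Fintype.ofFinite (G ⧸ P.B)
  have e : ∀ M ∈ K.powerset,
      fixedPointCharacter ((par P (M : Set P.S)).subgroupOf (par P (K : Set P.S))) 1 =
      ∑ x ∈ Finset.univ.filter (fun x : G ⧸ P.B => WMem P (K : Set P.S) (wdist P ((1 : G) : G ⧸ P.B) x)),
        (if M ⊆ ascR P (wdist P ((1 : G) : G ⧸ P.B) x) then (1 : ℂ) else 0) := by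
    intro M hM
    rw [fixedPointCharacter, Nat.card_congr (Equiv.subtypeUnivEquiv fun x =>
        MulAction.mem_fixedBy.2 (one_smul (par P (K : Set P.S)) x)),
      card_quotient_sub P (Finset.coe_subset.2 (Finset.mem_powerset.1 hM)), Finset.sum_boole,
      Finset.filter_filter, Nat.card_eq_fintype_card, Fintype.card_subtype]
    simp only [minPair_right_iff]
  simp only [parSt]
  rw [Finset.sum_congr rfl fun M hM => by rw [e M hM, Finset.mul_sum], Finset.sum_comm]
  simp only [sum_subsets_inter]
  rw [Finset.sum_boole, Finset.filter_filter, Nat.card_eq_fintype_card, Fintype.card_subtype]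
  congr 2
  ext x
  simp only [Finset.mem_filter, Finset.mem_univ, true_and]
  exact ⟨fun h => (inter_ascR_iff P huniq hK h.1).1 h.2,
    fun h => ⟨h ▸ hK.1, (inter_ascR_iff P huniq hK (h ▸ hK.1)).2 h⟩⟩

theorem classInner_par_bnSt (M : Finset P.S) :
    classInner (fixedPointCharacter (par P (M : Set P.S))) (bnSt P) = if M = ∅ then 1 else 0 := by
  haveI := Fintype.ofFinite (Weyl P)
  obtain ⟨m, hm⟩ := exists_max_lenW P
  rw [classInner_bnSt_right]
  have e : ∀ K : Finset P.S, (-1 : ℂ) ^ K.card *
      classInner (fixedPointCharacter (par P (M : Set P.S))) (fixedPointCharacter (par P (K : Set P.S))) =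
      ∑ w : Weyl P, (if M ⊆ ascL P w then 1 else 0) *
        ((-1 : ℂ) ^ K.card * (if K ⊆ ascR P w then 1 else 0)) := fun K => by
    rw [classInner_par, Nat.card_eq_fintype_card, Fintype.card_subtype, ← Finset.sum_boole,
      Finset.mul_sum]
    refine Finset.sum_congr rfl fun w _ => ?_
    simp only [minPair_iff]
    split_ifs <;> simp_all
  simp only [e]
  rw [Finset.sum_comm]
  simp only [← Finset.mul_sum, sum_subsets]
  rw [Finset.sum_eq_single m]
  · have hL : ascL P m = ∅ := by
      simp only [ascL, Finset.filter_eq_empty_iff, Finset.mem_univ, true_implies, not_lt]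
      exact fun s => hm _
    rw [if_pos ((ascR_eq_empty_iff P m).2 (isTop_max P hm)), mul_one, hL]
    simp only [Finset.subset_empty]
  · intro w _ hw
    rw [if_neg (fun h : ascR P w = ∅ =>
      hw (huniq w m ((ascR_eq_empty_iff P w).1 h) (isTop_max P hm))), mul_zero]
  · intro h; exact absurd (Finset.mem_univ m) h

theorem isIrr_parSt (K : Finset P.S) : IsIrrCharacter (par P (K : Set P.S)) (parSt P K) := by
  obtain ⟨wK, hK, -⟩ := exists_longest (P := P) (K : Set P.S)
  refine H17.isIrr_of_norm_one (isClassFunction_parSt P K) (fun χ => ?_) (parSt_norm P huniq K) ?_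
  · have hform : parSt P K = ∑ M ∈ K.powerset, ((-1 : ℂ) ^ M.card) •
        fixedPointCharacter ((par P (M : Set P.S)).subgroupOf (par P (K : Set P.S))) := by
      funext x
      simp [parSt, Finset.sum_apply]
    choose k hk using fun M : Finset P.S => H12.IsCharacter.classInner_nat
      (H17.UGL.isCharacter_fixedPointCharacter ((par P (M : Set P.S)).subgroupOf (par P (K : Set P.S))))
      (H12.isCharacter_irr χ)
    refine ⟨∑ M ∈ K.powerset, (-1) ^ M.card * (k M : ℤ), ?_⟩
    rw [hform, H12.classInner_sum_left]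
    push_cast
    exact Finset.sum_congr rfl fun M _ => by rw [H12.classInner_smul_left, hk M]
  · rw [parSt_one P huniq K hK, Complex.natCast_re]
    have : Nonempty {x : G ⧸ P.B // wdist P ((1 : G) : G ⧸ P.B) x = wK} := by
      obtain ⟨y, hy⟩ := wdist_surj P ((1 : G) : G ⧸ P.B) wK
      exact ⟨⟨y, hy⟩⟩
    exact_mod_cast Nat.card_pos

omit huniq in
/-- At an element in no smaller parabolic subgroup the value is a sign. -/
theorem parSt_apply_eq (K : Finset P.S) (g : par P (K : Set P.S))
    (hmin : ∀ M : Finset P.S, M ⊂ K → ∀ x : G, x⁻¹ * (g : G) * x ∉ par P (M : Set P.S)) :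
    parSt P K g = (-1 : ℂ) ^ K.card := by
  rw [parSt, Finset.sum_eq_single K]
  · have h1 : Nat.card (MulAction.fixedBy
        (par P (K : Set P.S) ⧸ (par P (K : Set P.S)).subgroupOf (par P (K : Set P.S))) g) = 1 := by
      rw [Nat.card_eq_one_iff_unique]
      haveI : Subsingleton (par P (K : Set P.S) ⧸ (par P (K : Set P.S)).subgroupOf (par P (K : Set P.S))) := by
        rw [Subgroup.subgroupOf_self]
        exact QuotientGroup.subsingleton_quotient_top
      exact ⟨inferInstance, ⟨⟨((1 : par P (K : Set P.S)) : _ ⧸ _),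
        MulAction.mem_fixedBy.2 (Subsingleton.elim _ _)⟩⟩⟩
    rw [fixedPointCharacter, h1, Nat.cast_one, mul_one]
  · intro M hM hne
    have hss : M ⊂ K := lt_of_le_of_ne (Finset.mem_powerset.1 hM) hne
    haveI : IsEmpty (MulAction.fixedBy
        (par P (K : Set P.S) ⧸ (par P (M : Set P.S)).subgroupOf (par P (K : Set P.S))) g) := by
      refine ⟨fun ⟨q, hq⟩ => ?_⟩
      induction q using QuotientGroup.induction_on with | _ y => ?_
      have h2 : ((g * y : par P (K : Set P.S)) : par P (K : Set P.S) ⧸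
          (par P (M : Set P.S)).subgroupOf (par P (K : Set P.S))) = (y : _ ⧸ _) := hq
      rw [QuotientGroup.eq, Subgroup.mem_subgroupOf] at h2
      have h3 := inv_mem h2
      simp only [mul_inv_rev, Subgroup.coe_mul, InvMemClass.coe_inv, inv_inv] at h3
      exact hmin M hss (y : G) (by simpa [mul_assoc] using h3)
    rw [fixedPointCharacter, Nat.card_of_isEmpty, Nat.cast_zero, mul_zero]
  · intro h
    exact absurd (Finset.mem_powerset_self K) h

end H21.ParSt
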