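import Cfsg.Agent.H17.SLDegree
import Cfsg.Agent.H40.SL2Tori
import Cfsg.Agent.H40.GL2Count
import Cfsg.Agent.H25.ValueCongr
import Cfsg.Agent.H20.OrthConv
import Cfsg.Agent.H20.Defect
import Cfsg.Agent.H22.BlockClasses

/-!
The blocks of `SL₂(q)` in the defining characteristic.
-/

set_option autoImplicit false
set_option linter.style.haveILetI false
set_option linter.unusedSectionVars false

namespace H21

open Cfsg Matrix
open scoped Classical

universe u

theorem stein_eq_one_of_mem {G A : Type*} [Group G] [Fintype G] [CommGroup A] [Fintype A]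
    (D : H17.RankOne G A) {x : G} (hx : x ∈ D.Z) : D.stein 1 x = D.stein 1 1 := by
  rw [D.stein_Z 1 ⟨x, hx⟩, D.stein_one]
  simp

variable {F : Type u} [Field F] [Fintype F] {p : ℕ} [hp : Fact p.Prime] [CharP F p]

local notation "S2" => Matrix.SpecialLinearGroup (Fin 2) F

theorem sl2_center_of_scalar {x : S2} (hx : H40.IsScalar2 (x : Matrix (Fin 2) (Fin 2) F)) :
    x ∈ Subgroup.center S2 := Subgroup.mem_center_iff.2 fun y => (H40.comm_of_scalar hx y).symm

theorem not_scalar_of_orderOf_eq (hp2 : p ≠ 2) {u : S2} (hu : orderOf u = p) :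
    ¬ H40.IsScalar2 (u : Matrix (Fin 2) (Fin 2) F) := by
  intro h
  rcases H40.eq_pm_of_scalar h with rfl | rfl
  · rw [orderOf_one] at hu
    exact hp.out.one_lt.ne hu
  · have h2 : ((-1 : S2)) ^ 2 = 1 := by simp
    have := orderOf_dvd_of_pow_eq_one h2
    rw [hu] at this
    exact hp2 ((Nat.prime_dvd_prime_iff_eq hp.out Nat.prime_two).1 this)

theorem central_of_commute_unipotent (hp2 : p ≠ 2) {s u : S2} (hu : orderOf u = p)
    (hc : Commute s u) (hs : ¬ p ∣ orderOf s) : s ∈ Subgroup.center S2 := by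
  have hns := not_scalar_of_orderOf_eq hp2 hu
  obtain ⟨a, b, hab⟩ := H40.comm_eq_poly hns (congrArg Subtype.val hc.eq)
  have hup : ((u : S2) : Matrix (Fin 2) (Fin 2) F) ^ p = 1 := by
    rw [← Matrix.SpecialLinearGroup.coe_pow, ← hu, pow_orderOf_eq_one,
      Matrix.SpecialLinearGroup.coe_one]
  have hN : ((u : Matrix (Fin 2) (Fin 2) F) - 1) ^ p = 0 := by
    rw [sub_pow_char_of_commute _ (Commute.one_right _), hup, one_pow, sub_self]
  have hsp : ((s ^ p : S2) : Matrix (Fin 2) (Fin 2) F) = (a + b) ^ p • (1 : Matrix (Fin 2) (Fin 2) F) := by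
    rw [Matrix.SpecialLinearGroup.coe_pow,
      show (s : Matrix (Fin 2) (Fin 2) F) =
        (a + b) • (1 : Matrix (Fin 2) (Fin 2) F) + b • ((u : Matrix (Fin 2) (Fin 2) F) - 1) from by
          rw [hab, add_smul, smul_sub]; abel,
      add_pow_char_of_commute _ (((Commute.one_left _).smul_left _).smul_right _), smul_pow,
      one_pow, smul_pow, hN, smul_zero, add_zero]
  have hsc : s ^ p ∈ Subgroup.center S2 := by
    refine sl2_center_of_scalar ?_
    rw [hsp]
    simp [H40.IsScalar2]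
  obtain ⟨m, hm⟩ := exists_pow_eq_self_of_coprime
    ((hp.out.coprime_iff_not_dvd.2 hs : Nat.Coprime p (orderOf s)))
  rw [← hm]
  exact pow_mem hsc m

theorem p_dvd_card_sl2 : p ∣ Nat.card S2 := by
  rw [H40.card_SL2]
  obtain ⟨n, hpr, hn⟩ := FiniteField.card F p
  exact (hn ▸ dvd_pow_self p n.ne_zero).mul_right _

theorem dvd_index_centralizer (hp2 : p ≠ 2) {g : S2}
    (hs : H20.qPart p g ∉ Subgroup.center S2) :
    p ∣ (Subgroup.centralizer ({g} : Set S2)).index := by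
  have hnd : ¬ p ∣ Nat.card (Subgroup.centralizer ({g} : Set S2)) := by
    intro h
    obtain ⟨⟨u, hu⟩, hord⟩ := exists_prime_orderOf_dvd_card' p h
    rw [Subgroup.orderOf_mk] at hord
    rw [Subgroup.mem_centralizer_singleton_iff] at hu
    refine hs (central_of_commute_unipotent hp2 hord ?_ (H20.not_dvd_orderOf_qPart g))
    exact (Commute.pow_left (show Commute g u from hu.symm) _)
  have h := p_dvd_card_sl2 (F := F) (p := p)
  rw [← Subgroup.card_mul_index (Subgroup.centralizer ({g} : Set S2))] at h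
  exact (hp.out.dvd_mul.1 h).resolve_left hnd

theorem not_dvd_degree_of_ne_card (hp2 : p ≠ 2) (χ : IrrCharacter S2)
    (hne : (χ : S2 → ℂ) 1 ≠ (Fintype.card F : ℂ)) : ¬ p ∣ charDegree (χ : S2 → ℂ) := by
  obtain ⟨n, -, hn⟩ := FiniteField.card F p
  have hpq : p ∣ Fintype.card F := hn ▸ dvd_pow_self p n.ne_zero
  have hodd : Odd (Fintype.card F) := by
    rw [hn]
    exact (hp.out.odd_of_ne_two hp2).pow
  obtain ⟨C, hC⟩ := (H17.slEmb F).exists_nonSplit
  obtain ⟨O⟩ := H17.nonempty_slOdd hC hodd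
  have hd := H22.irr_one_eq_charDegree χ
  have h1 : 1 ≤ Fintype.card F := Fintype.card_pos
  have hhalf : ∀ m, m * 2 = Fintype.card F + 1 ∨ m * 2 + 1 = Fintype.card F → ¬ p ∣ m := by
    rintro m (hm | hm) h
    · have h2 : p ∣ Fintype.card F + 1 := hm ▸ h.mul_right 2
      exact hp.out.not_dvd_one ((Nat.dvd_add_right hpq).1 h2)
    · have h2 : p ∣ m * 2 + 1 := hm.symm ▸ hpq
      exact hp.out.not_dvd_one ((Nat.dvd_add_right (h.mul_right 2)).1 h2)
  rcases H17.sl_odd_degree hC hodd O χ with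
    ⟨_, -, -, d⟩ | ⟨_, -, -, d⟩ | ⟨-, d⟩ | ⟨-, d⟩ | ⟨-, d⟩ | ⟨-, d⟩ <;>
    rw [hd] at d
  · have e : charDegree (χ : S2 → ℂ) = Fintype.card F + 1 := by exact_mod_cast d
    rw [e]
    exact fun h => hp.out.not_dvd_one ((Nat.dvd_add_right hpq).1 h)
  · have e : charDegree (χ : S2 → ℂ) + 1 = Fintype.card F := by
      have : ((charDegree (χ : S2 → ℂ) + 1 : ℕ) : ℂ) = ((Fintype.card F : ℕ) : ℂ) := by
        push_cast; rw [d]; ring
      exact_mod_cast this
    exact fun h => hp.out.not_dvd_one ((Nat.dvd_add_right h).1 (e.symm ▸ hpq))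
  · have e : charDegree (χ : S2 → ℂ) = 1 := by exact_mod_cast d
    rw [e]; exact hp.out.not_dvd_one
  · exact absurd (hd.trans d) hne
  · have e : charDegree (χ : S2 → ℂ) = (Fintype.card F + 1) / 2 := by exact_mod_cast d
    rw [e]
    obtain ⟨k, hk⟩ := hodd
    exact hhalf _ (Or.inl (by omega))
  · have e : charDegree (χ : S2 → ℂ) = (Fintype.card F - 1) / 2 := by exact_mod_cast d
    rw [e]
    obtain ⟨k, hk⟩ := hodd
    exact hhalf _ (Or.inr (by omega))

theorem exists_steinberg (hodd : Odd (Fintype.card F)) :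
    ∃ χ : IrrCharacter S2, (χ : S2 → ℂ) 1 = (Fintype.card F : ℂ) ∧
      ∀ φ : IrrCharacter S2, (φ : S2 → ℂ) 1 = (Fintype.card F : ℂ) → φ = χ := by
  classical
  obtain ⟨C, hC⟩ := (H17.slEmb F).exists_nonSplit
  obtain ⟨O⟩ := H17.nonempty_slOdd hC hodd
  suffices h : ∃ χ : IrrCharacter S2, (χ : S2 → ℂ) 1 = (Fintype.card F : ℂ) by
    obtain ⟨χ, hχ⟩ := h
    exact ⟨χ, hχ, fun φ hφ => Subtype.ext
      ((H17.sl_degree_q hC φ.2 hφ).trans (H17.sl_degree_q hC χ.2 hχ).symm)⟩
  refine ⟨⟨_, (H17.slD hC).isIrr_stein 1 (fun a => rfl)⟩, ?_⟩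
  show (H17.slD hC).stein 1 1 = _
  rw [(H17.slD hC).stein_one, H17.slD_q]

variable {M : Ideal AlgInt} [hMp : M.IsPrime]

theorem sameBlock_iff_sign (hM : IsPModular p M) (hp2 : p ≠ 2) {χ ψ : IrrCharacter S2}
    (hχ : (χ : S2 → ℂ) 1 ≠ (Fintype.card F : ℂ)) (hψ : (ψ : S2 → ℂ) 1 ≠ (Fintype.card F : ℂ)) :
    SameBlock M (χ : S2 → ℂ) (ψ : S2 → ℂ) ↔
      (χ : S2 → ℂ) (-1) / (χ : S2 → ℂ) 1 = (ψ : S2 → ℂ) (-1) / (ψ : S2 → ℂ) 1 := by
  have hsign : ∀ φ : IrrCharacter S2, (φ : S2 → ℂ) (-1) / (φ : S2 → ℂ) 1 = 1 ∨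
      (φ : S2 → ℂ) (-1) / (φ : S2 → ℂ) 1 = -1 := fun φ => by
    have hc : (-1 : S2) ∈ Subgroup.center S2 := sl2_center_of_scalar H40.scalar_neg_one
    obtain ⟨ω, hω⟩ := H17.exists_central_char φ.2 (Subgroup.center S2) fun z hz => hz
    have h1 := hω ⟨-1, hc⟩ 1
    rw [mul_one] at h1
    have h2 : ((ω ⟨-1, hc⟩ : ℂˣ) : ℂ) ^ 2 = 1 := by
      rw [← Units.val_pow_eq_pow_val, ← map_pow, show (⟨-1, hc⟩ : Subgroup.center S2) ^ 2 = 1 from
        Subtype.ext (by simp), map_one, Units.val_one]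
    rw [h1, mul_div_assoc, div_self (H12.irr_apply_one_ne_zero φ), mul_one]
    exact sq_eq_one_iff.1 h2
  constructor
  · intro h
    have h1 := h (-1)
    have hidx : (Subgroup.centralizer ({(-1 : S2)} : Set S2)).index = 1 := by
      rw [Subgroup.index_eq_one, Subgroup.centralizer_eq_top_iff_subset, Set.singleton_subset_iff]
      exact sl2_center_of_scalar H40.scalar_neg_one
    rw [centralChar, centralChar, hidx, Nat.cast_one, one_mul, one_mul] at h1
    have hne : ∀ c : ℂ, (c = 2 ∨ c = -2) → ¬ MemLocalIdeal M c := by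
      intro c hc hmem
      have h2 : MemLocalIdeal M ((2 : ℕ) : ℂ) := by
        rcases hc with rfl | rfl
        · simpa using hmem
        · simpa using H20.memIdeal_mul (H20.memRing_neg (H20.memRing_natCast 1)) hmem
      exact hp2 ((Nat.prime_dvd_prime_iff_eq hp.out Nat.prime_two).1
        ((H20.natCast_memIdeal_iff hM 2).1 h2))
    rcases hsign χ with a | a <;> rcases hsign ψ with b | b
    · rw [a, b]
    · rw [a, b] at h1; exact absurd h1 (hne _ (Or.inl (by norm_num)))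
    · rw [a, b] at h1; exact absurd h1 (hne _ (Or.inr (by norm_num)))
    · rw [a, b]
  · intro he g
    have hval : ∀ φ : IrrCharacter S2, (φ : S2 → ℂ) 1 ≠ (Fintype.card F : ℂ) → ∀ g' : S2,
        MemLocalIdeal M (((φ : S2 → ℂ) g' - (φ : S2 → ℂ) (H20.qPart p g')) / (φ : S2 → ℂ) 1) :=
      fun φ hφ g' => by
        rw [div_eq_inv_mul, H22.irr_one_eq_charDegree φ]
        exact H20.memIdeal_mul (H20.inv_natCast_memRing hM (not_dvd_degree_of_ne_card hp2 φ hφ))
          (H25.memIdeal_apply_sub_qPart hM (H12.isCharacter_irr φ) g')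
    set n := (Subgroup.centralizer ({g} : Set S2)).index with hn
    by_cases hz : H20.qPart p g ∈ Subgroup.center S2
    · have hq : (χ : S2 → ℂ) (H20.qPart p g) / (χ : S2 → ℂ) 1 =
          (ψ : S2 → ℂ) (H20.qPart p g) / (ψ : S2 → ℂ) 1 := by
        rcases H40.eq_pm_of_scalar (H40.scalar_iff_mem_center.1 hz) with e | e <;> rw [e]
        · rw [div_self (H12.irr_apply_one_ne_zero χ), div_self (H12.irr_apply_one_ne_zero ψ)]
        · exact he
      have hd := H20.memIdeal_add (hval χ hχ g)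
        (H20.memIdeal_mul (H20.memRing_neg (H20.memRing_natCast 1)) (hval ψ hψ g))
      have := H20.memIdeal_mul (H20.memRing_natCast n) hd
      rw [centralChar, centralChar, ← hn]
      convert this using 1
      rw [sub_div, sub_div, hq]
      push_cast
      ring
    · have hdiv := dvd_index_centralizer hp2 hz
      have hsmall : ∀ φ : IrrCharacter S2, (φ : S2 → ℂ) 1 ≠ (Fintype.card F : ℂ) →
          MemLocalIdeal M (centralChar (φ : S2 → ℂ) g) := fun φ hφ => by
        have hr : MemLocalRing M ((φ : S2 → ℂ) g / (φ : S2 → ℂ) 1) := by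
          rw [div_eq_inv_mul, H22.irr_one_eq_charDegree φ]
          exact H20.memRing_mul (H20.inv_natCast_memRing hM (not_dvd_degree_of_ne_card hp2 φ hφ))
            (H20.memRing_irr φ g)
        have := H20.memIdeal_mul hr ((H20.natCast_memIdeal_iff hM n).2 hdiv)
        rw [centralChar, ← hn]
        convert this using 1
        ring
      have := H20.memIdeal_add (hsmall χ hχ)
        (H20.memIdeal_mul (H20.memRing_neg (H20.memRing_natCast 1)) (hsmall ψ hψ))
      convert this using 1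
      push_cast
      ring

/-- **The blocks of `SL₂(q)`**. -/
theorem sl2_blocks (hM : IsPModular p M) (hp2 : p ≠ 2) :
    (∀ B : Set (IrrCharacter S2), IsPBlock M B ↔
      (B = {χ : IrrCharacter S2 | (χ : S2 → ℂ) 1 = (Fintype.card F : ℂ)} ∨
       B = {χ : IrrCharacter S2 | (χ : S2 → ℂ) (-1) = (χ : S2 → ℂ) 1 ∧
          (χ : S2 → ℂ) 1 ≠ (Fintype.card F : ℂ)} ∨
       B = {χ : IrrCharacter S2 | (χ : S2 → ℂ) (-1) = -(χ : S2 → ℂ) 1})) ∧
    Nat.card {B : Set (IrrCharacter S2) // IsPBlock M B} = 3 ∧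
    ∀ P : Sylow p S2,
      IsDefectGroup p M {χ : IrrCharacter S2 | (χ : S2 → ℂ) (-1) = (χ : S2 → ℂ) 1 ∧
          (χ : S2 → ℂ) 1 ≠ (Fintype.card F : ℂ)} (P : Subgroup S2) ∧
      IsDefectGroup p M {χ : IrrCharacter S2 | (χ : S2 → ℂ) (-1) = -(χ : S2 → ℂ) 1}
        (P : Subgroup S2) := by
  classical
  obtain ⟨n, -, hn⟩ := FiniteField.card F p
  have hpq : p ∣ Fintype.card F := hn ▸ dvd_pow_self p n.ne_zero
  have hodd : Odd (Fintype.card F) := by
    rw [hn]
    exact (hp.out.odd_of_ne_two hp2).pow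
  have hq1 : (1 : ℂ) ≠ (Fintype.card F : ℂ) := by
    exact_mod_cast (ne_of_lt (Fintype.one_lt_card (α := F)))
  obtain ⟨St, hSt, hStu⟩ := exists_steinberg (F := F) hodd
  have hblockSt : blockOf M (St : S2 → ℂ) = {St} := by
    refine (H20.blockOf_eq_singleton_iff hM St).1 ?_
    have hdeg : charDegree (St : S2 → ℂ) = Fintype.card F := by
      have := (H22.irr_one_eq_charDegree St).symm.trans hSt
      exact_mod_cast this
    rw [hdeg, H40.card_SL2, Nat.mul_div_cancel_left _ Fintype.card_pos]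
    intro h
    have h1 : p ∣ (Fintype.card F ^ 2 - 1) + 1 → False := fun h' =>
      hp.out.not_dvd_one ((Nat.dvd_add_right h).1 h')
    refine h1 ?_
    rw [Nat.sub_add_cancel (Nat.one_le_pow _ _ Fintype.card_pos)]
    exact dvd_pow hpq two_ne_zero
  have hSt1 : (St : S2 → ℂ) (-1) = (St : S2 → ℂ) 1 := by
    obtain ⟨C, hC⟩ := (H17.slEmb F).exists_nonSplit
    rw [H17.sl_degree_q hC St.2 hSt]
    have hz : (-1 : S2) ∈ (H17.slD hC).Z := H17.neg_one_mem_Z
    exact stein_eq_one_of_mem (H17.slD hC) hz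
  set SB : Set (IrrCharacter S2) := {χ | (χ : S2 → ℂ) 1 = (Fintype.card F : ℂ)} with hSB
  set B1 : Set (IrrCharacter S2) := {χ | (χ : S2 → ℂ) (-1) = (χ : S2 → ℂ) 1 ∧
    (χ : S2 → ℂ) 1 ≠ (Fintype.card F : ℂ)} with hB1
  set B2 : Set (IrrCharacter S2) := {χ | (χ : S2 → ℂ) (-1) = -(χ : S2 → ℂ) 1} with hB2
  have hsingle : SB = {St} := Set.ext fun χ => ⟨fun h => hStu χ h, fun h => by
    rw [Set.mem_singleton_iff] at h; rw [h]; exact hSt⟩
  have hne2 : ∀ χ ∈ B2, (χ : S2 → ℂ) 1 ≠ (Fintype.card F : ℂ) := by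
    intro χ hχ h
    rw [hStu χ h] at hχ
    exact H12.irr_apply_one_ne_zero St (CharZero.eq_neg_self_iff.1 (hSt1.symm.trans hχ))
  have hsignset : ∀ χ : IrrCharacter S2, (χ : S2 → ℂ) (-1) = (χ : S2 → ℂ) 1 ∨ χ ∈ B2 := by
    intro χ
    have hc : (-1 : S2) ∈ Subgroup.center S2 := sl2_center_of_scalar H40.scalar_neg_one
    obtain ⟨ω, hω⟩ := H17.exists_central_char χ.2 (Subgroup.center S2) fun z hz => hz
    have h1 := hω ⟨-1, hc⟩ 1
    rw [mul_one] at h1
    have h2 : ((ω ⟨-1, hc⟩ : ℂˣ) : ℂ) ^ 2 = 1 := by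
      rw [← Units.val_pow_eq_pow_val, ← map_pow, show (⟨-1, hc⟩ : Subgroup.center S2) ^ 2 = 1 from
        Subtype.ext (by simp), map_one, Units.val_one]
    rcases sq_eq_one_iff.1 h2 with e | e <;> rw [e] at h1
    · exact Or.inl (by rw [h1, one_mul])
    · exact Or.inr (h1.trans (neg_one_mul _))
  have hone : H12.oneIrr S2 ∈ B1 := ⟨rfl, hq1⟩
  obtain ⟨χ₂, hχ₂⟩ : B2.Nonempty := by
    by_contra h
    rw [Set.not_nonempty_iff_eq_empty] at h
    have hall : ∀ χ : IrrCharacter S2, (χ : S2 → ℂ) (-1) = (χ : S2 → ℂ) 1 := fun χ =>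
      (hsignset χ).resolve_right (by rw [h]; simp)
    have h1 := H12.regular_eq_sum (-1 : S2)
    rw [if_neg (H17.neg_one_sl_ne_one (H17.two_ne_zero_of_odd hodd))] at h1
    have h2 := H12.regular_eq_sum (1 : S2)
    rw [if_pos rfl] at h2
    simp only [hall] at h1
    rw [h2] at h1
    exact H12.card_ne_zero' h1
  have hB1eq : ∀ χ ∈ B1, blockOf M (χ : S2 → ℂ) = B1 := by
    intro χ hχ
    ext ψ
    by_cases hψ : (ψ : S2 → ℂ) 1 = (Fintype.card F : ℂ)
    · refine ⟨fun h => ?_, fun h => absurd hψ h.2⟩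
      rw [hStu ψ hψ] at h
      have : χ ∈ blockOf M (St : S2 → ℂ) := H20.sameBlock_symm h
      rw [hblockSt, Set.mem_singleton_iff] at this
      exact absurd (this ▸ hSt) hχ.2
    · show SameBlock M _ _ ↔ _
      rw [sameBlock_iff_sign hM hp2 hχ.2 hψ, hχ.1, div_self (H12.irr_apply_one_ne_zero χ), eq_comm,
        div_eq_one_iff_eq (H12.irr_apply_one_ne_zero ψ)]
      exact ⟨fun h => ⟨h, hψ⟩, fun h => h.1⟩
  have hB2eq : ∀ χ ∈ B2, blockOf M (χ : S2 → ℂ) = B2 := by
    intro χ hχ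
    ext ψ
    by_cases hψ : (ψ : S2 → ℂ) 1 = (Fintype.card F : ℂ)
    · refine ⟨fun h => ?_, fun h => absurd hψ (hne2 ψ h)⟩
      rw [hStu ψ hψ] at h
      have : χ ∈ blockOf M (St : S2 → ℂ) := H20.sameBlock_symm h
      rw [hblockSt, Set.mem_singleton_iff] at this
      exact absurd (this ▸ hSt) (hne2 χ hχ)
    · show SameBlock M _ _ ↔ _
      rw [sameBlock_iff_sign hM hp2 (hne2 χ hχ) hψ, show (χ : S2 → ℂ) (-1) = -(χ : S2 → ℂ) 1 from hχ,
        neg_div, div_self (H12.irr_apply_one_ne_zero χ), eq_comm,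
        div_eq_iff (H12.irr_apply_one_ne_zero ψ), neg_one_mul]
      rfl
  have hlist : ∀ B : Set (IrrCharacter S2), IsPBlock M B ↔ (B = SB ∨ B = B1 ∨ B = B2) := by
    intro B
    constructor
    · intro hB
      obtain ⟨χ, hχ⟩ := H20.block_nonempty hB
      rw [H20.block_eq_blockOf hB hχ]
      by_cases h : (χ : S2 → ℂ) 1 = (Fintype.card F : ℂ)
      · left; rw [hStu χ h, hblockSt, hsingle]
      rcases hsignset χ with h1 | h1
      · exact Or.inr (Or.inl (hB1eq χ ⟨h1, h⟩))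
      · exact Or.inr (Or.inr (hB2eq χ h1))
    · rintro (rfl | rfl | rfl)
      · rw [hsingle, ← hblockSt]; exact H20.isPBlock_blockOf St
      · rw [← hB1eq _ hone]; exact H20.isPBlock_blockOf _
      · rw [← hB2eq _ hχ₂]; exact H20.isPBlock_blockOf _
  refine ⟨hlist, ?_, fun P => ?_⟩
  · have h12 : B1 ≠ B2 := fun h => by
      have := h ▸ hone
      exact H12.irr_apply_one_ne_zero (H12.oneIrr S2) (CharZero.eq_neg_self_iff.1 (hone.1.symm.trans this))
    have h01 : SB ≠ B1 := fun h => (h ▸ (show St ∈ SB from hSt) : St ∈ B1).2 hSt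
    have h02 : SB ≠ B2 := fun h => hne2 St (h ▸ (show St ∈ SB from hSt)) hSt
    rw [show {B : Set (IrrCharacter S2) // IsPBlock M B} =
      ({B | IsPBlock M B} : Set (Set (IrrCharacter S2))) from rfl,
      show {B : Set (IrrCharacter S2) | IsPBlock M B} = {SB, B1, B2} from
        Set.ext fun B => by simpa using hlist B, Nat.card_coe_set_eq,
      Set.ncard_eq_three]
    exact ⟨SB, B1, B2, h01, h02, h12, rfl⟩
  · have key : ∀ B : Set (IrrCharacter S2), IsPBlock M B → ∀ χ ∈ B,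
        (χ : S2 → ℂ) 1 ≠ (Fintype.card F : ℂ) → IsDefectGroup p M B (P : Subgroup S2) := by
      intro B hB χ hχ hne
      have hdef : blockDefect p B = (Nat.card S2).factorization p := by
        have h1 := H22.blockDefect_add_blockExp (p := p) hχ
        have h2 := H22.blockExp_le (p := p) hχ
        have h3 := Nat.factorization_eq_zero_of_not_dvd (not_dvd_degree_of_ne_card hp2 χ hne)
        omega
      obtain ⟨D, hD⟩ := H20.exists_defectGroup hM hB
      have hcard := H20.card_defectGroup hM hB hD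
      rw [hdef] at hcard
      obtain ⟨x, hx⟩ := MulAction.exists_smul_eq S2 (Sylow.ofCard D hcard) P
      rw [← hx]
      exact H20.isDefectGroup_conj hM hB hD x
    exact ⟨key _ ((hlist _).2 (Or.inr (Or.inl rfl))) _ hone hone.2,
      key _ ((hlist _).2 (Or.inr (Or.inr rfl))) χ₂ hχ₂ (hne2 χ₂ hχ₂)⟩

end H21
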