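import Cfsg.Agent.H21.ParRadical
import Cfsg.Agent.H21.ParSteinberg
import Cfsg.Agent.H21.DefectZeroUnique
import Cfsg.Agent.H22.Divis
import Cfsg.Agent.H16.CoprimeCoset
import Mathlib.LinearAlgebra.PID

/-!
The values of the Steinberg character at the `p`-regular elements.
-/

set_option autoImplicit false
set_option maxHeartbeats 400000
set_option linter.unusedSectionVars false
set_option linter.style.haveILetI false

namespace H21.StValue

open H56 Cfsg
open H53 (RootGroupSys)
open H53.RootGroupSys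
open H21.DZUnique (fixedBy)
open scoped Classical ComplexConjugate

section Coset

variable {G : Type*} [Group G] [Finite G]

/-- A class function vanishing at the `p`-singular elements, summed over a coset `Q g`. -/
theorem sum_coset (p : ℕ) [Fact p.Prime] (χ : G → ℂ) (hχ : IsClassFunction G χ)
    (hvan : ∀ x : G, p ∣ orderOf x → χ x = 0) (Q : Subgroup G) [Q.Normal] [Fintype Q]
    (hQ : IsPGroup p Q) (g : G) (hg : ¬ p ∣ orderOf g) :
    (Nat.card ↥((Subgroup.centralizer ({g} : Set G)).subgroupOf Q) : ℂ) * ∑ q : Q, χ (q * g) =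
      (Nat.card Q : ℂ) * χ g := by
  classical
  set C := (Subgroup.centralizer ({g} : Set G)).subgroupOf Q with hC
  have hp : p.Prime := Fact.out
  have hmemC : ∀ c : Q, c ∈ C ↔ (c : G) * g = g * c := fun c => by
    rw [hC, Subgroup.mem_subgroupOf, Subgroup.mem_centralizer_singleton_iff]
  have hmem : ∀ c : Q, (c : G) * g * (c : G)⁻¹ * g⁻¹ ∈ Q := fun c => by
    have e : (c : G) * g * (c : G)⁻¹ * g⁻¹ = (c : G) * (g * (c : G)⁻¹ * g⁻¹) := by group
    rw [e]
    exact mul_mem c.2 (‹Q.Normal›.conj_mem _ (inv_mem c.2) g)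
  let φ : Q ⧸ C → Q := Quotient.lift (fun c : Q => (⟨_, hmem c⟩ : Q)) fun a b h => by
    have h1 := (hmemC _).1 (QuotientGroup.leftRel_apply.1 h)
    simp only [Subgroup.coe_mul, InvMemClass.coe_inv] at h1
    apply Subtype.ext
    show (a : G) * g * (a : G)⁻¹ * g⁻¹ = (b : G) * g * (b : G)⁻¹ * g⁻¹
    congr 1
    calc (a : G) * g * (a : G)⁻¹ = (a : G) * (g * ((a : G)⁻¹ * b)) * (b : G)⁻¹ := by group
      _ = (a : G) * (((a : G)⁻¹ * b) * g) * (b : G)⁻¹ := by rw [h1]
      _ = _ := by group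
  have hφ : ∀ c : Q, ((φ (c : Q ⧸ C)) : G) = (c : G) * g * (c : G)⁻¹ * g⁻¹ := fun c => rfl
  have hφi : Function.Injective φ := by
    intro a b h
    induction a using QuotientGroup.induction_on with | _ a => ?_
    induction b using QuotientGroup.induction_on with | _ b => ?_
    have h1 : (a : G) * g * (a : G)⁻¹ = (b : G) * g * (b : G)⁻¹ :=
      mul_right_cancel (b := g⁻¹) (by rw [← hφ a, ← hφ b, h])
    rw [QuotientGroup.eq, hmemC]
    simp only [Subgroup.coe_mul, InvMemClass.coe_inv]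
    calc (a : G)⁻¹ * b * g = (a : G)⁻¹ * ((b : G) * g * (b : G)⁻¹) * b := by group
      _ = (a : G)⁻¹ * ((a : G) * g * (a : G)⁻¹) * b := by rw [h1]
      _ = _ := by group
  have hout : ∀ q : Q, q ∉ Set.range φ → χ (q * g) = 0 := by
    intro q hq
    by_contra hne
    apply hq
    have hcop : Nat.Coprime (orderOf g) (Nat.card Q) := by
      obtain ⟨k, hk⟩ := IsPGroup.iff_card.1 hQ
      rw [hk]
      exact ((hp.coprime_iff_not_dvd.2 hg).pow_left k).symm
    obtain ⟨c, hc, w, hw, hwg, he⟩ := H16.coset_conj_to_centralizer Q g hcop (q : G) q.2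
    have hreg : ¬ p ∣ orderOf (w * g) := fun h => hne (by
      rw [← he, hχ]
      exact hvan _ h)
    have hw1 : w = 1 := by
      by_contra hw1
      apply hreg
      obtain ⟨k, hk⟩ := (IsPGroup.iff_orderOf.1 hQ) ⟨w, hw⟩
      rw [← Subgroup.orderOf_coe] at hk
      have hk0 : k ≠ 0 := fun h0 => hw1 (orderOf_eq_one_iff.1 (by rw [hk, h0, pow_zero]))
      rw [(show Commute w g from hwg).orderOf_mul_eq_mul_orderOf_of_coprime
        (by rw [hk]; exact (hp.coprime_iff_not_dvd.2 hg).pow_left k), hk]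
      exact dvd_mul_of_dvd_left (dvd_pow_self p hk0) _
    refine ⟨((⟨c, hc⟩ : Q) : Q ⧸ C), Subtype.ext ?_⟩
    rw [hφ]
    rw [hw1, one_mul] at he
    rw [show ((⟨c, hc⟩ : Q) : G) = c from rfl, he, mul_inv_cancel_right]
  have hin : ∀ x : Q ⧸ C, χ ((φ x : G) * g) = χ g := by
    intro x
    induction x using QuotientGroup.induction_on with | _ c => ?_
    rw [hφ, inv_mul_cancel_right]
    exact hχ g c
  haveI := Fintype.ofFinite (Q ⧸ C)
  have hsum : ∑ q : Q, χ (q * g) = (C.index : ℂ) * χ g := by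
    rw [← Finset.sum_subset (Finset.subset_univ (Finset.univ.image φ)) (fun q _ hq => hout q fun ⟨x, hx⟩ =>
      hq (Finset.mem_image.2 ⟨x, Finset.mem_univ _, hx⟩)), Finset.sum_image fun a _ b _ h => hφi h,
      Finset.sum_congr rfl fun x _ => hin x, Finset.sum_const, Finset.card_univ, Subgroup.index_eq_card,
      Nat.card_eq_fintype_card, nsmul_eq_mul]
  rw [hsum, ← Subgroup.card_mul_index C, Nat.cast_mul, mul_assoc]

end Coset

section Rep

variable {G : Type*} [Group G]

/-- the representation of `Pk` on the vectors fixed by `Q` -/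
noncomputable def fixRep {V : Type*} [AddCommGroup V] [Module ℂ V] (ρ : Representation ℂ G V)
    (Pk Q : Subgroup G) (hnorm : ∀ g ∈ Pk, ∀ q ∈ Q, g * q * g⁻¹ ∈ Q) :
    Representation ℂ Pk (fixedBy ρ Q) where
  toFun x := (ρ (x : G)).restrict (p := fixedBy ρ Q) (q := fixedBy ρ Q) fun v hv q hq => by
    have h1 := hnorm _ (inv_mem x.2) q hq
    simp only [inv_inv] at h1
    calc ρ q (ρ (x : G) v) = ρ (x : G) (ρ ((x : G)⁻¹ * q * x) v) := by
          rw [← Module.End.mul_apply, ← Module.End.mul_apply, ← map_mul, ← map_mul]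
          group
      _ = _ := by rw [hv _ h1]
  map_one' := by ext v; simp
  map_mul' a b := LinearMap.ext fun v => Subtype.ext (by
    show ρ ((a : G) * (b : G)) (v : V) = ρ (a : G) (ρ (b : G) (v : V))
    rw [map_mul]; rfl)

theorem card_mul_fixRep_character [Fintype G] {V : Type*} [AddCommGroup V] [Module ℂ V]
    [FiniteDimensional ℂ V] (ρ : Representation ℂ G V) (Pk Q : Subgroup G) [Fintype Q]
    (hnorm : ∀ g ∈ Pk, ∀ q ∈ Q, g * q * g⁻¹ ∈ Q) (x : Pk) :
    ∑ q : Q, ρ.character ((x : G) * q) = (Nat.card Q : ℂ) * (fixRep ρ Pk Q hnorm).character x := by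
  have hQ : (Nat.card Q : ℂ) ≠ 0 := Nat.cast_ne_zero.2 Nat.card_pos.ne'
  set A : Module.End ℂ V := (Nat.card Q : ℂ)⁻¹ • ∑ q : Q, ρ (q : G) with hA
  have hAmem : ∀ v, A v ∈ fixedBy ρ Q := by
    intro v k hk
    rw [hA, LinearMap.smul_apply, map_smul, LinearMap.sum_apply, map_sum]
    congr 1
    refine Fintype.sum_equiv (Equiv.mulLeft (⟨k, hk⟩ : Q)) _ _ fun h => ?_
    rw [← UW.rho_mul]
    rfl
  have hAid : ∀ v ∈ fixedBy ρ Q, A v = v := by
    intro v hv
    rw [hA, LinearMap.smul_apply, LinearMap.sum_apply,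
      Finset.sum_congr rfl fun (h : Q) _ => hv (h : G) h.2, Finset.sum_const, Finset.card_univ,
      ← Nat.cast_smul_eq_nsmul ℂ, smul_smul, ← Nat.card_eq_fintype_card, inv_mul_cancel₀ hQ, one_smul]
  set T : Module.End ℂ V := ρ (x : G) * A with hT
  have hTmem : ∀ v, T v ∈ fixedBy ρ Q := fun v => ((fixRep ρ Pk Q hnorm) x ⟨A v, hAmem v⟩).2
  have htr : LinearMap.trace ℂ V T = (fixRep ρ Pk Q hnorm).character x := by
    rw [← LinearMap.trace_restrict_eq_of_forall_mem (fixedBy ρ Q) T hTmem]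
    refine congrArg (LinearMap.trace ℂ _) (LinearMap.ext fun v => Subtype.ext ?_)
    show ρ (x : G) (A v) = ρ (x : G) v
    rw [hAid v v.2]
  rw [← htr, hT, hA, mul_smul_comm, map_smul, smul_eq_mul, ← mul_assoc, mul_inv_cancel₀ hQ, one_mul,
    Finset.mul_sum, map_sum]
  refine Finset.sum_congr rfl fun q _ => ?_
  rw [← map_mul]
  rfl

theorem finrank_fixedBy_sub {V : Type*} [AddCommGroup V] [Module ℂ V] (ρ : Representation ℂ G V)
    (Pk Q J : Subgroup G) (hnorm : ∀ g ∈ Pk, ∀ q ∈ Q, g * q * g⁻¹ ∈ Q) (hQ : Q ≤ J) (hJ : J ≤ Pk) :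
    Module.finrank ℂ (fixedBy (fixRep ρ Pk Q hnorm) (J.subgroupOf Pk)) =
      Module.finrank ℂ (fixedBy ρ J) := by
  have e : (fixedBy (fixRep ρ Pk Q hnorm) (J.subgroupOf Pk)).map (fixedBy ρ Q).subtype = fixedBy ρ J := by
    ext v
    constructor
    · rintro ⟨w, hw, rfl⟩ j hj
      exact congrArg Subtype.val (hw ⟨j, hJ hj⟩ (Subgroup.mem_subgroupOf.2 hj))
    · intro hv
      refine ⟨⟨v, fun q hq => hv q (hQ hq)⟩, fun j hj => Subtype.ext ?_, rfl⟩
      exact hv _ (Subgroup.mem_subgroupOf.1 hj)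
  rw [← e]
  exact (Submodule.equivMapOfInjective _ (Submodule.injective_subtype _) _).finrank_eq

end Rep

variable {G : Type*} [Group G] [Fintype G] {ι R : Type*} [Finite R] {S : RootGroupSys G ι R}

/-- At a `p`-regular element the Steinberg character is `±|C(g)|_p`. -/
theorem value_eq (hS : S.Axioms) (hsep : Sep S) [instS : Fintype (pair hS hsep).S]
    (huniq : ∀ w w' : Weyl (pair hS hsep), IsTop _ w → IsTop _ w' → w = w')
    {p : ℕ} [Fact p.Prime] {M : Ideal AlgInt} (hM : IsPModular p M) (hUp : IsPGroup p S.Uplus)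
    (χ : IrrCharacter G) (hχ : (χ : G → ℂ) = bnSt (pair hS hsep))
    (hdeg : (χ : G → ℂ) 1 = (Nat.card S.Uplus : ℂ))
    (hvan : ∀ x : G, p ∣ orderOf x → (χ : G → ℂ) x = 0) {g : G} (hg : ¬ p ∣ orderOf g) :
    (χ : G → ℂ) g = ((p ^ H22.cenExp p g : ℕ) : ℂ) ∨ (χ : G → ℂ) g = -((p ^ H22.cenExp p g : ℕ) : ℂ) := by
  haveI := H20.isPrime_of_modular hM
  have hp : p.Prime := Fact.out
  -- the smallest parabolic subgroup
  let good : Finset (Finset (pair hS hsep).S) :=
    Finset.univ.filter fun K => ∃ x : G, x⁻¹ * g * x ∈ par (pair hS hsep) (K : Set (pair hS hsep).S)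
  have hgood : good.Nonempty := by
    refine ⟨Finset.univ, Finset.mem_filter.2 ⟨Finset.mem_univ _, 1, ?_⟩⟩
    obtain ⟨l, -, hl⟩ := exists_red (pair hS hsep) (wpos (pair hS hsep) (1⁻¹ * g * 1))
    exact (mem_par_iff _).2 ⟨l, fun s _ => by simp, hl⟩
  obtain ⟨K, hKgood, hKmin⟩ := good.exists_min_image Finset.card hgood
  obtain ⟨-, x₀, hx₀⟩ := Finset.mem_filter.1 hKgood
  set Pk := par (pair hS hsep) (K : Set (pair hS hsep).S) with hPk
  set g' : Pk := ⟨x₀⁻¹ * g * x₀, hx₀⟩ with hg'
  have hmin : ∀ L : Finset (pair hS hsep).S, L ⊂ K → ∀ x : G, x⁻¹ * (g' : G) * x ∉ par (pair hS hsep) (L : Set (pair hS hsep).S) := by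
    intro L hL x hx
    have := hKmin L (Finset.mem_filter.2 ⟨Finset.mem_univ _, x₀ * x, by simpa [hg', mul_assoc] using hx⟩)
    exact absurd (Finset.card_lt_card hL) (not_lt.2 this)
  obtain ⟨wK, hwK, -⟩ := exists_longest (P := pair hS hsep) (K : Set (pair hS hsep).S)
  obtain ⟨nK, rfl⟩ := toW_surjective (pair hS hsep) wK
  set Q := Rad.rad S (nK : G) with hQdef
  have hnorm : ∀ a ∈ Pk, ∀ q ∈ Q, a * q * a⁻¹ ∈ Q := fun a ha q hq =>
    Rad.par_conj hS hsep huniq hwK ha hq
  obtain ⟨d, ρ, hρ, hρχ⟩ := χ.2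
  haveI := Fintype.ofFinite Q
  set σ := fixRep ρ Pk Q hnorm with hσ
  have hQUp : IsPGroup p Q := hUp.to_le (Rad.rad_le _)
  have hQB : Q ≤ (pair hS hsep).B := fun q hq => Uplus_le_B (Rad.rad_le _ hq)
  -- the degree
  have hdim : Nat.card S.Uplus = Nat.card Q * Module.finrank ℂ (fixedBy ρ Q) := by
    have h := DZUnique.sum_character_eq ρ Q
    rw [Finset.sum_eq_single (1 : Q), OneMemClass.coe_one, hρχ, hdeg] at h
    · exact_mod_cast h
    · intro q _ hq
      rw [hρχ]
      refine hvan _ ?_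
      obtain ⟨k, hk⟩ := (IsPGroup.iff_orderOf.1 hQUp) q
      have hk0 : k ≠ 0 := fun h0 => hq (orderOf_eq_one_iff.1 (by rw [hk, h0, pow_zero]))
      rw [Subgroup.orderOf_coe, hk]
      exact dvd_pow_self p hk0
    · intro h'; exact absurd (Finset.mem_univ _) h'
  -- the character of `σ` is the parabolic Steinberg character
  haveI := Fintype.ofFinite Pk
  let f : IrrCharacter Pk := ⟨ParSt.parSt (pair hS hsep) K, ParSt.isIrr_parSt (pair hS hsep) huniq K⟩
  obtain ⟨m, hm⟩ := H12.exists_mult_of_rep _ _ σ rfl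
  have hinner : classInner (f : Pk → ℂ) σ.character = 1 := by
    have hform : (f : Pk → ℂ) = ∑ L ∈ K.powerset, ((-1 : ℂ) ^ L.card) •
        fixedPointCharacter ((par (pair hS hsep) (L : Set (pair hS hsep).S)).subgroupOf Pk) := by
      funext x
      simp [f, ParSt.parSt, Finset.sum_apply]
      rfl
    rw [hform, H12.classInner_sum_left]
    have hterm : ∀ L ∈ K.powerset, classInner (((-1 : ℂ) ^ L.card) •
        fixedPointCharacter ((par (pair hS hsep) (L : Set (pair hS hsep).S)).subgroupOf Pk)) σ.character =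
          (-1 : ℂ) ^ L.card * (if L = ∅ then 1 else 0) := fun L hL => by
      rw [H12.classInner_smul_left, DZUnique.classInner_fixedPointCharacter,
        finrank_fixedBy_sub ρ Pk Q _ hnorm (fun q hq => B_le_par (hQB hq))
          (ParSt.par_mono (pair hS hsep) (Finset.coe_subset.2 (Finset.mem_powerset.1 hL))),
        ← DZUnique.classInner_fixedPointCharacter ρ, hρχ, hχ, ParSt.classInner_par_bnSt (pair hS hsep) huniq L]
    rw [Finset.sum_congr rfl hterm, Finset.sum_eq_single ∅]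
    · simp
    · intro L _ hL; rw [if_neg hL, mul_zero]
    · intro h; exact absurd (Finset.empty_mem_powerset K) h
  have hmf : m f = 1 := by
    have h := congrArg conj hinner
    rw [H12.conj_classInner, map_one, hm, H12.classInner_sum_smul_irr] at h
    exact_mod_cast h
  have hσf : σ.character = (f : Pk → ℂ) := by
    have h1 : σ.character 1 = (Module.finrank ℂ (fixedBy ρ Q) : ℂ) := Representation.char_one σ
    have hle : Module.finrank ℂ (fixedBy ρ Q) ≤ H12.degree (f : Pk → ℂ) := by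
      have hc := Rad.index_le_card_cell hS hsep huniq hwK
      rw [hdim] at hc
      have hc' := Nat.le_of_mul_le_mul_left hc Nat.card_pos
      have hf1 : (H12.degree (f : Pk → ℂ) : ℂ) = (Nat.card {x : G ⧸ (pair hS hsep).B //
          wdist (pair hS hsep) ((1 : G) : G ⧸ (pair hS hsep).B) x = toW (pair hS hsep) nK} : ℂ) := by
        rw [← H12.irr_apply_one]
        exact ParSt.parSt_one (pair hS hsep) huniq K hwK
      exact le_of_le_of_eq hc' (Nat.cast_injective hf1).symm
    have hsum : (∑ ψ : IrrCharacter Pk, m ψ * H12.degree (ψ : Pk → ℂ)) =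
        Module.finrank ℂ (fixedBy ρ Q) := by
      apply Nat.cast_injective (R := ℂ)
      rw [← h1, hm]
      simp [Finset.sum_apply, H12.irr_apply_one]
    have hzero : ∀ ψ : IrrCharacter Pk, ψ ≠ f → m ψ = 0 := by
      intro ψ hψ
      have h2 := Finset.sum_le_sum_of_subset (f := fun ψ : IrrCharacter Pk => m ψ * H12.degree (ψ : Pk → ℂ))
        (Finset.subset_univ {f, ψ})
      rw [Finset.sum_pair hψ.symm, hsum, hmf, one_mul] at h2
      have h3 : m ψ * H12.degree (ψ : Pk → ℂ) = 0 := by omega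
      exact (Nat.mul_eq_zero.1 h3).resolve_right (H12.irr_degree_pos ψ).ne'
    rw [hm, Finset.sum_eq_single f]
    · rw [hmf, Nat.cast_one, one_smul]
    · intro ψ _ hψ; rw [hzero ψ hψ, Nat.cast_zero, zero_smul]
    · intro h; exact absurd (Finset.mem_univ _) h
  have hsign : σ.character g' = (-1 : ℂ) ^ K.card := by
    rw [hσf]
    exact ParSt.parSt_apply_eq (pair hS hsep) K g' hmin
  -- the coset `Q g'`
  let Qp := Q.subgroupOf Pk
  haveI : Qp.Normal := ⟨fun q hq a => Subgroup.mem_subgroupOf.2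
    (hnorm (a : G) a.2 (q : G) (Subgroup.mem_subgroupOf.1 hq))⟩
  haveI := Fintype.ofFinite Qp
  have hQPk : Q ≤ Pk := fun q hq => B_le_par (hQB hq)
  let e : Qp ≃* Q := Subgroup.subgroupOfEquivOfLe hQPk
  have hgord : ¬ p ∣ orderOf g' := by
    rw [← Subgroup.orderOf_coe, show ((g' : Pk) : G) = MulAut.conj x₀⁻¹ g by simp [hg'],
      (MulAut.conj x₀⁻¹).orderOf_eq]
    exact hg
  have hcoset := sum_coset p (fun y : Pk => (χ : G → ℂ) y) (fun a b => by
      simp only [Subgroup.coe_mul, InvMemClass.coe_inv]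
      exact H12.irr_isClassFunction χ _ _)
    (fun y hy => hvan _ (by rwa [Subgroup.orderOf_coe])) Qp (hQUp.of_equiv e.symm) g' hgord
  have hsum : ∑ q : Qp, (χ : G → ℂ) ((q * g' : Pk) : G) = (Nat.card Q : ℂ) * σ.character g' := by
    rw [← card_mul_fixRep_character ρ Pk Q hnorm g', hρχ]
    refine Fintype.sum_equiv e.toEquiv _ _ fun q => ?_
    simp only [Subgroup.coe_mul]
    have h := H12.irr_isClassFunction χ ((g' : G) * ((q : Pk) : G)) (g' : G)⁻¹
    rw [show (g' : G)⁻¹ * ((g' : G) * ((q : Pk) : G)) * ((g' : G)⁻¹)⁻¹ = ((q : Pk) : G) * g' by group] at h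
    exact h
  rw [hsum, hsign, Nat.card_congr e.toEquiv] at hcoset
  set c := Nat.card ↥((Subgroup.centralizer ({g'} : Set Pk)).subgroupOf Qp) with hc
  have hval : (χ : G → ℂ) g = (c : ℂ) * (-1 : ℂ) ^ K.card := by
    have hQ0 : (Nat.card Q : ℂ) ≠ 0 := Nat.cast_ne_zero.2 Nat.card_pos.ne'
    have h1 : (χ : G → ℂ) (g' : G) = (χ : G → ℂ) g := by
      rw [show (g' : G) = x₀⁻¹ * g * (x₀⁻¹)⁻¹ by simp [hg']]
      exact H12.irr_isClassFunction χ g x₀⁻¹
    rw [← h1]
    apply mul_left_cancel₀ hQ0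
    linear_combination -hcoset
  obtain ⟨a, ha⟩ := IsPGroup.iff_card.1 ((hQUp.of_equiv e.symm).to_subgroup
    ((Subgroup.centralizer ({g'} : Set Pk)).subgroupOf Qp))
  rw [← hc] at ha
  have hae : a ≤ H22.cenExp p g := by
    have hdvd : c ∣ Nat.card (Subgroup.centralizer ({g} : Set G)) := by
      let h : ↥((Subgroup.centralizer ({g'} : Set Pk)).subgroupOf Qp) →*
          Subgroup.centralizer ({g} : Set G) :=
        { toFun := fun q => ⟨x₀ * (((q : Qp) : Pk) : G) * x₀⁻¹, by
            have h2 := congrArg Subtype.val (Subgroup.mem_centralizer_singleton_iff.1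
              (Subgroup.mem_subgroupOf.1 q.2))
            simp only [Subgroup.coe_mul, hg'] at h2
            rw [Subgroup.mem_centralizer_singleton_iff]
            calc x₀ * (((q : Qp) : Pk) : G) * x₀⁻¹ * g
                = x₀ * ((((q : Qp) : Pk) : G) * (x₀⁻¹ * g * x₀)) * x₀⁻¹ := by group
              _ = x₀ * ((x₀⁻¹ * g * x₀) * (((q : Qp) : Pk) : G)) * x₀⁻¹ := by rw [h2]
              _ = _ := by group⟩
          map_one' := Subtype.ext (by simp)
          map_mul' := fun a b => Subtype.ext (by simp [mul_assoc]) }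
      refine Subgroup.card_dvd_of_injective h fun a b hab => ?_
      have := congrArg Subtype.val hab
      simp only [h, MonoidHom.coe_mk, OneHom.coe_mk, mul_left_inj, mul_right_inj] at this
      exact Subtype.ext (Subtype.ext (Subtype.ext this))
    rw [ha] at hdvd
    exact (hp.pow_dvd_iff_le_factorization Nat.card_pos.ne').1 hdvd
  have hring := H22.div_cenExp_memRing (M := M) (s := {χ}) (c := fun _ => 1) (θ := (χ : G → ℂ))
    (fun x => by simp) hvan (fun _ _ => by simpa using H20.memRing_natCast (M := M) 1) hg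
  have hring' : MemLocalRing M (((p ^ a : ℕ) : ℂ) / (p : ℂ) ^ H22.cenExp p g) := by
    rw [hval, ha] at hring
    rcases neg_one_pow_eq_or ℂ K.card with h | h
    · simpa [h] using hring
    · have := H20.memRing_neg hring
      simpa [h, neg_div] using this
  have hea := H20.pow_dvd_of_memRing hM hring'
  have heq : a = H22.cenExp p g :=
    le_antisymm hae ((Nat.pow_dvd_pow_iff_le_right hp.one_lt).1 hea)
  rw [hval, ha, heq]
  rcases neg_one_pow_eq_or ℂ K.card with h | h <;> simp [h]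

end H21.StValue
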