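import Cfsg.Agent.H21.RegCongr
import Cfsg.Agent.H20.SecondMainApps

/-!
The subsection part of a character of height zero does not vanish.
-/

set_option autoImplicit false
set_option linter.style.haveILetI false
set_option linter.unusedSectionVars false

namespace H21

open Cfsg
open scoped ComplexConjugate

universe u

theorem memRing_sub' {M : Ideal AlgInt} [M.IsPrime] {x y : ℂ} (hx : MemLocalRing M x)
    (hy : MemLocalRing M y) : MemLocalRing M (x - y) := by
  rw [sub_eq_add_neg]; exact H20.memRing_add hx (H20.memRing_neg hy)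

variable {G : Type u} [Group G] [Fintype G]
variable {p : ℕ} {M : Ideal AlgInt} [hMp : M.IsPrime]

/-- A class function with values in the local ideal has average in the local ideal. -/
theorem redC_avgChar_eq_zero (χ : IrrCharacter G) (f : G → ℂ) (hf : IsClassFunction G f)
    (hint : ∀ g, MemLocalRing M (f g)) (h0 : ∀ g, H20.redC M (f g) = 0) :
    MemLocalRing M (avgChar χ f) ∧ H20.redC M (avgChar χ f) = 0 := by
  let b : MonoidAlgebra (H20.O M) G := H20.ofFun fun g => ⟨f g, hint g⟩
  have hb : H20.IsCl b := fun g y => by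
    simp only [b, H20.coeff_ofFun]
    exact Subtype.ext (hf g y)
  have he : H20.omega (χ : G → ℂ) (H20.emb b) = avgChar χ f := by
    simp [H20.omega, avgChar, b]
  refine ⟨he ▸ H20.memRing_omega χ hb, ?_⟩
  have hrd : H20.rd b = 0 := by
    ext g
    simp only [b, H20.coeff_rd, H20.coeff_ofFun, MonoidAlgebra.coeff_zero, Finsupp.coe_zero,
      Pi.zero_apply]
    rw [← H20.redC_coe]
    exact h0 g
  rw [← he, ← H20.lam_rd χ hb, hrd, H20.lam_zero]

theorem avgChar_sub (χ : IrrCharacter G) (f f' : G → ℂ) :
    avgChar χ (fun g => f g - f' g) = avgChar χ f - avgChar χ f' := by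
  simp only [avgChar, sub_mul, Finset.sum_sub_distrib, sub_div]

/-- The `b`-part of `χ(x·)` does not vanish on the `p`-regular elements of a subgroup centralising
`x`. -/
theorem subsection_part_ne_zero [hp : Fact p.Prime] (hM : IsPModular p M)
    {B : Set (IrrCharacter G)} (hB : IsPBlock M B) (χ : IrrCharacter G) (hχ : χ ∈ B)
    (h0 : blockHeight p B (χ : G → ℂ) = 0) (x : G) (hx : ∃ k : ℕ, orderOf x = p ^ k)
    (C : Subgroup G) [Fintype C] (hcomm : ∀ c : C, x * (c : G) = c * x)
    {b : Set (IrrCharacter C)} (hb : IsInducedBlock M C b B) :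
    ∃ y : C, ¬ p ∣ orderOf y ∧
      blockPart b (fun c : C => (χ : G → ℂ) (x * (c : G))) y ≠ 0 := by
  classical
  by_contra hne
  push Not at hne
  obtain ⟨ξ, hξ⟩ := hb.1
  have hξb : ξ ∈ b := by rw [hξ]; exact (show SameBlock M (ξ : C → ℂ) (ξ : C → ℂ) from H20.sameBlock_refl _)
  set ϑ : C → ℂ := fun c => (χ : G → ℂ) (x * (c : G)) with hϑ
  have hϑcl : IsClassFunction C ϑ := fun g h => by
    simp only [hϑ, Subgroup.coe_mul, Subgroup.coe_inv]
    have : x * ((h : G) * g * (h : G)⁻¹) = h * (x * g) * (h : G)⁻¹ := by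
      rw [← mul_assoc, ← mul_assoc, hcomm h]; group
    rw [this]
    exact H12.irr_isClassFunction χ _ _
  -- the inner product with the regular part of `ξ`
  have hzero : classInner ϑ (tilde p (ξ : C → ℂ)) = 0 := by
    have hcl := isClassFunction_tilde p (H12.irr_isClassFunction ξ)
    have e1 : classInner ϑ (tilde p (ξ : C → ℂ)) =
        ∑ φ : IrrCharacter C, classInner ϑ (φ : C → ℂ) *
          classInner (φ : C → ℂ) (tilde p (ξ : C → ℂ)) := by
      conv_lhs => rw [H12.classFunction_eq_sum hϑcl]
      rw [H12.classInner_sum_left]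
      simp only [H12.classInner_smul_left]
    have e2 : classInner (blockPart b ϑ) (tilde p (ξ : C → ℂ)) = classInner ϑ (tilde p (ξ : C → ℂ)) := by
      rw [e1]
      have hbp : blockPart b ϑ = ∑ φ : IrrCharacter C,
          (if φ ∈ b then classInner ϑ (φ : C → ℂ) else 0) • (φ : C → ℂ) := by
        funext g
        rw [H20.blockPart_eq_sum]
        simp only [Finset.sum_apply, Pi.smul_apply, smul_eq_mul, ite_mul, zero_mul]
      rw [hbp, H12.classInner_sum_left]
      refine Finset.sum_congr rfl fun φ _ => ?_
      rw [H12.classInner_smul_left]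
      split_ifs with h
      · rfl
      · rw [← H12.conj_classInner (tilde p (ξ : C → ℂ)),
          classInner_tilde_eq_zero hM hb.1 hξb h]
        simp
    rw [← e2]
    unfold classInner
    refine mul_eq_zero_of_right _ (Finset.sum_eq_zero fun g _ => ?_)
    by_cases hg : p ∣ orderOf g
    · simp [tilde, hg]
    · rw [hne g hg, zero_mul]
  have hsum : ∑ c : C, (if p ∣ orderOf c then 0 else conj (ϑ c)) * (ξ : C → ℂ) c = 0 := by
    unfold classInner at hzero
    have h1 := (mul_eq_zero.1 hzero).resolve_left (inv_ne_zero H12.card_ne_zero')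
    have h2 := congrArg conj h1
    rw [map_sum, map_zero] at h2
    have hpa : ((p ^ (Nat.card C).factorization p : ℕ) : ℂ) ≠ 0 :=
      Nat.cast_ne_zero.2 (pow_ne_zero _ hp.out.ne_zero)
    refine (mul_eq_zero.1 (Eq.trans ?_ h2)).resolve_left hpa
    rw [Finset.mul_sum]
    refine Finset.sum_congr rfl fun c _ => ?_
    rw [map_mul, Complex.conj_conj, tilde]
    split_ifs
    · simp
    · ring
  -- the two functions agree modulo `M`
  set f : C → ℂ := fun c => regConj p (χ : G → ℂ) c with hf
  set f' : C → ℂ := fun c => if p ∣ orderOf c then 0 else conj (ϑ c) with hf'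
  have hfcl : IsClassFunction C f := fun g h => by
    simp only [hf, Subgroup.coe_mul, Subgroup.coe_inv]
    exact isClassFunction_regConj p (H12.irr_isClassFunction χ) _ _
  have hf'cl : IsClassFunction C f' := fun g h => by
    have ho : orderOf (h * g * h⁻¹) = orderOf g :=
      ((SemiconjBy.orderOf_eq h (by simp [SemiconjBy, mul_assoc] :
        SemiconjBy h g (h * g * h⁻¹)))).symm
    simp only [hf', ho, hϑcl g h]
  have hfint : ∀ c, MemLocalRing M (f c) := fun c => memRing_regConj (H12.isCharacter_irr χ) _
  have hf'int : ∀ c, MemLocalRing M (f' c) := fun c => by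
    simp only [hf']
    split_ifs
    · exact H20.memRing_of_isIntegral isIntegral_zero
    · rw [hϑ, ← H12.conjIrr_apply]; exact H20.memRing_irr _ _
  have heq : ∀ c, H20.redC M (f c) = H20.redC M (f' c) := fun c => by
    simp only [hf, hf', regConj, Subgroup.orderOf_coe]
    split_ifs with hc
    · rfl
    · simp only [hϑ]
      rw [← H12.conjIrr_apply, ← H12.conjIrr_apply,
        H20.redC_irr_qPart hM (H12.conjIrr χ) (x * (c : G))]
      rw [← (H20.isPPart_unique' rfl (hcomm c) hx (by rwa [Subgroup.orderOf_coe])).2]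
  obtain ⟨hd, hd0⟩ := redC_avgChar_eq_zero (M := M) ξ (fun c => f c - f' c)
    (fun g h => by simp only [hfcl g h, hf'cl g h])
    (fun c => memRing_sub' (hfint c) (hf'int c))
    (fun c => by
      rw [H20.redC_eq_zero_iff (memRing_sub' (hfint c) (hf'int c)),
        ← H20.redC_eq_iff (hfint c) (hf'int c)]
      exact heq c)
  have hA : avgChar ξ f' = 0 := by
    rw [avgChar, hf']
    simp only
    rw [hsum, zero_div]
  rw [avgChar_sub, hA, sub_zero] at hd0
  have h1 := (redC_avgChar_induced hb hξb hχ (regConj p (χ : G → ℂ))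
    (isClassFunction_regConj p (H12.irr_isClassFunction χ))
    (memRing_regConj (H12.isCharacter_irr χ))).2
  exact (redC_avgChar_ne_zero_iff hM hB hχ hχ).2 h0 (h1.symm.trans hd0)

end H21
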