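import Cfsg.Agent.H21.UWeight

/-!
Words in the elements `n i` of a root group system with a parametrised torus: a word acting trivially
on the roots lies in the part of the torus belonging to the letters of the word.
-/

set_option autoImplicit false
set_option linter.unusedSectionVars false
set_option maxHeartbeats 200000

namespace H21.TW

open H53 (RootGroupSys)
open H53.RootGroupSys
open scoped Classical

variable {G : Type*} [Group G] {ι R : Type*} (S : RootGroupSys G ι R)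

/-- product of the `n`s along a word -/
def nL (L : List ι) : G := (L.map S.n).prod

/-- product of the simple permutations along a word -/
def pL (L : List ι) : Equiv.Perm R := (L.map S.σ).prod

variable {S}

theorem nL_nil : nL S [] = 1 := rfl
theorem pL_nil : pL S [] = 1 := rfl
theorem nL_cons (i : ι) (L : List ι) : nL S (i :: L) = S.n i * nL S L := by simp [nL]
theorem pL_cons (i : ι) (L : List ι) : pL S (i :: L) = S.σ i * pL S L := by simp [pL]
theorem nL_append (L L' : List ι) : nL S (L ++ L') = nL S L * nL S L' := by simp [nL]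
theorem pL_append (L L' : List ι) : pL S (L ++ L') = pL S L * pL S L' := by simp [pL]

theorem nL_mem_N : ∀ L : List ι, nL S L ∈ S.N
  | [] => one_mem _
  | i :: L => by rw [nL_cons]; exact mul_mem (n_mem_N i) (nL_mem_N L)

theorem pL_mem_W : ∀ L : List ι, pL S L ∈ S.W
  | [] => one_mem _
  | i :: L => by rw [pL_cons]; exact mul_mem (Subgroup.subset_closure ⟨i, rfl⟩) (pL_mem_W L)

variable (hS : S.Axioms)
include hS

theorem acts_nL : ∀ L : List ι, S.Acts (nL S L) (pL S L)
  | [] => acts_one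
  | i :: L => by rw [nL_cons, pL_cons]; exact acts_mul (acts_n hS i) (acts_nL L)

theorem pL_reverse (L : List ι) : pL S L.reverse = (pL S L)⁻¹ := by
  induction L with
  | nil => simp [pL]
  | cons i L ih =>
    rw [List.reverse_cons, pL_append, ih, pL_cons, pL_cons, pL_nil, mul_one, mul_inv_rev, sigma_inv hS]

theorem neg_neg_a (i : ι) : S.neg (S.neg (S.a i)) = S.a i := by
  conv_rhs => rw [← hS.sigma_sigma i (S.a i), hS.sigma_a, hS.sigma_neg, hS.sigma_a]

theorem split_pos : ∀ (L : List ι) (r : R), S.pos r → ¬ S.pos (pL S L r) →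
    ∃ A u M, L = A ++ u :: M ∧ pL S M r = S.a u
  | [], r, hr, h => absurd hr h
  | x :: L, r, hr, h => by
    by_cases h1 : S.pos (pL S L r)
    · refine ⟨[], x, L, rfl, ?_⟩
      rw [pL_cons, Equiv.Perm.mul_apply] at h
      exact sigma_eq_neg_a hS h1 h
    · obtain ⟨A, u, M, rfl, e⟩ := split_pos L r hr h1
      exact ⟨x :: A, u, M, rfl, e⟩

theorem split_neg : ∀ (L : List ι) (r : R), ¬ S.pos r → S.pos (pL S L r) →
    ∃ A u M, L = A ++ u :: M ∧ pL S M r = S.neg (S.a u)
  | [], r, hr, h => absurd h hr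
  | x :: L, r, hr, h => by
    by_cases h1 : S.pos (pL S L r)
    · obtain ⟨A, u, M, rfl, e⟩ := split_neg L r hr h1
      exact ⟨x :: A, u, M, rfl, e⟩
    · refine ⟨[], x, L, rfl, ?_⟩
      rw [pL_cons, Equiv.Perm.mul_apply] at h
      have e : S.σ x (pL S L r) = S.a x := sigma_eq_neg_a hS h (by rwa [hS.sigma_sigma])
      rw [← hS.sigma_sigma x (pL S L r), e, hS.sigma_a]

end H21.TW

namespace H21.TW

open H53 (RootGroupSys)
open H53.RootGroupSys

variable {G : Type*} [Group G] {ι R : Type*} [DecidableEq ι]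

/-- a parametrisation of the torus by `ι → Fˣ` with the rank-one relations -/
structure TorusData (S : RootGroupSys G ι R) (F : Type*) [Field F] where
  φ : (ι → Fˣ) →* G
  inj : Function.Injective φ
  range_eq : φ.range = S.H
  m : ι → ι → ℤ
  n_conj : ∀ i j t, S.n i * φ (Pi.mulSingle j t) * (S.n i)⁻¹ =
    φ (Pi.mulSingle i (t ^ m i j)) * φ (Pi.mulSingle j t)
  n_conj_self : ∀ i t, S.n i * φ (Pi.mulSingle i t) * (S.n i)⁻¹ = φ (Pi.mulSingle i t⁻¹)
  n_sq : ∀ i, S.n i * S.n i = φ (Pi.mulSingle i (-1))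
  X : ι → Fˣ → G
  X_mem : ∀ i u, X i u ∈ S.U (S.a i) ∧ X i u ≠ 1
  X_inj : ∀ i, Function.Injective (X i)
  X_surj : ∀ i, ∀ x ∈ S.U (S.a i), x ≠ 1 → ∃ u, X i u = x
  rankone : ∀ i u, ∃ x₁ ∈ S.U (S.a i), ∃ x₂ ∈ S.U (S.a i),
    S.n i * X i u * (S.n i)⁻¹ = x₁ * φ (Pi.mulSingle i u) * S.n i * x₂
  conj_root : ∀ L i j, pL S L (S.a j) = S.a i →
    nL S L * S.n j * (nL S L)⁻¹ = S.n i ∨ nL S L * S.n j * (nL S L)⁻¹ = (S.n i)⁻¹
  indep : ∀ L i u, i ∉ L → i ≠ u → pL S L (S.a i) ≠ S.a u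

variable {S : RootGroupSys G ι R} {F : Type*} [Field F] (D : TorusData S F)

/-- the torus element at `i` -/
def TorusData.h (i : ι) (t : Fˣ) : G := D.φ (Pi.mulSingle i t)

theorem TorusData.h_mem (i : ι) (t : Fˣ) : D.h i t ∈ S.H := D.range_eq ▸ ⟨_, rfl⟩

/-- the subtorus of a set of letters -/
def TorusData.HK (K : Finset ι) : Subgroup G := Subgroup.closure {g | ∃ i ∈ K, ∃ t, g = D.h i t}

theorem TorusData.HK_le (K : Finset ι) : D.HK K ≤ S.H := by
  refine (Subgroup.closure_le _).2 ?_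
  rintro _ ⟨i, -, t, rfl⟩
  exact D.h_mem i t

theorem TorusData.n_sq_mem {K : Finset ι} {i : ι} (hi : i ∈ K) : S.n i * S.n i ∈ D.HK K :=
  Subgroup.subset_closure ⟨i, hi, -1, D.n_sq i⟩

theorem TorusData.n_conj_HK {K : Finset ι} {i : ι} (hi : i ∈ K) {g : G} (hg : g ∈ D.HK K) :
    S.n i * g * (S.n i)⁻¹ ∈ D.HK K := by
  have hle : (D.HK K).map (MulAut.conj (S.n i)).toMonoidHom ≤ D.HK K := by
    rw [TorusData.HK, MonoidHom.map_closure, Subgroup.closure_le]
    rintro _ ⟨_, ⟨j, hj, t, rfl⟩, rfl⟩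
    show S.n i * D.φ (Pi.mulSingle j t) * (S.n i)⁻¹ ∈ D.HK K
    rw [D.n_conj]
    exact mul_mem (Subgroup.subset_closure ⟨i, hi, _, rfl⟩) (Subgroup.subset_closure ⟨j, hj, _, rfl⟩)
  exact hle ⟨g, hg, rfl⟩

theorem TorusData.nL_conj_HK {K : Finset ι} : ∀ (L : List ι), (∀ x ∈ L, x ∈ K) → ∀ {g : G}, g ∈ D.HK K →
    nL S L * g * (nL S L)⁻¹ ∈ D.HK K
  | [], _, g, hg => by simpa [nL] using hg
  | i :: L, hL, g, hg => by
    rw [nL_cons, show S.n i * nL S L * g * (S.n i * nL S L)⁻¹ =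
      S.n i * (nL S L * g * (nL S L)⁻¹) * (S.n i)⁻¹ by group]
    exact D.n_conj_HK (hL i List.mem_cons_self)
      (TorusData.nL_conj_HK L (fun x hx => hL x (List.mem_cons_of_mem _ hx)) hg)

variable (hS : S.Axioms) (hsep : Sep S)
include hS hsep

theorem TorusData.nL_mem_HK {K : Finset ι} (L : List ι) (hL : ∀ x ∈ L, x ∈ K) (h1 : pL S L = 1) :
    nL S L ∈ D.HK K := by
  induction hk : L.length using Nat.strong_induction_on generalizing L with
  | _ k ih =>
  rcases L.eq_nil_or_concat with rfl | ⟨L', s, rfl⟩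
  · exact one_mem _
  rw [List.concat_eq_append] at hL h1 hk ⊢
  have e1 : pL S L' (S.neg (S.a s)) = S.a s := by
    have := Equiv.Perm.congr_fun h1 (S.a s)
    rwa [pL_append, pL_cons, pL_nil, mul_one, Equiv.Perm.mul_apply, hS.sigma_a] at this
  obtain ⟨A, u, M, rfl, e2⟩ := split_neg hS L' _ (pos_neg_a hS s) (e1.symm ▸ hS.pos_a s)
  have e3 : pL S M (S.a s) = S.a u := by
    rw [← neg_neg_a hS s, W_neg hS (pL_mem_W M), e2, neg_neg_a hS]
  have hu : u ∈ K := hL u (by simp)
  have hA : ∀ x ∈ A, x ∈ K := fun x hx => hL x (by simp [hx])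
  have hM : ∀ x ∈ M, x ∈ K := fun x hx => hL x (by simp [hx])
  have hh : S.n u * (nL S M * S.n s * (nL S M)⁻¹) ∈ D.HK K := by
    rcases D.conj_root M u s e3 with e | e <;> rw [e]
    · exact D.n_sq_mem hu
    · rw [mul_inv_cancel]; exact one_mem _
  set h := nL S A * (S.n u * (nL S M * S.n s * (nL S M)⁻¹)) * (nL S A)⁻¹ with hhd
  have hh' : h ∈ D.HK K := D.nL_conj_HK A hA hh
  have e4 : nL S (A ++ u :: M ++ [s]) = h * nL S (A ++ M) := by
    rw [hhd, nL_append, nL_append, nL_append, nL_cons, nL_cons, nL_nil]; group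
  have h5 : pL S (A ++ M) = 1 := by
    have ha : S.Acts (h⁻¹ * nL S (A ++ u :: M ++ [s])) (1 * 1) :=
      acts_mul (acts_H hS (inv_mem (D.HK_le K hh'))) (h1 ▸ acts_nL hS _)
    rw [e4, inv_mul_cancel_left, one_mul] at ha
    exact acts_unique hS hsep (acts_nL hS _) ha
  rw [e4]
  refine mul_mem hh' (ih (A ++ M).length ?_ _ (fun x hx => ?_) h5 rfl)
  · rw [← hk]; simp
  · rcases List.mem_append.1 hx with hx | hx
    exacts [hA x hx, hM x hx]

theorem TorusData.nL_div_mem_HK {K : Finset ι} {L L' : List ι} (hL : ∀ x ∈ L, x ∈ K)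
    (hL' : ∀ x ∈ L', x ∈ K) (h : pL S L = pL S L') : nL S L * (nL S L')⁻¹ ∈ D.HK K := by
  have hr : ∀ x ∈ L'.reverse, x ∈ K := fun x hx => hL' x (List.mem_reverse.1 hx)
  have h1 := D.nL_mem_HK hS hsep (K := K) (L ++ L'.reverse)
    (fun x hx => (List.mem_append.1 hx).elim (hL x) (hr x))
    (by rw [pL_append, pL_reverse hS, h, mul_inv_cancel])
  have h2 := D.nL_mem_HK hS hsep (K := K) (L' ++ L'.reverse)
    (fun x hx => (List.mem_append.1 hx).elim (hL' x) (hr x))
    (by rw [pL_append, pL_reverse hS, mul_inv_cancel])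
  rw [nL_append] at h1 h2
  have := mul_mem h1 (inv_mem h2)
  rwa [show nL S L * nL S L'.reverse * (nL S L' * nL S L'.reverse)⁻¹ = nL S L * (nL S L')⁻¹ by group] at this

include D in
omit hsep in
theorem TorusData.pL_pos {L : List ι} {i : ι} (hi : i ∉ L) : S.pos (pL S L (S.a i)) := by
  by_contra h
  obtain ⟨A, u, M, rfl, e⟩ := split_pos hS L _ (hS.pos_a i) h
  exact D.indep M i u (fun h' => hi (by simp [h'])) (fun h' => hi (by simp [h'])) e

end H21.TW
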