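import Cfsg.Agent.H66.BorelTits
import Cfsg.Agent.H52.RootCount

/-!
The optimal parabolic of a subgroup fixed by an automorphism permuting the root subgroups, and the
order of a standard parabolic subgroup.
-/

set_option autoImplicit false
set_option linter.unusedSectionVars false
set_option maxHeartbeats 200000

namespace H21.TwBT

open H53 H66.BT

variable {G : Type*} [Group G] {ι R : Type*} {S : RootGroupSys G ι R} (hS : S.Axioms)
  (hsep : RootGroupSys.Sep S) (Γ : Coweights S)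

include hS hsep in
/-- Dominant functionals in one orbit are equal. -/
theorem dom_unique [Finite R] {f : R → ℝ} (hf : f ∈ Γ.space) (hd : Dom S f) :
    ∀ {π : Equiv.Perm R}, π ∈ S.W → Dom S (fun r => f (π r)) → ∀ r, f (π r) = f r := by
  intro π hπ
  induction hk : H52.invCard S π using Nat.strong_induction_on generalizing π with
  | _ k ih =>
  intro hd' r
  by_cases hex : ∃ r, S.pos r ∧ ¬ S.pos (π r)
  swap
  · push Not at hex
    rw [hsep.fix π hπ hex, Equiv.Perm.one_apply]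
  obtain ⟨i, hi⟩ := hS.descent π hπ hex
  have h0 : f (π (S.a i)) = 0 := by
    refine le_antisymm ?_ (hd' i)
    have h1 := Γ.dom_pos f hf hd _ ((hS.pos_neg _).2 hi)
    rw [Γ.neg_val f hf] at h1
    linarith
  have hσ : ∀ s, f (π (S.σ i s)) = f (π s) := fun s =>
    Γ.refl (fun t => f (π t)) (comp_mem hS Γ hπ hf) i h0 s
  have hlt : H52.invCard S (π * S.σ i) < k := by
    have := H52.invCard_step hS hπ hi
    omega
  have h := ih _ hlt (mul_mem hπ (Subgroup.subset_closure ⟨i, rfl⟩)) rfl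
    (fun j => by simpa [hσ] using hd' j) r
  simpa [hσ] using h

/-- A pair moving `X` into the radical of a dominant functional. -/
def Good (X : Subgroup G) (g : G) (f : R → ℝ) : Prop :=
  f ∈ Γ.space ∧ Dom S f ∧ ∀ x ∈ X, g⁻¹ * x * g ∈ cut S {f}

include hS hsep in
/-- Two optimal pairs differ by an element of the Weyl group carrying one functional to the other. -/
theorem optimal_pair [Fintype R] {X : Subgroup G} {g g' : G} {f f' : R → ℝ}
    (hg : Good Γ X g f) (hg' : Good Γ X g' f')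
    (hmin : ∀ k e, Good Γ X k e → ∑ r, f r ^ 2 ≤ ∑ r, e r ^ 2)
    (heq : ∑ r, f' r ^ 2 = ∑ r, f r ^ 2) :
    f' = f ∧ g⁻¹ * g' ∈ par S f := by
  obtain ⟨hf, hd, hXf⟩ := hg
  obtain ⟨hf₁, hd₁, hXf₁⟩ := hg'
  obtain ⟨b, hb, w, hw, b', hb', hh⟩ := RootGroupSys.exists_BNB hS (g⁻¹ * g')
  obtain ⟨π, hπ⟩ := RootGroupSys.exists_acts hS hw
  have h1 : ∀ x ∈ X, (g * b)⁻¹ * x * (g * b) ∈ cut S {f} := by
    intro x hx
    have := conj_cut_of_mem_B hS Γ hf hd (inv_mem hb) (hXf x hx)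
    simpa [mul_assoc] using this
  have h2 : ∀ x ∈ X, (g * b * w)⁻¹ * x * (g * b * w) ∈ cut S {f'} := by
    intro x hx
    have he : g * b * w = g' * b'⁻¹ := by
      calc g * b * w = g * (b * w * b') * b'⁻¹ := by group
        _ = g' * b'⁻¹ := by rw [← hh]; group
    have := conj_cut_of_mem_B hS Γ hf₁ hd₁ hb' (hXf₁ x hx)
    rw [he]
    convert this using 1
    group
  set f'' : R → ℝ := fun r => f' (π⁻¹ r) with hf''def
  have hf'' : f'' ∈ Γ.space := comp_mem hS Γ (inv_mem hπ.1) hf₁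
  have h3 : ∀ x ∈ X, (g * b)⁻¹ * x * (g * b) ∈ cut S ({f} ∪ {f''}) := by
    intro x hx
    set y := (g * b * w)⁻¹ * x * (g * b * w)
    have hwy : w * y * w⁻¹ = (g * b)⁻¹ * x * (g * b) := by simp only [y]; group
    have hy1 := cut_le _ (h2 x hx)
    have hwyU : w * y * w⁻¹ ∈ S.Uplus := hwy ▸ cut_le _ (h1 x hx)
    have hm := mem_cut_of_conj hS hsep Γ hπ hy1 hwyU
    have hm2 := Γ.inter {f'} (Set.singleton_subset_iff.2 hf₁) {fun r => Γ.height (π r)}
      (Set.singleton_subset_iff.2 (comp_mem hS Γ hπ.1 Γ.height_mem)) ⟨h2 x hx, hm⟩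
    have hmap : (cut S ({f'} ∪ {fun r => Γ.height (π r)})).map (MulAut.conj w).toMonoidHom ≤
        cut S {f''} := by
      rw [cut, MonoidHom.map_closure, Subgroup.closure_le]
      rintro _ ⟨z, ⟨r, hr, hL, hz⟩, rfl⟩
      refine Subgroup.subset_closure ⟨π r, (Γ.pos_iff _).2 (hL _ (Or.inr rfl)), fun l hl => ?_,
        RootGroupSys.acts_conj_mem hπ hz⟩
      rw [Set.mem_singleton_iff.1 hl]
      show 1 ≤ f' (π⁻¹ (π r))
      rw [← Equiv.Perm.mul_apply, inv_mul_cancel]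
      exact hL f' (Or.inl rfl)
    exact Γ.inter {f} (Set.singleton_subset_iff.2 hf) {f''} (Set.singleton_subset_iff.2 hf'')
      ⟨h1 x hx, hwy ▸ hmap ⟨y, hm2, rfl⟩⟩
  set μ : R → ℝ := (1 / 2 : ℝ) • (f + f'') with hμdef
  have hμ : μ ∈ Γ.space := Γ.space.smul_mem _ (add_mem hf hf'')
  obtain ⟨τ, hτ, hτd⟩ := exists_dom hS Γ hμ
  obtain ⟨v, hv, hvτ⟩ := exists_acts_of_mem hS hτ
  have hμτ := comp_mem hS Γ hτ hμ
  have h4 : ∀ x ∈ X, (g * b * v)⁻¹ * x * (g * b * v) ∈ cut S {fun r => μ (τ r)} := by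
    intro x hx
    have hmap : (cut S ({f} ∪ {f''})).map (MulAut.conj v⁻¹).toMonoidHom ≤
        cut S {fun r => μ (τ r)} := by
      rw [cut, MonoidHom.map_closure, Subgroup.closure_le]
      rintro _ ⟨z, ⟨r, -, hL, hz⟩, rfl⟩
      have hr1 : 1 ≤ μ (τ (τ⁻¹ r)) := by
        rw [← Equiv.Perm.mul_apply, mul_inv_cancel, Equiv.Perm.one_apply, hμdef]
        simp only [Pi.smul_apply, Pi.add_apply, smul_eq_mul]
        have ha := hL f (Or.inl rfl)
        have hb := hL f'' (Or.inr rfl)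
        linarith
      refine Subgroup.subset_closure ⟨τ⁻¹ r,
        pos_of_val hS Γ hμτ hτd (lt_of_lt_of_le one_pos hr1), fun l hl => ?_,
        RootGroupSys.acts_conj_mem (RootGroupSys.acts_inv hvτ) hz⟩
      rw [Set.mem_singleton_iff.1 hl]
      exact hr1
    have := hmap ⟨_, h3 x hx, rfl⟩
    convert this using 1
    simp only [MulEquiv.coe_toMonoidHom, MulAut.conj_apply]
    group
  have h5 := hmin (g * b * v) _ ⟨hμτ, hτd, h4⟩
  rw [Equiv.sum_comp τ (fun r => μ r ^ 2)] at h5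
  have h6 : ∑ r, f'' r ^ 2 = ∑ r, f r ^ 2 := (Equiv.sum_comp π⁻¹ (fun r => f' r ^ 2)).trans heq
  have h7 : ∑ r, (f r - f'' r) ^ 2 ≤ 0 := by
    have e : ∀ r, (f r - f'' r) ^ 2 = 2 * f r ^ 2 + 2 * f'' r ^ 2 - 4 * μ r ^ 2 := by
      intro r
      simp only [hμdef, Pi.smul_apply, Pi.add_apply, smul_eq_mul]
      ring
    simp only [e, Finset.sum_sub_distrib, Finset.sum_add_distrib, ← Finset.mul_sum]
    linarith
  have h8 : ∀ r, f' (π⁻¹ r) = f r := by
    intro r
    have := (Finset.sum_eq_zero_iff_of_nonneg fun r _ => sq_nonneg (f r - f'' r)).1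
      (le_antisymm h7 (Finset.sum_nonneg fun r _ => sq_nonneg _)) r (Finset.mem_univ r)
    rw [sq_eq_zero_iff, sub_eq_zero] at this
    exact this.symm
  have hff : f' = f := funext fun r =>
    ((dom_unique hS hsep Γ hf₁ hd₁ (inv_mem hπ.1) (fun i => by simpa only [h8] using hd i) r).symm).trans (h8 r)
  refine ⟨hff, ?_⟩
  subst hff
  have hwpar : w ∈ par S f' := mem_par hS hsep Γ hf hd hw hπ fun r => by
    have := h8 (π r)
    rw [← Equiv.Perm.mul_apply, inv_mul_cancel, Equiv.Perm.one_apply] at this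
    exact this.symm
  rw [hh]
  exact mul_mem (mul_mem (Subgroup.mem_sup_left hb) hwpar) (Subgroup.mem_sup_left hb')

include hS hsep in
/-- A subgroup fixed pointwise by an automorphism permuting the root subgroups has an invariant optimal
functional. -/
theorem exists_invariant [Finite G] [Fintype R] (τ : G ≃* G) (ρ : Equiv.Perm R)
    (hU : ∀ r, (S.U r).map τ.toMonoidHom = S.U (ρ r)) (hpos : ∀ r, S.pos (ρ r) ↔ S.pos r)
    (hspace : ∀ f ∈ Γ.space, (fun r => f (ρ.symm r)) ∈ Γ.space)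
    (hsimple : ∀ i, ∃ j, ρ.symm (S.a i) = S.a j)
    {X : Subgroup G} (hX : X ≠ ⊥) (hfix : ∀ x ∈ X, τ x = x) {c : G}
    (hc : ∀ x ∈ X, c⁻¹ * x * c ∈ S.Uplus) :
    ∃ g : G, ∃ f ∈ Γ.space, Dom S f ∧ f ≠ 0 ∧ (∀ r, f (ρ r) = f r) ∧
      ∀ n ∈ Subgroup.normalizer (X : Set G), g⁻¹ * n * g ∈ par S f := by
  obtain ⟨g, f, hf, hd, hXf, hmin⟩ := exists_min hS Γ hc
  have hg : Good Γ X g f := ⟨hf, hd, hXf⟩
  have hmin' : ∀ k e, Good Γ X k e → ∑ r, f r ^ 2 ≤ ∑ r, e r ^ 2 :=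
    fun k e h => hmin k e h.1 h.2.1 h.2.2
  have hf0 : f ≠ 0 := by
    rintro rfl
    refine hX ((Subgroup.eq_bot_iff_forall X).2 fun x hx => ?_)
    have h1 : cut S ({0} : Set (R → ℝ)) = ⊥ := by
      rw [cut, Subgroup.closure_eq_bot_iff]
      rintro y ⟨r, -, hL, -⟩
      have := hL 0 rfl
      simp only [Pi.zero_apply] at this
      linarith
    have h2 := hXf x hx
    rw [h1, Subgroup.mem_bot] at h2
    calc x = g * (g⁻¹ * x * g) * g⁻¹ := by group
      _ = 1 := by rw [h2]; group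
  have hτcut : (cut S {f}).map τ.toMonoidHom ≤ cut S {fun r => f (ρ.symm r)} := by
    rw [cut, MonoidHom.map_closure, Subgroup.closure_le]
    rintro _ ⟨z, ⟨r, hr, hL, hz⟩, rfl⟩
    refine Subgroup.subset_closure ⟨ρ r, (hpos r).2 hr, fun l hl => ?_, hU r ▸ ⟨z, hz, rfl⟩⟩
    rw [Set.mem_singleton_iff.1 hl]
    simpa using hL f rfl
  have hg₁ : Good Γ X (τ g) (fun r => f (ρ.symm r)) := by
    refine ⟨hspace f hf, fun i => ?_, fun x hx => ?_⟩
    · obtain ⟨j, hj⟩ := hsimple i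
      show 0 ≤ f (ρ.symm (S.a i))
      rw [hj]
      exact hd j
    · have := hτcut ⟨_, hXf x hx, rfl⟩
      simpa [hfix x hx] using this
  have hρf := (optimal_pair hS hsep Γ hg hg₁ hmin' (Equiv.sum_comp ρ.symm fun r => f r ^ 2)).1
  refine ⟨g, f, hf, hd, hf0, fun r => ?_, fun n hn => ?_⟩
  · simpa using (congrFun hρf (ρ r)).symm
  · have hn' : Good Γ X (n * g) f := ⟨hf, hd, fun x hx => by
      have := hXf _ ((Subgroup.mem_normalizer_iff''.1 hn x).1 hx)
      simpa [mul_assoc] using this⟩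
    have := (optimal_pair hS hsep Γ hg hn' hmin' rfl).2
    simpa [mul_assoc] using this

/-- The standard parabolic subgroup of a set of simple roots. -/
def parJ (S : RootGroupSys G ι R) (J : Set ι) : Subgroup G := S.B ⊔ Subgroup.closure (S.n '' J)

include hS hsep in
/-- `|P_J| = |B| ∑_{π ∈ W_J} |U_π⁻|`. -/
theorem card_parJ [Finite R] [Finite G] (J : Set ι)
    [Fintype (Subgroup.closure (S.σ '' J) : Subgroup (Equiv.Perm R))] :
    Nat.card (parJ S J) = Nat.card S.B *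
      ∑ π : (Subgroup.closure (S.σ '' J) : Subgroup (Equiv.Perm R)), Nat.card (S.Uinv π.1) := by
  classical
  set WJ : Subgroup (Equiv.Perm R) := Subgroup.closure (S.σ '' J) with hWJ
  have hle : WJ ≤ S.W := Subgroup.closure_mono (Set.image_subset_range _ _)
  have hex : ∀ π : WJ, ∃ w ∈ S.N, w ∈ parJ S J ∧ S.Acts w π.1 := by
    rintro ⟨π, hπ⟩
    refine Subgroup.closure_induction (p := fun π _ => ∃ w ∈ S.N, w ∈ parJ S J ∧ S.Acts w π) ?_
      ⟨1, one_mem _, one_mem _, RootGroupSys.acts_one⟩ ?_ ?_ hπ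
    · rintro _ ⟨i, hi, rfl⟩
      exact ⟨S.n i, RootGroupSys.n_mem_N i,
        Subgroup.mem_sup_right (Subgroup.subset_closure ⟨i, hi, rfl⟩), RootGroupSys.acts_n hS i⟩
    · rintro _ _ _ _ ⟨w, hw, hwP, h⟩ ⟨w', hw', hwP', h'⟩
      exact ⟨w * w', mul_mem hw hw', mul_mem hwP hwP', RootGroupSys.acts_mul h h'⟩
    · rintro _ _ ⟨w, hw, hwP, h⟩
      exact ⟨w⁻¹, inv_mem hw, inv_mem hwP, RootGroupSys.acts_inv h⟩
  choose wr hwN hwP hwA using hex
  let p : G → Prop := fun g => ∃ b ∈ S.B, ∃ w ∈ S.N, ∃ π : WJ, S.Acts w π.1 ∧ ∃ b' ∈ S.B, g = b * w * b'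
  have hB : ∀ z ∈ S.B, ∀ g, p g → p (z * g) := by
    rintro z hz _ ⟨b, hb, w, hw, π, hπ, b', hb', rfl⟩
    exact ⟨z * b, mul_mem hz hb, w, hw, π, hπ, b', hb', by group⟩
  have hn : ∀ i ∈ J, ∀ g, p g → p (S.n i * g) := by
    rintro i hi _ ⟨b, hb, w, hw, π, hπ, b', hb', rfl⟩
    rcases RootGroupSys.bn_axiom hS i hw hb with h | h <;>
      obtain ⟨c, hc, c', hc', he⟩ := DoubleCoset.mem_doubleCoset.1 h
    · exact ⟨c, hc, S.n i * w, mul_mem (RootGroupSys.n_mem_N i) hw,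
        ⟨S.σ i * π.1, mul_mem (Subgroup.subset_closure ⟨i, hi, rfl⟩) π.2⟩,
        RootGroupSys.acts_mul (RootGroupSys.acts_n hS i) hπ, c' * b', mul_mem hc' hb', by
        rw [show S.n i * (b * w * b') = S.n i * b * w * b' by group, he]; group⟩
    · exact ⟨c, hc, w, hw, π, hπ, c' * b', mul_mem hc' hb', by
        rw [show S.n i * (b * w * b') = S.n i * b * w * b' by group, he]; group⟩
  have hall : ∀ x ∈ parJ S J, p x := by
    intro x hx
    have hx' : x ∈ Subgroup.closure ((S.B : Set G) ∪ S.n '' J) := by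
      rwa [Subgroup.closure_union, Subgroup.closure_eq]
    have h1 : p 1 := ⟨1, one_mem _, 1, one_mem _, 1, RootGroupSys.acts_one, 1, one_mem _, by group⟩
    have := (Subgroup.closure_induction (p := fun x _ => (∀ g, p g → p (x * g)) ∧ ∀ g, p g → p (x⁻¹ * g))
      ?_ ?_ ?_ ?_ hx').1 1 h1
    · simpa using this
    · rintro z (hz | ⟨i, hi, rfl⟩)
      · exact ⟨hB z hz, hB _ (inv_mem hz)⟩
      · refine ⟨hn i hi, fun g hg => ?_⟩
        obtain ⟨h, hh, he⟩ := RootGroupSys.n_inv_eq hS i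
        rw [he, mul_assoc]
        exact hB h (RootGroupSys.H_le_B hh) _ (hn i hi g hg)
    · exact ⟨fun g hg => by simpa using hg, fun g hg => by simpa using hg⟩
    · rintro x y _ _ ⟨hx, hx'⟩ ⟨hy, hy'⟩
      exact ⟨fun g hg => by rw [mul_assoc]; exact hx _ (hy g hg),
        fun g hg => by rw [mul_inv_rev, mul_assoc]; exact hy' _ (hx' g hg)⟩
    · rintro x _ ⟨hx, hx'⟩
      exact ⟨hx', by simpa using hx⟩
  have hUle : ∀ π : WJ, S.Uinv π.1 ≤ parJ S J := fun π =>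
    ((RootGroupSys.Uinv_le_Uplus π.1).trans RootGroupSys.Uplus_le_B).trans le_sup_left
  let f : (Σ π : WJ, ↥S.B × ↥(S.Uinv π.1)) → ↥(parJ S J) := fun x =>
    ⟨x.2.1.1 * wr x.1 * x.2.2.1,
      mul_mem (mul_mem (Subgroup.mem_sup_left x.2.1.2) (hwP _)) (hUle _ x.2.2.2)⟩
  have hf : Function.Bijective f := by
    constructor
    · rintro ⟨π, ⟨b, hb⟩, ⟨u, hu⟩⟩ ⟨π', ⟨b', hb'⟩, ⟨u', hu'⟩⟩ e
      have e' : b * wr π * u = b' * wr π' * u' := congrArg Subtype.val e
      obtain ⟨hH, huniq⟩ := RootGroupSys.normal_form_unique hS hsep (hwN π) (hwN π') (hwA π) (hwA π')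
        hb hb' hu hu' e'
      obtain rfl : π = π' := by
        have h1 := RootGroupSys.acts_mul (hwA π) (RootGroupSys.acts_H hS hH)
        rw [mul_inv_cancel_left, mul_one] at h1
        exact Subtype.ext (RootGroupSys.acts_unique hS hsep h1 (hwA π'))
      obtain ⟨rfl, rfl⟩ := huniq rfl
      rfl
    · rintro ⟨g, hg⟩
      obtain ⟨b, hb, w, hw, π, hπ, b', hb', rfl⟩ := hall g hg
      obtain ⟨u, hu, h, hh, rfl⟩ := RootGroupSys.mem_B hS hb'
      have hw' : w * h * (wr π)⁻¹ ∈ S.H := RootGroupSys.mem_H_of_acts_one hS hsep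
        (mul_mem (mul_mem hw (RootGroupSys.H_le_N hh)) (inv_mem (hwN π)))
        (by simpa using RootGroupSys.acts_mul (RootGroupSys.acts_mul hπ (RootGroupSys.acts_H hS hh))
              (RootGroupSys.acts_inv (hwA π)))
      obtain ⟨v, _, q, hq, hvq, hwv⟩ := RootGroupSys.Uplus_factor hS (hwA π)
        (RootGroupSys.H_conj_Uplus hS (inv_mem hh) hu)
      refine ⟨⟨π, ⟨b * (w * h * (wr π)⁻¹) * (wr π * v * (wr π)⁻¹),
        mul_mem (mul_mem hb (RootGroupSys.H_le_B hw')) (RootGroupSys.Uplus_le_B hwv)⟩, ⟨q, hq⟩⟩,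
        Subtype.ext ?_⟩
      show b * (w * h * (wr π)⁻¹) * (wr π * v * (wr π)⁻¹) * wr π * q = b * w * (u * h)
      calc b * (w * h * (wr π)⁻¹) * (wr π * v * (wr π)⁻¹) * wr π * q = b * w * h * (v * q) := by group
        _ = _ := by rw [← hvq]; group
  rw [← Nat.card_congr (Equiv.ofBijective f hf), Nat.card_sigma, Finset.mul_sum]
  exact Finset.sum_congr (by ext; simp) fun π _ => Nat.card_prod _ _

end H21.TwBT
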