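import Cfsg.Agent.H21.TwoDegrees
import Cfsg.Agent.H13.Gallagher
import Cfsg.Agent.H14.LinExt
import Cfsg.Agent.H61.WielandtBound
import Mathlib.GroupTheory.SchurZassenhaus
import Mathlib.GroupTheory.Sylow

/-!
The structure of groups with two character degrees.
-/

set_option autoImplicit false
set_option linter.style.haveILetI false
set_option linter.unusedSectionVars false

open Cfsg H13

namespace H21

universe u

/-- The subgroup fixing a point of an action by automorphisms. -/
def autFixer {Q X : Type*} [Group Q] [Mul X] (φ : Q →* MulAut X) (x : X) : Subgroup Q where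
  carrier := {q | φ q x = x}
  one_mem' := by simp
  mul_mem' {a b} (ha : φ a x = x) (hb : φ b x = x) := by
    show φ (a * b) x = x
    rw [map_mul, MulAut.mul_apply, hb, ha]
  inv_mem' {a} (ha : φ a x = x) := by
    show φ a⁻¹ x = x
    conv_lhs => rw [← ha]
    rw [map_inv, MulAut.inv_apply_self]

theorem eq_one_of_pow_coprime {X : Type*} [Group X] [Finite X] {x : X} {n : ℕ}
    (h : x ^ n = 1) (hc : n.Coprime (Nat.card X)) : x = 1 := by
  rw [← orderOf_eq_one_iff]
  exact Nat.eq_one_of_dvd_coprimes hc (orderOf_dvd_of_pow_eq_one h) (orderOf_dvd_natCard x)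

/-- A coprime commutative action in which all stabilisers of moved points have the same order:
the stabiliser of a moved point acts trivially. -/
theorem autFixer_acts_trivially {Q X : Type*} [Group Q] [Finite Q] [CommGroup X] [Finite X]
    (φ : Q →* MulAut X) (hcop : (Nat.card Q).Coprime (Nat.card X))
    (hcomm : ∀ a b : Q, φ a * φ b = φ b * φ a)
    (hcard : ∀ x y : X, autFixer φ x ≠ ⊤ → autFixer φ y ≠ ⊤ →
      Nat.card (autFixer φ x) = Nat.card (autFixer φ y))
    {x₁ : X} (hx₁ : autFixer φ x₁ ≠ ⊤) : ∀ k ∈ autFixer φ x₁, ∀ x : X, φ k x = x := by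
  classical
  intro k hk x
  set K := autFixer φ x₁ with hK
  haveI := Fintype.ofFinite K
  set r := Nat.card K with hr
  have hcopr : r.Coprime (Nat.card X) :=
    Nat.Coprime.coprime_dvd_left (Subgroup.card_subgroup_dvd_card K) hcop
  let Nm : X →* X := ∏ q : K, (φ (q : Q)).toMonoidHom
  have hNm : ∀ z, Nm z = ∏ q : K, φ (q : Q) z := fun z => MonoidHom.finsetProd_apply _ _ z
  have hcomm' : ∀ a b : Q, ∀ z, φ a (φ b z) = φ b (φ a z) := fun a b z => by
    rw [← MulAut.mul_apply, hcomm, MulAut.mul_apply]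
  have heq : ∀ (g : Q) z, φ g (Nm z) = Nm (φ g z) := fun g z => by
    rw [hNm, hNm, map_prod]
    exact Finset.prod_congr rfl fun q _ => hcomm' g q z
  have hfixN : ∀ (g : K) z, φ (g : Q) (Nm z) = Nm z := fun g z => by
    rw [hNm, map_prod]
    refine Fintype.prod_equiv (Equiv.mulLeft g) _ _ fun q => ?_
    rw [Equiv.coe_mulLeft, Subgroup.coe_mul, map_mul, MulAut.mul_apply]
  have hpow : ∀ z, (∀ g : K, φ (g : Q) z = z) → Nm z = z ^ r := fun z hz => by
    rw [hNm, Finset.prod_congr rfl (fun q _ => hz q), Finset.prod_const, Finset.card_univ, hr,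
      Nat.card_eq_fintype_card]
  set y := x ^ r / Nm x with hy
  have hNy : Nm y = 1 := by
    rw [hy, map_div, map_pow, hpow (Nm x) (fun g => hfixN g x), div_self']
  have hy1 : y = 1 := by
    by_contra hne
    have hyK : ¬ ∀ g : K, φ (g : Q) y = y := fun h =>
      hne (eq_one_of_pow_coprime ((hpow y h).symm.trans hNy) hcopr)
    have hytop : autFixer φ y ≠ ⊤ := fun h => hyK fun g =>
      (show (g : Q) ∈ autFixer φ y from h ▸ Subgroup.mem_top _)
    have hsub : ∀ g ∈ autFixer φ (x₁ * y), g ∈ K ∧ g ∈ autFixer φ y := by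
      intro g hg
      have hg' : φ g x₁ * φ g y = x₁ * y := by rw [← map_mul]; exact hg
      have h1 := congrArg Nm hg'
      rw [map_mul, map_mul, hNy, ← heq g y, hNy, map_one, mul_one, mul_one, ← heq g x₁,
        hpow x₁ (fun q => q.2), map_pow] at h1
      have hgx : φ g x₁ = x₁ := by
        have h2 : (φ g x₁ / x₁) ^ r = 1 := by rw [div_pow, h1, div_self']
        exact div_eq_one.1 (eq_one_of_pow_coprime h2 hcopr)
      exact ⟨hgx, mul_left_cancel (by rwa [hgx] at hg')⟩
    have htop : autFixer φ (x₁ * y) ≠ ⊤ := fun h => hx₁ (eq_top_iff.2 fun g _ =>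
      (hsub g (h ▸ Subgroup.mem_top g)).1)
    have hle : autFixer φ (x₁ * y) ≤ K := fun g hg => (hsub g hg).1
    have heK : autFixer φ (x₁ * y) = K :=
      Subgroup.eq_of_le_of_card_ge hle (le_of_eq (hcard x₁ (x₁ * y) hx₁ htop))
    exact hyK fun g => (hsub g (heK.symm ▸ g.2 : (g : Q) ∈ autFixer φ (x₁ * y))).2
  rw [hy, div_eq_one] at hy1
  have h1 : φ k x ^ r = x ^ r := by
    rw [← map_pow, hy1]
    exact hfixN ⟨k, hk⟩ x
  have h2 : (φ k x / x) ^ r = 1 := by rw [div_pow, h1, div_self']
  exact div_eq_one.1 (eq_one_of_pow_coprime h2 hcopr)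

/-- A group is abelian if it has a central subgroup of order prime to its index with abelian
quotient. -/
theorem comm_of_central_coprime {T : Type*} [Group T] [Finite T] (Z : Subgroup T) [Z.Normal]
    (hZ : Z ≤ Subgroup.center T) (hcop : Z.index.Coprime (Nat.card Z))
    (hq : ∀ a b : T, a * b * a⁻¹ * b⁻¹ ∈ Z) (a b : T) : a * b = b * a := by
  let c : T →* Z := MonoidHom.mk' (fun x => ⟨x * b * x⁻¹ * b⁻¹, hq x b⟩) (fun x y => by
    apply Subtype.ext
    show x * y * b * (x * y)⁻¹ * b⁻¹ = (x * b * x⁻¹ * b⁻¹) * (y * b * y⁻¹ * b⁻¹)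
    have h1 := Subgroup.mem_center_iff.1 (hZ (hq y b)) x
    calc x * y * b * (x * y)⁻¹ * b⁻¹ = (x * (y * b * y⁻¹ * b⁻¹)) * (b * x⁻¹ * b⁻¹) := by group
      _ = ((y * b * y⁻¹ * b⁻¹) * x) * (b * x⁻¹ * b⁻¹) := by rw [h1]
      _ = (y * b * y⁻¹ * b⁻¹) * (x * b * x⁻¹ * b⁻¹) := by group
      _ = _ := (Subgroup.mem_center_iff.1 (hZ (hq y b)) _).symm)
  have h1 : c (a ^ Z.index) = 1 := by
    apply Subtype.ext
    show a ^ Z.index * b * (a ^ Z.index)⁻¹ * b⁻¹ = 1
    rw [← Subgroup.mem_center_iff.1 (hZ (Subgroup.pow_index_mem Z a)) b]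
    group
  rw [map_pow] at h1
  have h2 : a * b * a⁻¹ * b⁻¹ = 1 := congrArg Subtype.val (eq_one_of_pow_coprime h1 hcop)
  calc a * b = (a * b * a⁻¹ * b⁻¹) * (b * a) := by group
    _ = b * a := by rw [h2, one_mul]

variable {G : Type u} [Group G] [Finite G] {m : ℕ}

theorem irr_eq_one_of_commutator (χ : IrrCharacter G) (h1 : (χ : G → ℂ) 1 = 1) {g : G}
    (hg : g ∈ commutator G) : (χ : G → ℂ) g = 1 := by
  obtain ⟨f, hf⟩ := H12.exists_monoidHom_of_apply_one_eq_one (H12.isCharacter_irr χ) h1
  rw [← hf]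
  simp [MonoidHom.mem_ker.1 (Abelianization.commutator_subset_ker f hg)]

/-- A subgroup of index `m` contains the derived subgroup. -/
theorem commutator_le_of_index_eq [Fintype G]
    (hcd : ∀ χ : IrrCharacter G, charDegree (χ : G → ℂ) = 1 ∨ charDegree (χ : G → ℂ) = m)
    (H : Subgroup G) [Fintype H] (hHm : H.index = m) : commutator G ≤ H := by
  classical
  intro y hy
  let π := indFun H (fun _ => (1 : ℂ))
  have hπ : IsCharacter G π := isCharacter_indFun H H12.isCharacter_one
  have hπ1 : π 1 = (H.index : ℂ) := by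
    show indFun H (fun _ => (1 : ℂ)) 1 = _
    rw [indFun_apply_one, mul_one]
  have hone : classInner π (H12.oneIrr G : G → ℂ) ≠ 0 := by
    rw [classInner_indFun_left H _ (H12.irr_isClassFunction _)]
    have := H12.classInner_irr_self (H12.oneIrr H)
    exact this.symm ▸ one_ne_zero
  obtain ⟨c, hc⟩ := H12.IsCharacter.exists_mult (isCharacter_sub_irr hπ (H12.oneIrr G).2 hone)
  have hfix : π y = π 1 := by
    have hy' : ∀ φ : IrrCharacter G, (c φ : ℂ) * (φ : G → ℂ) y = (c φ : ℂ) * (φ : G → ℂ) 1 := by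
      intro φ
      rcases Nat.eq_zero_or_pos (c φ) with h0 | h0
      · simp [h0]
      congr 1
      have h1 := congrFun hc 1
      rw [Finset.sum_apply, Pi.sub_apply, hπ1, H12.oneIrr_apply, hHm, sub_eq_iff_eq_add] at h1
      simp only [Pi.smul_apply, smul_eq_mul, H22.irr_one_eq_charDegree] at h1
      have hsum : m = (∑ ψ : IrrCharacter G, c ψ * charDegree (ψ : G → ℂ)) + 1 := by
        exact_mod_cast h1
      have h2 : charDegree (φ : G → ℂ) ≤ ∑ ψ : IrrCharacter G, c ψ * charDegree (ψ : G → ℂ) :=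
        le_trans (Nat.le_mul_of_pos_left _ h0)
          (Finset.single_le_sum (f := fun ψ => c ψ * charDegree (ψ : G → ℂ))
            (fun _ _ => Nat.zero_le _) (Finset.mem_univ φ))
      have h3 : (φ : G → ℂ) 1 = 1 := by
        rcases hcd φ with h | h
        · rw [H22.irr_one_eq_charDegree, h, Nat.cast_one]
        · omega
      rw [irr_eq_one_of_commutator φ h3 hy, h3]
    have h1 := congrFun hc y
    have h2 := congrFun hc 1
    simp only [Pi.sub_apply, Finset.sum_apply, Pi.smul_apply, smul_eq_mul,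
      H12.oneIrr_apply] at h1 h2
    rw [Finset.sum_congr rfl (fun φ _ => hy' φ), ← h2] at h1
    exact sub_left_inj.1 h1
  rw [hπ1] at hfix
  rw [show π y = _ from H14.indFun_one_eq_fixed H y, Nat.cast_inj, Subgroup.index] at hfix
  haveI := Fintype.ofFinite (G ⧸ H)
  rw [Nat.card_eq_fintype_card, Nat.card_eq_fintype_card, Fintype.card_subtype,
    ← Finset.card_univ, Finset.card_filter_eq_iff] at hfix
  have h3 : (y : G) • ((1 : G) : G ⧸ H) = ((1 : G) : G ⧸ H) :=
    hfix ((1 : G) : G ⧸ H) (Finset.mem_univ _)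
  rw [MulAction.Quotient.smul_coe, smul_eq_mul, mul_one, QuotientGroup.eq, mul_one] at h3
  simpa using H.inv_mem h3

/-- A moved linear character of a normal abelian subgroup of order prime to its index: the
inertia group has index `m` and abelian quotient. -/
theorem inertia_of_moved [Fintype G]
    (hcd : ∀ χ : IrrCharacter G, charDegree (χ : G → ℂ) = 1 ∨ charDegree (χ : G → ℂ) = m)
    (N : Subgroup G) [N.Normal] (hcop : N.index.Coprime (Nat.card N))
    (θ : N →* ℂˣ) (hθ : inertia N (fun n : N => (θ n : ℂ)) ≠ ⊤) :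
    (inertia N (fun n : N => (θ n : ℂ))).index = m ∧
      ∀ a ∈ inertia N (fun n : N => (θ n : ℂ)), ∀ b ∈ inertia N (fun n : N => (θ n : ℂ)),
        a * b * a⁻¹ * b⁻¹ ∈ N := by
  classical
  haveI hfin : ∀ L : Subgroup G, Fintype L := fun L => Fintype.ofFinite _
  set θ' : N → ℂ := fun n => (θ n : ℂ) with hθ'
  set T := inertia N θ' with hT
  have hθirr : IsIrrCharacter N θ' := H12.isIrrCharacter_monoidHom θ
  have hNT : N ≤ T := le_inertia N (H12.IsCharacter.isClassFunction (H12.isCharacter_monoidHom θ))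
  let e : N.subgroupOf T ≃* N := Subgroup.subgroupOfEquivOfLe hNT
  obtain ⟨μ, hμ, -, -⟩ := H14.exists_unique_coprime_extension (N.subgroupOf T)
    (θ.comp e.toMonoidHom) (fun t x => by
      have h := congrFun ((mem_inertia N).1 t.2) (e x)
      exact Units.ext h)
    (by
      have h1 : (N.subgroupOf T).index ∣ N.index := Dvd.intro _ (Subgroup.relIndex_mul_index hNT)
      have h2 : orderOf (θ.comp e.toMonoidHom) ∣ Nat.card N := by
        refine orderOf_dvd_of_pow_eq_one (MonoidHom.ext fun x => ?_)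
        rw [MonoidHom.pow_apply, ← map_pow]
        show θ (e (x ^ Nat.card N)) = 1
        rw [map_pow, pow_card_eq_one', map_one]
      exact Nat.Coprime.coprime_dvd_left h1 (Nat.Coprime.coprime_dvd_right h2 hcop))
  haveI : Fintype (T ⧸ N.subgroupOf T) := Fintype.ofFinite _
  have hμc : IsCharacter T (fun t => (μ t : ℂ)) := H12.isCharacter_monoidHom μ
  have hres : IsIrrCharacter (N.subgroupOf T) (fun n : N.subgroupOf T => (μ n : ℂ)) :=
    H12.isIrrCharacter_monoidHom (μ.comp (N.subgroupOf T).subtype)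
  have hdeg : ∀ β : IrrCharacter (T ⧸ N.subgroupOf T),
      T.index * charDegree (β : T ⧸ N.subgroupOf T → ℂ) = 1 ∨
        T.index * charDegree (β : T ⧸ N.subgroupOf T → ℂ) = m := by
    intro β
    have hψ := gallagher_isIrr (N.subgroupOf T) hμc hres β
    set ψ : T → ℂ := (inflateIrr (N.subgroupOf T) β : T → ℂ) * fun t => (μ t : ℂ) with hψdef
    have hrt : resTo hNT ψ = fun n => (charDegree (β : T ⧸ N.subgroupOf T → ℂ) : ℂ) * θ' n := by
      funext n
      have hn : (⟨(n : G), hNT n.2⟩ : T) ∈ N.subgroupOf T := n.2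
      rw [resTo_apply, hψdef, Pi.mul_apply, inflateIrr_apply, (QuotientGroup.eq_one_iff _).2 hn,
        H22.irr_one_eq_charDegree]
      have h := hμ ⟨_, hn⟩
      show _ * ((μ _ : ℂˣ) : ℂ) = _
      rw [h]
      rfl
    have hne : classInner (resTo hNT ψ) θ' ≠ 0 := by
      rw [hrt, show (fun n => (charDegree (β : T ⧸ N.subgroupOf T → ℂ) : ℂ) * θ' n) =
        (charDegree (β : T ⧸ N.subgroupOf T → ℂ) : ℂ) • θ' from rfl, H12.classInner_smul_left]
      refine mul_ne_zero (Nat.cast_ne_zero.2 (H22.charDegree_pos β).ne') ?_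
      rw [show classInner θ' θ' = 1 from H12.classInner_irr_self ⟨θ', hθirr⟩]
      exact one_ne_zero
    have hχ := (clifford_correspondence N hθirr hT hNT hψ hne).1
    have hval : indFun T ψ 1 = ((T.index * charDegree (β : T ⧸ N.subgroupOf T → ℂ) : ℕ) : ℂ) := by
      rw [indFun_apply_one, hψdef, Pi.mul_apply, inflateIrr_apply, QuotientGroup.mk_one,
        H22.irr_one_eq_charDegree, map_one, Units.val_one, mul_one, Nat.cast_mul]
    have h2 := H22.irr_one_eq_charDegree ⟨_, hχ⟩
    simp only [hval, Nat.cast_inj] at h2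
    rw [h2]
    exact hcd ⟨_, hχ⟩
  have hTi : T.index ≠ 1 := fun h => hθ (Subgroup.index_eq_one.1 h)
  have hone : charDegree (H12.oneIrr (T ⧸ N.subgroupOf T) : T ⧸ N.subgroupOf T → ℂ) = 1 := by
    have := H22.irr_one_eq_charDegree (H12.oneIrr (T ⧸ N.subgroupOf T))
    rw [H12.oneIrr_apply] at this
    exact_mod_cast this.symm
  have hTm : T.index = m := by
    rcases hdeg (H12.oneIrr _) with h | h
    · rw [hone, mul_one] at h; exact absurd h hTi
    · rwa [hone, mul_one] at h
  refine ⟨hTm, fun a ha b hb => ?_⟩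
  have hlin : ∀ β : IrrCharacter (T ⧸ N.subgroupOf T), (β : T ⧸ N.subgroupOf T → ℂ) 1 = 1 := by
    intro β
    rw [H22.irr_one_eq_charDegree]
    rcases hdeg β with h | h
    · exact absurd (Nat.eq_one_of_mul_eq_one_right h) hTi
    · rw [Nat.eq_of_mul_eq_mul_left (Nat.pos_of_ne_zero Subgroup.index_ne_zero_of_finite)
        (show T.index * charDegree (β : T ⧸ N.subgroupOf T → ℂ) = T.index * 1 by
          rw [h, mul_one, hTm]), Nat.cast_one]
  have h1 := commutative_of_all_linear hlin ((⟨a, ha⟩ : T) : T ⧸ N.subgroupOf T)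
    ((⟨b, hb⟩ : T) : T ⧸ N.subgroupOf T)
  rw [← QuotientGroup.mk_mul, ← QuotientGroup.mk_mul, QuotientGroup.eq] at h1
  have h2 : (a * b)⁻¹ * (b * a) ∈ N := h1
  have h3 := N.inv_mem (Subgroup.Normal.conj_mem inferInstance _ h2 (a * b))
  simpa [mul_assoc] using h3

/-- If two degrees occur and `m` is not a prime power, a central residual forces commutativity. -/
theorem commutator_le_residual
    (hcd : ∀ χ : IrrCharacter G, charDegree (χ : G → ℂ) = 1 ∨ charDegree (χ : G → ℂ) = m)
    {p : ℕ} [hp : Fact p.Prime] (hnot : ∀ e, m ≠ p ^ e) : commutator G ≤ pResidual p G := by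
  classical
  intro g hg
  haveI := Fintype.ofFinite (G ⧸ pResidual p G)
  rw [← QuotientGroup.eq_one_iff]
  have hq : (QuotientGroup.mk' (pResidual p G) g) ∈ commutator (G ⧸ pResidual p G) := by
    have := Subgroup.mem_map_of_mem (QuotientGroup.mk' (pResidual p G)) hg
    rw [commutator_def, Subgroup.map_commutator] at this
    exact Subgroup.commutator_mono le_top le_top this
  refine isConj_one_left.1 ((H12.isConj_iff_irr _ 1).2 fun β => ?_)
  have h1 : (β : G ⧸ pResidual p G → ℂ) 1 = 1 := by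
    have hd := H22.irr_one_eq_charDegree (inflateIrr (pResidual p G) β)
    rw [inflateIrr_apply, QuotientGroup.mk_one, H22.irr_one_eq_charDegree, Nat.cast_inj] at hd
    rw [H22.irr_one_eq_charDegree]
    rcases hcd (inflateIrr (pResidual p G) β) with h | h
    · rw [hd, h, Nat.cast_one]
    · obtain ⟨k, hk⟩ := IsPGroup.iff_card.mp
        (H5.isPGroup_quotient_pResidual (G := G) (p := p))
      have hdvd := H22.charDegree_dvd_card β
      rw [hd, h, hk] at hdvd
      obtain ⟨i, -, hi⟩ := (Nat.dvd_prime_pow hp.out).1 hdvd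
      exact absurd hi (hnot i)
  rw [h1]
  exact irr_eq_one_of_commutator β h1 hq

/-- Isaacs, Theorem 12.5. -/
theorem two_degrees_structure
    (hcd : ∀ χ : IrrCharacter G, charDegree (χ : G → ℂ) = 1 ∨ charDegree (χ : G → ℂ) = m)
    (hm : ∃ χ : IrrCharacter G, charDegree (χ : G → ℂ) = m) (hm1 : m ≠ 1) :
    (∃ A : Subgroup G, A.Normal ∧ (∀ a ∈ A, ∀ b ∈ A, a * b = b * a) ∧ A.index = m) ∨
      ∃ p e : ℕ, p.Prime ∧ m = p ^ e ∧ ∃ P A : Subgroup G, P.Normal ∧ A.Normal ∧ IsPGroup p P ∧
        (∀ a ∈ A, ∀ b ∈ A, a * b = b * a) ∧ P ⊓ A = ⊥ ∧ P ⊔ A = ⊤ := by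
  classical
  haveI := Fintype.ofFinite G
  haveI hfin : ∀ L : Subgroup G, Fintype L := fun L => Fintype.ofFinite _
  obtain ⟨χ₀, hχ₀⟩ := hm
  have hm0 : m ≠ 0 := hχ₀ ▸ (H22.charDegree_pos χ₀).ne'
  -- the residual subgroup
  let K : m.primeFactors → Subgroup G := fun q => pResidual (q : ℕ) G
  set N : Subgroup G := ⨅ q, K q with hN
  haveI hKn : ∀ q, (K q).Normal := fun q => by infer_instance
  haveI hNn : N.Normal := Subgroup.normal_iInf_normal hKn
  have hcopq : ∀ q ∈ m.primeFactors, (Nat.card N).Coprime q := by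
    intro q hq
    haveI := Fact.mk (Nat.prime_of_mem_primeFactors hq)
    refine Nat.Coprime.coprime_dvd_left (Subgroup.card_dvd_of_le (iInf_le K ⟨q, hq⟩))
      (coprime_card_pResidual q fun χ hχ => ?_)
    rcases hcd χ with h | h
    · exact absurd h hχ
    · rw [h]; exact Nat.dvd_of_mem_primeFactors hq
  have hcop : N.index.Coprime (Nat.card N) := by
    refine Nat.Coprime.coprime_dvd_left (H61.index_iInf_dvd K) ?_
    refine Nat.Coprime.prod_left fun q _ => ?_
    haveI := Fact.mk (Nat.prime_of_mem_primeFactors q.2)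
    obtain ⟨k, hk⟩ := H5.exists_index_pResidual_eq (G := G) (p := (q : ℕ))
    show (pResidual (q : ℕ) G).index.Coprime _
    rw [hk]
    exact Nat.Coprime.pow_left k (hcopq q q.2).symm
  have hNab : ∀ a b : N, a * b = b * a := by
    obtain ⟨A, hA, hAab, -, -⟩ := exists_abelian_residual hcd
    have hlin : ∀ θ : IrrCharacter N, (θ : N → ℂ) 1 = 1 := by
      intro θ
      rw [H22.irr_one_eq_charDegree]
      suffices charDegree (θ : N → ℂ) = 1 by rw [this, Nat.cast_one]
      by_contra hne
      obtain ⟨q, hq, hqd⟩ := Nat.exists_prime_and_dvd hne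
      obtain ⟨χ, hχ⟩ := H14.exists_degree_dvd N θ
      rw [degree_eq_charDegree, degree_eq_charDegree] at hχ
      rcases hcd χ with h1 | h1
      · exact hq.not_dvd_one (h1 ▸ hqd.trans hχ)
      · have hc := hcopq q (Nat.mem_primeFactors.2 ⟨hq, h1 ▸ hqd.trans hχ, hm0⟩)
        exact (hq.coprime_iff_not_dvd.1 hc.symm) (hqd.trans (H22.charDegree_dvd_card θ))
    exact commutative_of_all_linear hlin
  -- the action on the linear characters of `N`
  let X := N →* ℂˣ
  haveI : Finite X := Finite.of_injective _ (H12.linIrr_injective (G := N))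
  let φ₀ : G →* MulAut X := MonoidHom.mk' (fun g =>
    { toFun := fun θ => θ.comp (MulAut.conjNormal g⁻¹ : N ≃* N).toMonoidHom
      invFun := fun θ => θ.comp (MulAut.conjNormal g : N ≃* N).toMonoidHom
      left_inv := fun θ => MonoidHom.ext fun n => congrArg θ (Subtype.ext (by simp [mul_assoc]))
      right_inv := fun θ => MonoidHom.ext fun n => congrArg θ (Subtype.ext (by simp [mul_assoc]))
      map_mul' := fun a b => rfl })
    (fun g h => MulEquiv.ext fun θ => MonoidHom.ext fun n =>
      congrArg θ (Subtype.ext (by simp [mul_assoc])))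
  have hφN : N ≤ φ₀.ker := fun n hn => MulEquiv.ext fun θ => MonoidHom.ext fun x => by
    refine congrArg θ ?_
    have h1 := hNab (⟨n⁻¹, inv_mem hn⟩ : N) x
    apply Subtype.ext
    have h2 : n⁻¹ * (x : G) = x * n⁻¹ := congrArg Subtype.val h1
    simp [h2, mul_assoc]
  let φ : G ⧸ N →* MulAut X := QuotientGroup.lift N φ₀ hφN
  have hin : ∀ (θ : X) (g : G), (g : G ⧸ N) ∈ autFixer φ θ ↔
      g ∈ inertia N (fun n : N => (θ n : ℂ)) := by
    intro θ g
    rw [← inv_mem_iff (x := g)]
    constructor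
    · intro h
      rw [mem_inertia]
      funext n
      rw [twist_apply]
      have h1 := DFunLike.congr_fun (show φ₀ g θ = θ from h) n
      refine Eq.trans ?_ (congrArg Units.val h1)
      exact congrArg (fun z => (θ z : ℂ)) (Subtype.ext (by simp))
    · intro h
      show φ₀ g θ = θ
      refine MonoidHom.ext fun n => Units.ext ?_
      have h1 := congrFun ((mem_inertia N).1 h) n
      rw [twist_apply] at h1
      refine Eq.trans ?_ h1
      exact congrArg (fun z => (θ z : ℂ)) (Subtype.ext (by simp))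
  have hcomap : ∀ θ : X, (autFixer φ θ).comap (QuotientGroup.mk' N) =
      inertia N (fun n : N => (θ n : ℂ)) := fun θ => Subgroup.ext (hin θ)
  have hidx : ∀ θ : X, (autFixer φ θ).index = (inertia N (fun n : N => (θ n : ℂ))).index :=
    fun θ => by
      rw [← hcomap, Subgroup.index_comap_of_surjective _ (QuotientGroup.mk'_surjective N)]
  have hmoved : ∀ θ : X, autFixer φ θ ≠ ⊤ → inertia N (fun n : N => (θ n : ℂ)) ≠ ⊤ :=
    fun θ h1 h2 => h1 (by rw [← Subgroup.index_eq_one, hidx, h2, Subgroup.index_top])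
  have hsep : ∀ a b : N, (∀ θ : X, θ a = θ b) → a = b := by
    intro a b h
    have hc : IsConj a b := (H12.isConj_iff_irr a b).2 fun χ => by
      obtain ⟨f, hf⟩ := H12.exists_monoidHom_of_apply_one_eq_one (H12.isCharacter_irr χ)
        (H12.irr_apply_one_of_comm hNab χ)
      rw [← hf]
      exact congrArg Units.val (h f)
    obtain ⟨c, hc⟩ := isConj_iff.1 hc
    rw [← hc, hNab c a, mul_inv_cancel_right]
  by_cases hmv : ∃ θ : X, autFixer φ θ ≠ ⊤
  · left
    obtain ⟨θ₁, hθ₁⟩ := hmv
    obtain ⟨hTm, hTq⟩ := inertia_of_moved hcd N hcop θ₁ (hmoved θ₁ hθ₁)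
    set T := inertia N (fun n : N => (θ₁ n : ℂ)) with hT
    have hle : commutator G ≤ T := commutator_le_of_index_eq hcd T hTm
    have hXdvd : Nat.card X ∣ Nat.card N := by
      rw [show Nat.card X = _ from H12.card_monoidHom_units]
      exact Subgroup.index_dvd_card _
    have hQX : (Nat.card (G ⧸ N)).Coprime (Nat.card X) :=
      Nat.Coprime.coprime_dvd_right hXdvd hcop
    have hcomm : ∀ a b : G ⧸ N, φ a * φ b = φ b * φ a := by
      intro a b
      induction a using QuotientGroup.induction_on with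
      | H a =>
      induction b using QuotientGroup.induction_on with
      | H b =>
      show φ₀ a * φ₀ b = φ₀ b * φ₀ a
      have h1 : φ₀ (a * b * a⁻¹ * b⁻¹) = 1 := by
        refine MulEquiv.ext fun θ => ?_
        show φ₀ (a * b * a⁻¹ * b⁻¹) θ = θ
        have hab : a * b * a⁻¹ * b⁻¹ ∈ commutator G := by
          rw [commutator_def]
          exact Subgroup.commutator_mem_commutator (Subgroup.mem_top a) (Subgroup.mem_top b)
        refine (hin θ (a * b * a⁻¹ * b⁻¹)).2 ?_
        by_cases hθ : autFixer φ θ = ⊤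
        · rw [← hcomap, hθ]; trivial
        · exact commutator_le_of_index_eq hcd _
            (inertia_of_moved hcd N hcop θ (hmoved θ hθ)).1 hab
      rw [← map_mul, ← map_mul, show a * b = (a * b * a⁻¹ * b⁻¹) * (b * a) by group, map_mul, h1,
        one_mul]
    have hcard : ∀ x y : X, autFixer φ x ≠ ⊤ → autFixer φ y ≠ ⊤ →
        Nat.card (autFixer φ x) = Nat.card (autFixer φ y) := by
      intro x y hx hy
      have h1 : (autFixer φ x).index = (autFixer φ y).index := by
        rw [hidx, hidx, (inertia_of_moved hcd N hcop x (hmoved x hx)).1,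
          (inertia_of_moved hcd N hcop y (hmoved y hy)).1]
      have h2 := (autFixer φ x).card_mul_index
      rw [h1, ← (autFixer φ y).card_mul_index] at h2
      exact Nat.eq_of_mul_eq_mul_right (Nat.pos_of_ne_zero Subgroup.index_ne_zero_of_finite) h2
    have htriv := autFixer_acts_trivially φ hQX hcomm hcard hθ₁
    have hcent : ∀ t ∈ T, ∀ n : N, t * (n : G) = n * t := by
      intro t ht n
      have h1 : (MulAut.conjNormal t⁻¹ : N ≃* N) n = n := hsep _ _ fun θ =>
        DFunLike.congr_fun (htriv (t : G ⧸ N) ((hin θ₁ t).2 ht) θ) n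
      have h2 : t⁻¹ * (n : G) * t = n := by simpa using congrArg Subtype.val h1
      calc t * (n : G) = t * (t⁻¹ * n * t) := by rw [h2]
        _ = n * t := by group
    have hNT : N ≤ T := le_inertia N (H12.IsCharacter.isClassFunction
      (H12.isCharacter_monoidHom θ₁))
    refine ⟨T, ?_, fun a ha b hb => ?_, hTm⟩
    · refine ⟨fun x hx g => ?_⟩
      have hg : g * x * g⁻¹ * x⁻¹ ∈ T := hle (by
        rw [commutator_def]
        exact Subgroup.commutator_mem_commutator (Subgroup.mem_top g) (Subgroup.mem_top x))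
      simpa using T.mul_mem hg hx
    · refine congrArg Subtype.val (comm_of_central_coprime (N.subgroupOf T) (fun z hz => ?_) ?_
        (fun x y => hTq x x.2 y y.2) (⟨a, ha⟩ : T) ⟨b, hb⟩)
      · rw [Subgroup.mem_center_iff]
        exact fun t => Subtype.ext (hcent t t.2 ⟨_, hz⟩)
      · rw [Nat.card_congr (Subgroup.subgroupOfEquivOfLe hNT).toEquiv]
        exact Nat.Coprime.coprime_dvd_left
          (Dvd.intro _ (Subgroup.relIndex_mul_index hNT)) hcop
  · simp only [not_exists, not_not] at hmv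
    have hcent : N ≤ Subgroup.center G := by
      intro n hn
      rw [Subgroup.mem_center_iff]
      intro g
      have h1 : (MulAut.conjNormal g⁻¹ : N ≃* N) ⟨n, hn⟩ = ⟨n, hn⟩ := hsep _ _ fun θ =>
        DFunLike.congr_fun (show φ₀ g θ = θ from
          (show (g : G ⧸ N) ∈ autFixer φ θ from (hmv θ).symm ▸ Subgroup.mem_top _)) ⟨n, hn⟩
      have h2 : g⁻¹ * n * g = n := by simpa using congrArg Subtype.val h1
      calc g * n = g * (g⁻¹ * n * g) := by rw [h2]
        _ = n * g := by group
    right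
    by_cases hpp : ∃ p e : ℕ, p.Prime ∧ m = p ^ e
    · obtain ⟨p, e, hp, rfl⟩ := hpp
      haveI := Fact.mk hp
      refine ⟨p, e, hp, rfl, ?_⟩
      obtain ⟨P, hP⟩ := Subgroup.exists_right_complement'_of_coprime (N := N) hcop.symm
      have hsup : N ⊔ P = ⊤ := hP.sup_eq_top
      refine ⟨P, N, ?_, hNn, ?_, fun a ha b hb => congrArg Subtype.val (hNab ⟨a, ha⟩ ⟨b, hb⟩),
        by rw [inf_comm]; exact hP.disjoint.eq_bot, by rw [sup_comm]; exact hsup⟩
      · refine ⟨fun x hx g => ?_⟩
        have hg : g ∈ (↑(N ⊔ P) : Set G) := by rw [hsup]; trivial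
        rw [Subgroup.normal_mul] at hg
        obtain ⟨n, hn, q, hq, rfl⟩ := hg
        have h1 := Subgroup.mem_center_iff.1 (hcent hn) (q * x * q⁻¹)
        rw [show n * q * x * (n * q)⁻¹ = n * (q * x * q⁻¹) * n⁻¹ by group, ← h1,
          mul_inv_cancel_right]
        exact P.mul_mem (P.mul_mem hq hx) (P.inv_mem hq)
      · have he : e ≠ 0 := fun h => hm1 (by rw [h, pow_zero])
        have hcard : Nat.card P ∣ (pResidual p G).index := by
          rw [← hP.symm.index_eq_card]
          refine (H61.index_iInf_dvd K).trans ?_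
          rw [Finset.prod_eq_single (⟨p, Nat.mem_primeFactors.2 ⟨hp, dvd_pow_self p he, hm0⟩⟩ :
            (p ^ e).primeFactors)]
          · intro q _ hq
            refine absurd (Subtype.ext ?_) hq
            exact (Nat.prime_dvd_prime_iff_eq (Nat.prime_of_mem_primeFactors q.2) hp).1
              ((Nat.prime_of_mem_primeFactors q.2).dvd_of_dvd_pow
                (Nat.dvd_of_mem_primeFactors q.2))
          · simp
        obtain ⟨k, hk⟩ := H5.exists_index_pResidual_eq (G := G) (p := p)
        rw [hk] at hcard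
        obtain ⟨i, -, hi⟩ := (Nat.dvd_prime_pow hp).1 hcard
        exact IsPGroup.of_card hi
    · exfalso
      simp only [not_exists, not_and] at hpp
      have hab : ∀ a b : G, a * b = b * a := comm_of_central_coprime N hcent hcop fun a b => by
        rw [hN, Subgroup.mem_iInf]
        intro q
        haveI := Fact.mk (Nat.prime_of_mem_primeFactors q.2)
        refine commutator_le_residual hcd (fun e => hpp q e (Nat.prime_of_mem_primeFactors q.2)) ?_
        rw [commutator_def]
        exact Subgroup.commutator_mem_commutator (Subgroup.mem_top a) (Subgroup.mem_top b)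
      have h1 := H12.irr_apply_one_of_comm hab χ₀
      rw [H22.irr_one_eq_charDegree, hχ₀, Nat.cast_eq_one] at h1
      exact hm1 h1

end H21
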