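import Cfsg.Agent.H21.SteinbergChev
import Cfsg.Agent.H35.DerivedLinear

/-!
Weight vectors in representations of a finite group with a root group system: a vector fixed by `U`
that is an eigenvector of `H` and of the operators `T_i` spans, under `U n₀`, the module it generates;
in the characteristic of the root groups such vectors exist in every non-zero stable subspace.
-/

set_option autoImplicit false
set_option linter.unusedSectionVars false
set_option linter.style.haveILetI false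

namespace H21.UW

open H53 (RootGroupSys)
open H53.RootGroupSys
open H56 (toW lenW simW)
open scoped Classical

variable {G : Type*} [Group G] [Fintype G] {ι R : Type*} [Finite R] {S : RootGroupSys G ι R}
variable {k : Type*} [Field k] {V : Type*} [AddCommGroup V] [Module k V]

variable (S) in
/-- `T_i = ∑_{x ∈ U_i} x n_i` -/
noncomputable def uT (ρ : Representation k G V) (i : ι) : Module.End k V :=
  haveI := Fintype.ofFinite (S.U (S.a i))
  ∑ x : S.U (S.a i), ρ ((x : G) * S.n i)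

theorem uT_apply (ρ : Representation k G V) (i : ι) [Fintype (S.U (S.a i))] (v : V) :
    uT S ρ i v = ∑ x : S.U (S.a i), ρ ((x : G) * S.n i) v := by
  rw [uT, LinearMap.sum_apply]
  convert rfl

variable (S) in
/-- fixed by `U` -/
def UFix (ρ : Representation k G V) (v : V) : Prop := ∀ u ∈ S.Uplus, ρ u v = v

variable (S) in
/-- an eigenvector of `H` -/
def HEig (ρ : Representation k G V) (v : V) : Prop := ∀ h ∈ S.H, ∃ c : k, ρ h v = c • v

variable (S) in
/-- an eigenvector of all `T_i` -/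
def TEig (ρ : Representation k G V) (v : V) : Prop := ∀ i, ∃ c : k, uT S ρ i v = c • v

variable (hS : S.Axioms) (hsep : Sep S) {ρ : Representation k G V}

theorem rho_mul (ρ : Representation k G V) (g g' : G) (v : V) : ρ (g * g') v = ρ g (ρ g' v) := by
  rw [map_mul]; rfl

theorem rho_ne_zero (ρ : Representation k G V) (g : G) {v : V} (hv : v ≠ 0) : ρ g v ≠ 0 := fun h => by
  apply hv
  have h2 := congrArg (ρ g⁻¹) h
  rwa [← rho_mul, inv_mul_cancel, map_one, map_zero] at h2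

theorem hEig_ne_zero {v : V} (hv : v ≠ 0) {h : G} {c : k} (hc : ρ h v = c • v) : c ≠ 0 := fun e => by
  rw [e, zero_smul] at hc
  exact rho_ne_zero ρ h hv hc

include hS hsep in
theorem conj_mem_H {n h : G} (hn : n ∈ S.N) (hh : h ∈ S.H) : n * h * n⁻¹ ∈ S.H := by
  rw [← BN_eq hS hsep]
  exact Subgroup.mem_inf.2 ⟨(pair hS hsep).conj_mem n hn h (Subgroup.mem_inf.2 ⟨H_le_B hh, H_le_N hh⟩),
    mul_mem (mul_mem hn (H_le_N hh)) (inv_mem hn)⟩

include hS in
/-- a non-trivial element of the negative simple root group -/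
theorem neg_rankone (i : ι) {x : G} (hx : x ∈ S.U (S.a i)) (hx1 : x ≠ 1) :
    ∃ x₁ ∈ S.U (S.a i), ∃ h ∈ S.H, ∃ x₂ ∈ S.U (S.a i),
      S.n i * x * (S.n i)⁻¹ = x₁ * h * S.n i * x₂ := by
  refine hS.rankone i _ (hS.sigma_a i ▸ acts_conj_mem (acts_n hS i) hx) fun h => hx1 ?_
  calc x = (S.n i)⁻¹ * (S.n i * x * (S.n i)⁻¹) * S.n i := by group
    _ = 1 := by rw [h]; group

/-- a simple generator of the (B,N)-pair -/
def gen (i : ι) : (pair hS hsep).S := ⟨S.n i, i, rfl⟩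

theorem gen_toW (i : ι) :
    simW (pair hS hsep) (gen hS hsep i) = toW (pair hS hsep) ⟨S.n i, n_mem_N i⟩ := rfl

theorem not_down_left (i : ι) (n : (pair hS hsep).N) {π : Equiv.Perm R} (hπ : S.Acts (n : G) π)
    (hp : S.pos (π⁻¹ (S.a i))) :
    lenW (pair hS hsep) (toW (pair hS hsep) n) <
      lenW (pair hS hsep) (simW (pair hS hsep) (gen hS hsep i) * toW (pair hS hsep) n) := by
  by_contra hn
  obtain ⟨x, hx, y, hy, hxy⟩ := H56.exists_mul_mem_self (pair hS hsep) (not_lt.1 hn)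
  rw [H56.cellW_simW] at hx
  rw [H56.cellW_toW] at hy
  obtain ⟨b1, hb1, c1, hc1, rfl⟩ := (H56.mem_cell (pair hS hsep)).1 hx
  obtain ⟨b2, hb2, c2, hc2, rfl⟩ := (H56.mem_cell (pair hS hsep)).1 hy
  obtain ⟨b₀, hb₀, b₁, hb₁, e⟩ := H21.s_mul_B_mul_pos hS i hπ hp
    (show c1 * b2 ∈ S.B from mul_mem hc1 hb2)
  have hmem : b1 * ((gen hS hsep i : (pair hS hsep).S) : G) * c1 * (b2 * (n : G) * c2) ∈
      H56.cellW (pair hS hsep) (simW (pair hS hsep) (gen hS hsep i) * toW (pair hS hsep) n) := by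
    rw [gen_toW, ← map_mul, H56.cellW_toW]
    refine (H56.mem_cell (pair hS hsep)).2 ⟨b1 * b₀, mul_mem hb1 hb₀, b₁ * c2, mul_mem hb₁ hc2, ?_⟩
    show b1 * S.n i * c1 * (b2 * (n : G) * c2) = b1 * b₀ * (S.n i * (n : G)) * (b₁ * c2)
    calc b1 * S.n i * c1 * (b2 * (n : G) * c2) = b1 * (S.n i * (c1 * b2) * (n : G)) * c2 := by group
      _ = _ := by rw [e]; group
  exact H56.simW_ne_one (pair hS hsep) _ (mul_eq_right.1 (H56.eq_of_mem_cellW (pair hS hsep) hxy hmem).symm)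

theorem not_down_right (i : ι) (n : (pair hS hsep).N) {π : Equiv.Perm R} (hπ : S.Acts (n : G) π)
    (hp : S.pos (π (S.a i))) :
    lenW (pair hS hsep) (toW (pair hS hsep) n) <
      lenW (pair hS hsep) (toW (pair hS hsep) n * simW (pair hS hsep) (gen hS hsep i)) := by
  have h := not_down_left hS hsep i n⁻¹ (π := π⁻¹) (acts_inv hπ) (by rwa [inv_inv])
  rwa [map_inv, ← H56.lenW_inv (pair hS hsep) (toW (pair hS hsep) n)⁻¹,
    ← H56.lenW_inv (pair hS hsep) (simW (pair hS hsep) (gen hS hsep i) * (toW (pair hS hsep) n)⁻¹),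
    _root_.mul_inv_rev, inv_inv, H56.simW_inv] at h

include hS in
theorem pos_of_up (i : ι) {w : G} {π : Equiv.Perm R} (hπ : S.Acts w π) (h : ¬ S.pos (π (S.a i))) :
    S.pos ((π * S.σ i) (S.a i)) := by
  rw [Equiv.Perm.mul_apply, hS.sigma_a, W_neg hS hπ.1, hS.pos_neg]
  exact h

include hS in
theorem pos_of_up' (i : ι) {w : G} {π : Equiv.Perm R} (hπ : S.Acts w π) (h : ¬ S.pos (π⁻¹ (S.a i))) :
    S.pos ((S.σ i * π)⁻¹ (S.a i)) := by
  rw [_root_.mul_inv_rev, sigma_inv hS, Equiv.Perm.mul_apply, hS.sigma_a,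
    W_neg hS (inv_mem hπ.1), hS.pos_neg]
  exact h

/-! ### the spanning property -/

variable (ρ S) in
/-- the span of `U n₀ v` -/
def spanU (n₀ : G) (v : V) : Submodule k V :=
  Submodule.span k {w | ∃ u ∈ S.Uplus, w = ρ (u * n₀) v}

theorem spanU_stable (n₀ : G) (v : V) {u : G} (hu : u ∈ S.Uplus) {w : V} (hw : w ∈ spanU S ρ n₀ v) :
    ρ u w ∈ spanU S ρ n₀ v := by
  have hle : (spanU S ρ n₀ v).map (ρ u) ≤ spanU S ρ n₀ v := by
    rw [spanU, Submodule.map_span_le]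
    rintro _ ⟨u', hu', rfl⟩
    exact Submodule.subset_span ⟨u * u', mul_mem hu hu', by rw [← rho_mul, ← mul_assoc]⟩
  exact hle ⟨w, hw, rfl⟩

variable {v : V} (hU : UFix S ρ v) (hH : HEig S ρ v)

include hS hsep hU hH in
theorem rho_N_mem_span
    (huniq : ∀ w w' : H56.Weyl (pair hS hsep), IsTop _ w → IsTop _ w' → w = w')
    (hT : TEig S ρ v) {n₀ : (pair hS hsep).N} (htop : IsTop (pair hS hsep) (toW _ n₀))
    (n : (pair hS hsep).N) : ρ (n : G) v ∈ spanU S ρ (n₀ : G) v := by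
  by_cases hv : v = 0
  · rw [hv, map_zero]; exact zero_mem _
  haveI := Fintype.ofFinite (H56.Weyl (pair hS hsep))
  obtain ⟨m, hm⟩ : ∃ m, ∀ w, lenW (pair hS hsep) w ≤ m := ⟨Finset.univ.sup (lenW (pair hS hsep)), fun w =>
    Finset.le_sup (Finset.mem_univ w)⟩
  induction hk : m - lenW (pair hS hsep) (toW (pair hS hsep) n) using Nat.strong_induction_on generalizing n with
  | _ j ih =>
  by_cases hn : IsTop (pair hS hsep) (toW (pair hS hsep) n)
  · have hB : (n₀ : G)⁻¹ * (n : G) ∈ S.H := by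
      rw [← BN_eq hS hsep]
      exact Subgroup.mem_inf.2 ⟨(H56.toW_eq_iff (pair hS hsep)).1 (huniq _ _ htop hn),
        mul_mem (inv_mem (show (n₀ : G) ∈ S.N from n₀.2)) (show (n : G) ∈ S.N from n.2)⟩
    obtain ⟨c, hc⟩ := hH _ hB
    rw [show (n : G) = (n₀ : G) * ((n₀ : G)⁻¹ * n) by group, rho_mul, hc, map_smul]
    exact Submodule.smul_mem _ _ (Submodule.subset_span ⟨1, one_mem _, by rw [one_mul]⟩)
  · rw [IsTop, not_forall] at hn
    obtain ⟨⟨_, i, rfl⟩, hs⟩ := hn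
    obtain ⟨π, hπ⟩ := exists_acts hS (show (n : G) ∈ S.N from n.2)
    have hup : lenW (pair hS hsep) (toW (pair hS hsep) n) < lenW (pair hS hsep) (toW (pair hS hsep) n * simW (pair hS hsep) (gen hS hsep i)) :=
      lt_of_le_of_ne (not_lt.1 hs) (lenW_mul_simW_ne _ _).symm
    have hpos : S.pos (π (S.a i)) := by
      by_contra hneg
      have h := not_down_right hS hsep i (n * ⟨S.n i, n_mem_N i⟩) (π := π * S.σ i)
        (acts_mul hπ (acts_n hS i)) (pos_of_up hS i hπ hneg)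
      rw [map_mul, ← gen_toW hS hsep i, mul_assoc, H56.simW_mul_self, mul_one] at h
      exact absurd h (lt_asymm hup)
    set w' : (pair hS hsep).N := n * ⟨S.n i, n_mem_N i⟩ with hw'
    have hmem : ρ (w' : G) v ∈ spanU S ρ (n₀ : G) v := by
      refine ih _ ?_ w' rfl
      have h1 : toW (pair hS hsep) w' = toW (pair hS hsep) n * simW (pair hS hsep) (gen hS hsep i) := by rw [hw', map_mul, gen_toW]
      rw [← hk, h1]
      have := hm (toW (pair hS hsep) n * simW (pair hS hsep) (gen hS hsep i))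
      omega
    obtain ⟨μ, hμ⟩ := hT i
    haveI := Fintype.ofFinite (S.U (S.a i))
    rw [uT_apply, ← Finset.add_sum_erase _ _ (Finset.mem_univ (1 : S.U (S.a i))),
      OneMemClass.coe_one, one_mul] at hμ
    have key : ρ (w' : G) (ρ (S.n i) v) ∈ spanU S ρ (n₀ : G) v := by
      rw [eq_sub_of_add_eq hμ, map_sub, map_smul, map_sum]
      refine sub_mem (Submodule.smul_mem _ _ hmem) (Submodule.sum_mem _ fun x hx => ?_)
      have hx1 : (x : G) ≠ 1 := fun e => (Finset.mem_erase.1 hx).1 (Subtype.ext e)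
      obtain ⟨x₁, hx₁, h, hh, x₂, hx₂, e⟩ := neg_rankone hS i x.2 hx1
      have hx₂' : ρ ((x : G) * S.n i) v = ρ (((S.n i)⁻¹ * x₁ * S.n i) *
          ((S.n i)⁻¹ * h * S.n i * (S.n i * S.n i))) v := by
        have hxx : ((S.n i * S.n i)⁻¹ * x₂ * (S.n i * S.n i)) ∈ S.U (S.a i) := by
          simpa using acts_conj_mem (acts_H hS (inv_mem (hS.n_sq i))) hx₂
        rw [show (x : G) * S.n i = ((S.n i)⁻¹ * x₁ * S.n i) *
            ((S.n i)⁻¹ * h * S.n i * (S.n i * S.n i)) * ((S.n i * S.n i)⁻¹ * x₂ * (S.n i * S.n i)) by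
          calc (x : G) * S.n i = (S.n i)⁻¹ * (S.n i * x * (S.n i)⁻¹) * (S.n i * S.n i) := by group
            _ = _ := by rw [e]; group]
        rw [rho_mul, hU _ (U_le_Uplus (hS.pos_a i) hxx)]
      have hh' : (S.n i)⁻¹ * h * S.n i * (S.n i * S.n i) ∈ S.H := by
        refine mul_mem ?_ (hS.n_sq i)
        simpa using conj_mem_H hS hsep (inv_mem (n_mem_N (S := S) i)) hh
      obtain ⟨c, hc⟩ := hH _ hh'
      rw [hx₂', rho_mul _ ((S.n i)⁻¹ * x₁ * S.n i), hc, map_smul, map_smul, ← rho_mul]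
      refine Submodule.smul_mem _ _ ?_
      have hy : (S.n i)⁻¹ * x₁ * S.n i ∈ S.U (S.neg (S.a i)) := by
        have := acts_conj_mem (acts_inv (acts_n hS i)) hx₁
        rwa [inv_inv, sigma_inv hS, hS.sigma_a] at this
      have hw'' : (w' : G) * ((S.n i)⁻¹ * x₁ * S.n i) * (w' : G)⁻¹ ∈ S.Uplus := by
        refine U_le_Uplus ?_ (acts_conj_mem (acts_mul hπ (acts_n hS i)) hy)
        rw [Equiv.Perm.mul_apply, hS.sigma_neg, hS.sigma_a]
        have hnn : S.pos (S.neg (S.neg (S.a i))) ↔ ¬ S.pos (S.neg (S.a i)) := hS.pos_neg _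
        rw [W_neg hS hπ.1, hS.pos_neg, W_neg hS hπ.1, hS.pos_neg, not_not]
        exact hpos
      rw [show (w' : G) * ((S.n i)⁻¹ * x₁ * S.n i) =
        ((w' : G) * ((S.n i)⁻¹ * x₁ * S.n i) * (w' : G)⁻¹) * (w' : G) by group, rho_mul]
      exact spanU_stable _ _ hw'' hmem
    obtain ⟨c, hc⟩ := hH _ (hS.n_sq i)
    have e : ρ (w' : G) (ρ (S.n i) v) = c • ρ (n : G) v := by
      rw [← rho_mul, show (w' : G) * S.n i = (n : G) * (S.n i * S.n i) by
        show (n : G) * S.n i * S.n i = _; group, rho_mul, hc, map_smul]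
    rw [e] at key
    have := Submodule.smul_mem _ c⁻¹ key
    rwa [inv_smul_smul₀ (hEig_ne_zero hv hc)] at this

include hS hsep hU hH in
/-- Everything generated by `v` lies in the span of `U n₀ v`. -/
theorem rho_mem_span
    (huniq : ∀ w w' : H56.Weyl (pair hS hsep), IsTop _ w → IsTop _ w' → w = w')
    (hT : TEig S ρ v) {n₀ : (pair hS hsep).N} (htop : IsTop (pair hS hsep) (toW _ n₀))
    (g : G) : ρ g v ∈ spanU S ρ (n₀ : G) v := by
  obtain ⟨b, hb, n, hn, b', hb', rfl⟩ := exists_BNB hS g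
  obtain ⟨u', hu', h', hh', rfl⟩ := mem_B hS hb'
  obtain ⟨u, hu, h, hh, rfl⟩ := mem_B hS hb
  have hh'' : h' * ((n * h')⁻¹ * h * (n * h')) ∈ S.H := mul_mem hh' (by
    simpa using conj_mem_H hS hsep (inv_mem (mul_mem hn (H_le_N hh'))) hh)
  obtain ⟨c, hc⟩ := hH _ hh''
  have hu'' : h'⁻¹ * u' * h' ∈ S.Uplus := by simpa using H_conj_Uplus hS (inv_mem hh') hu'
  have e : u * h * n * (u' * h') =
      u * n * (h' * ((n * h')⁻¹ * h * (n * h'))) * (h'⁻¹ * u' * h') := by group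
  rw [e, rho_mul, hU _ hu'', rho_mul, hc, map_smul, rho_mul]
  exact Submodule.smul_mem _ _ (spanU_stable _ _ hu
    (rho_N_mem_span hS hsep hU hH huniq hT htop ⟨n, hn⟩))

/-! ### orbit sums -/

variable (S) in
/-- the `U`-orbit of the coset `g U` -/
noncomputable def orb (g : G) : Finset (G ⧸ S.Uplus) :=
  haveI := Fintype.ofFinite (G ⧸ S.Uplus)
  Finset.univ.filter fun z => ∃ u ∈ S.Uplus, z = ((u * g : G) : G ⧸ S.Uplus)

theorem mem_orb {g : G} {z : G ⧸ S.Uplus} :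
    z ∈ orb S g ↔ ∃ u ∈ S.Uplus, z = ((u * g : G) : G ⧸ S.Uplus) := by
  simp [orb]

variable (S) in
/-- the orbit sum applied to a `U`-fixed vector -/
noncomputable def orbSum (ρ : Representation k G V) (g : G) (v : V) : V :=
  ∑ z ∈ orb S g, ρ z.out v

include hU in
theorem rho_out (g : G) : ρ (g : G ⧸ S.Uplus).out v = ρ g v := by
  obtain ⟨u, hu⟩ := QuotientGroup.mk_out_eq_mul S.Uplus g
  rw [hu, rho_mul, hU _ u.2]

include hS hsep hU in
theorem uT_orbSum (i : ι) (n : (pair hS hsep).N) {π : Equiv.Perm R} (hπ : S.Acts (n : G) π)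
    (hp : S.pos (π⁻¹ (S.a i))) :
    uT S ρ i (orbSum S ρ (n : G) v) = orbSum S ρ (S.n i * (n : G)) v := by
  haveI := Fintype.ofFinite (S.U (S.a i))
  rw [uT_apply]
  simp only [orbSum, map_sum]
  rw [← Finset.sum_product']
  refine Finset.sum_bij (fun w _ => ((w.1 * S.n i * w.2.out : G) : G ⧸ S.Uplus)) ?_ ?_ ?_ ?_
  · rintro ⟨x, z⟩ hz
    obtain ⟨u, hu, rfl⟩ := mem_orb.1 (Finset.mem_product.1 hz).2
    obtain ⟨u₂, hu₂⟩ := QuotientGroup.mk_out_eq_mul S.Uplus (u * (n : G))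
    obtain ⟨v', hv', x', hx', rfl⟩ := Uplus_split hS i hu
    have hx'' : (n : G)⁻¹ * x' * n ∈ S.Uplus := by
      have := acts_conj_mem (acts_inv hπ) hx'
      rw [inv_inv] at this
      exact U_le_Uplus hp this
    refine mem_orb.2 ⟨x * (S.n i * v' * (S.n i)⁻¹),
      mul_mem (U_le_Uplus (hS.pos_a i) x.2) (Uhat_le_Uplus i (n_conj_Uhat hS i hv')), ?_⟩
    rw [QuotientGroup.eq, hu₂]
    have e : ((x : G) * S.n i * (v' * x' * (n : G) * u₂))⁻¹ *
        ((x : G) * (S.n i * v' * (S.n i)⁻¹) * (S.n i * n)) =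
        (u₂ : G)⁻¹ * ((n : G)⁻¹ * x' * n)⁻¹ := by group
    rw [e]
    exact mul_mem (inv_mem u₂.2) (inv_mem hx'')
  · rintro ⟨x, z⟩ hz ⟨x', z'⟩ hz' e
    simp only at e
    obtain ⟨u, hu, rfl⟩ := mem_orb.1 (Finset.mem_product.1 hz).2
    obtain ⟨u', hu', rfl⟩ := mem_orb.1 (Finset.mem_product.1 hz').2
    obtain ⟨t, ht⟩ := QuotientGroup.mk_out_eq_mul S.Uplus (u * (n : G))
    obtain ⟨t', ht'⟩ := QuotientGroup.mk_out_eq_mul S.Uplus (u' * (n : G))
    have hb := QuotientGroup.eq.1 e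
    rw [ht, ht'] at hb
    set y := (S.n i)⁻¹ * ((x : G)⁻¹ * x') * S.n i with hy
    have hyU : y ∈ S.U (S.neg (S.a i)) := by
      have := acts_conj_mem (acts_inv (acts_n hS i)) (mul_mem (inv_mem x.2) x'.2)
      rwa [inv_inv, sigma_inv hS, hS.sigma_a] at this
    have hy1 : y = 1 := by
      by_contra hne
      obtain ⟨x₁, hx₁, h, hh, x₂, hx₂, e'⟩ := hS.rankone i y hyU hne
      have hcell : y ∈ H56.cellW (pair hS hsep) (simW (pair hS hsep) (gen hS hsep i)) := by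
        rw [H56.cellW_simW]
        refine (H56.mem_cell (pair hS hsep)).2 ⟨x₁ * h, mul_mem (Uplus_le_B (U_le_Uplus (hS.pos_a i) hx₁)) (H_le_B hh),
          x₂, Uplus_le_B (U_le_Uplus (hS.pos_a i) hx₂), ?_⟩
        exact e'
      have hun : u' * (n : G) * t' ∈ H56.cellW (pair hS hsep) (toW (pair hS hsep) n) := by
        rw [H56.cellW_toW]
        exact H56.mul_mem_cell (pair hS hsep) (Uplus_le_B hu' : u' ∈ (pair hS hsep).B) (Uplus_le_B t'.2 : (t' : G) ∈ (pair hS hsep).B)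
      have hup := not_down_left hS hsep i n hπ hp
      have h1 := H56.simW_mul_mem_of_le (pair hS hsep) hup.le hcell hun
      have h2 : y * (u' * (n : G) * t') ∈ H56.cellW (pair hS hsep) (toW (pair hS hsep) n) := by
        rw [H56.cellW_toW]
        have e2 : y * (u' * (n : G) * t') = u * (n : G) * ((t : G) *
            ((x * S.n i * (u * (n : G) * t))⁻¹ * (x' * S.n i * (u' * (n : G) * t')))) := by
          rw [hy]; group
        rw [e2]
        exact H56.mul_mem_cell (pair hS hsep) (Uplus_le_B hu : u ∈ (pair hS hsep).B)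
          (Uplus_le_B (mul_mem t.2 hb) : _ ∈ (pair hS hsep).B)
      exact H56.simW_ne_one (pair hS hsep) _ (mul_eq_right.1 (H56.eq_of_mem_cellW (pair hS hsep) h1 h2))
    have hxx : x = x' := by
      apply Subtype.ext
      have : (x : G)⁻¹ * x' = 1 := by
        calc (x : G)⁻¹ * x' = S.n i * y * (S.n i)⁻¹ := by rw [hy]; group
          _ = 1 := by rw [hy1]; group
      exact inv_mul_eq_one.1 this
    subst hxx
    refine Prod.ext rfl ?_
    show ((u * (n : G) : G) : G ⧸ S.Uplus) = ((u' * (n : G) : G) : G ⧸ S.Uplus)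
    rw [QuotientGroup.eq]
    have e3 : (u * (n : G))⁻¹ * (u' * (n : G)) = (t : G) *
        ((x * S.n i * (u * (n : G) * t))⁻¹ * (x * S.n i * (u' * (n : G) * t'))) * (t' : G)⁻¹ := by group
    rw [e3]
    exact mul_mem (mul_mem t.2 hb) (inv_mem t'.2)
  · intro z hz
    obtain ⟨u, hu, rfl⟩ := mem_orb.1 hz
    obtain ⟨v', hv', x, hx, e⟩ := Uplus_split hS i hu
    set x0 : S.U (S.a i) := ⟨x, hx⟩
    set w := (S.n i)⁻¹ * (x⁻¹ * v' * x) * S.n i with hw
    have hw' : w ∈ S.Uplus :=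
      Uhat_le_Uplus i (n_inv_conj_Uhat hS i (by simpa using Ua_conj_Uhat hS i (inv_mem hx) hv'))
    obtain ⟨t, ht⟩ := QuotientGroup.mk_out_eq_mul S.Uplus (w * (n : G))
    refine ⟨(x0, ((w * (n : G) : G) : G ⧸ S.Uplus)),
      Finset.mem_product.2 ⟨Finset.mem_univ _, mem_orb.2 ⟨w, hw', rfl⟩⟩, ?_⟩
    show (((x : G) * S.n i * _ : G) : G ⧸ S.Uplus) = _
    rw [ht, QuotientGroup.eq, e]
    have e4 : ((x : G) * S.n i * (w * (n : G) * t))⁻¹ * (v' * x * (S.n i * n)) = (t : G)⁻¹ := by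
      rw [hw]; group
    rw [e4]
    exact inv_mem t.2
  · intro a ha
    rw [rho_out hU, rho_mul _ ((a.1 : G) * S.n i)]

include hS in
theorem orb_smul {u : G} (hu : u ∈ S.Uplus) (g : G) :
    Finset.image (fun z => u • z) (orb S g) = orb S g := by
  ext z
  rw [Finset.mem_image]
  constructor
  · rintro ⟨z', hz', rfl⟩
    obtain ⟨u', hu', rfl⟩ := mem_orb.1 hz'
    exact mem_orb.2 ⟨u * u', mul_mem hu hu', by rw [MulAction.Quotient.smul_coe, smul_eq_mul, mul_assoc]⟩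
  · intro hz
    obtain ⟨u', hu', rfl⟩ := mem_orb.1 hz
    exact ⟨((u⁻¹ * u' * g : G) : G ⧸ S.Uplus), mem_orb.2 ⟨u⁻¹ * u', mul_mem (inv_mem hu) hu', rfl⟩, by
      rw [MulAction.Quotient.smul_coe, smul_eq_mul]; congr 1; group⟩

include hS hU in
theorem orbSum_fixed (g : G) : UFix S ρ (orbSum S ρ g v) := by
  intro u hu
  rw [orbSum, map_sum]
  conv_rhs => rw [← orb_smul hS hu g, Finset.sum_image (fun _ _ _ _ h => MulAction.injective u h)]
  refine Finset.sum_congr rfl fun z _ => ?_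
  induction z using QuotientGroup.induction_on with | _ a => ?_
  show ρ u (ρ (a : G ⧸ S.Uplus).out v) = ρ ((u * a : G) : G ⧸ S.Uplus).out v
  rw [rho_out hU, rho_out hU, rho_mul]

include hS hsep hU hH in
theorem orbSum_hEig (n : (pair hS hsep).N) : HEig S ρ (orbSum S ρ (n : G) v) := by
  intro h hh
  set h' := (n : G)⁻¹ * h * n with hh'
  have hh'H : h' ∈ S.H := by
    simpa [hh'] using conj_mem_H hS hsep (inv_mem (show (n : G) ∈ S.N from n.2)) hh
  obtain ⟨c, hc⟩ := hH _ hh'H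
  refine ⟨c, ?_⟩
  rw [orbSum, map_sum, Finset.smul_sum]
  refine Finset.sum_bij (fun z _ => ((h * z.out * h'⁻¹ : G) : G ⧸ S.Uplus)) ?_ ?_ ?_ ?_
  · intro z hz
    obtain ⟨u, hu, rfl⟩ := mem_orb.1 hz
    obtain ⟨t, ht⟩ := QuotientGroup.mk_out_eq_mul S.Uplus (u * (n : G))
    refine mem_orb.2 ⟨h * u * h⁻¹, H_conj_Uplus hS hh hu, ?_⟩
    rw [ht, QuotientGroup.eq]
    have e : (h * (u * (n : G) * t) * h'⁻¹)⁻¹ * (h * u * h⁻¹ * n) = h' * (t : G)⁻¹ * h'⁻¹ := by
      rw [hh']; group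
    rw [e]
    exact H_conj_Uplus hS hh'H (inv_mem t.2)
  · intro z _ z' _ e
    have e' := QuotientGroup.eq.1 e
    rw [← z.out_eq', ← z'.out_eq', QuotientGroup.eq]
    have : z.out⁻¹ * z'.out = h'⁻¹ * ((h * z.out * h'⁻¹)⁻¹ * (h * z'.out * h'⁻¹)) * h' := by group
    rw [this]
    simpa using H_conj_Uplus hS (inv_mem hh'H) e'
  · intro z hz
    obtain ⟨u, hu, rfl⟩ := mem_orb.1 hz
    have hu' : h⁻¹ * u * h ∈ S.Uplus := by simpa using H_conj_Uplus hS (inv_mem hh) hu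
    obtain ⟨t, ht⟩ := QuotientGroup.mk_out_eq_mul S.Uplus (h⁻¹ * u * h * (n : G))
    refine ⟨_, mem_orb.2 ⟨h⁻¹ * u * h, hu', rfl⟩, ?_⟩
    rw [ht, QuotientGroup.eq]
    have e : (h * (h⁻¹ * u * h * (n : G) * t) * h'⁻¹)⁻¹ * (u * n) = h' * (t : G)⁻¹ * h'⁻¹ := by
      rw [hh']; group
    rw [e]
    exact H_conj_Uplus hS hh'H (inv_mem t.2)
  · intro z _
    rw [rho_out hU, ← map_smul, ← hc, ← rho_mul, ← rho_mul]
    rw [inv_mul_cancel_right]

include hS hsep hU hH in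
/-- In the characteristic of the root groups `T_i` is idempotent up to a scalar on weight vectors. -/
theorem uT_uT (i : ι) (hq : (Nat.card (S.U (S.a i)) : k) = 0) :
    ∃ c : k, uT S ρ i (uT S ρ i v) = c • uT S ρ i v := by
  haveI := Fintype.ofFinite (S.U (S.a i))
  obtain ⟨c₂, hc₂⟩ := hH _ (hS.n_sq i)
  have hterm : ∀ x' : S.U (S.a i), x' ≠ 1 → ∃ x₁ : S.U (S.a i), ∃ c : k,
      ρ (S.n i) (ρ ((x' : G) * S.n i) v) = c • ρ ((x₁ : G) * S.n i) v := by
    intro x' hx'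
    obtain ⟨x₁, hx₁, h, hh, x₂, hx₂, e⟩ := neg_rankone hS i x'.2 fun e => hx' (Subtype.ext e)
    obtain ⟨c, hc⟩ := hH ((S.n i)⁻¹ * h * S.n i) (by
      simpa using conj_mem_H hS hsep (inv_mem (n_mem_N (S := S) i)) hh)
    refine ⟨⟨x₁, hx₁⟩, c₂ * c, ?_⟩
    rw [← rho_mul, show S.n i * ((x' : G) * S.n i) = (S.n i * x' * (S.n i)⁻¹) * (S.n i * S.n i) by group,
      e, rho_mul, hc₂, map_smul, rho_mul _ _ x₂, hU _ (U_le_Uplus (hS.pos_a i) hx₂),
      show x₁ * h * S.n i = x₁ * S.n i * ((S.n i)⁻¹ * h * S.n i) by group, rho_mul, hc, map_smul,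
      smul_smul]
  choose x₁ c hc using hterm
  refine ⟨∑ x' ∈ (Finset.univ.erase (1 : S.U (S.a i))).attach,
    c x'.1 (Finset.mem_erase.1 x'.2).1, ?_⟩
  conv_lhs => rw [uT_apply ρ i v, map_sum]
  rw [← Finset.add_sum_erase _ _ (Finset.mem_univ (1 : S.U (S.a i))), ← Finset.sum_attach]
  have h1 : uT S ρ i (ρ (((1 : S.U (S.a i)) : G) * S.n i) v) = 0 := by
    rw [uT_apply]
    have : ∀ x : S.U (S.a i), ρ ((x : G) * S.n i) (ρ (((1 : S.U (S.a i)) : G) * S.n i) v) = c₂ • v := by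
      intro x
      rw [OneMemClass.coe_one, one_mul, rho_mul, ← rho_mul ρ (S.n i), hc₂, map_smul,
        hU _ (U_le_Uplus (hS.pos_a i) x.2)]
    rw [Finset.sum_congr rfl fun x _ => this x, Finset.sum_const, Finset.card_univ,
      ← Nat.card_eq_fintype_card, ← Nat.cast_smul_eq_nsmul k, hq, zero_smul]
  rw [h1, zero_add, Finset.sum_smul]
  refine Finset.sum_congr rfl fun x' _ => ?_
  rw [uT_apply, uT_apply, Finset.smul_sum]
  refine Fintype.sum_equiv (Equiv.mulRight (x₁ x'.1 (Finset.mem_erase.1 x'.2).1)) _ _ fun x => ?_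
  rw [rho_mul _ (x : G), hc x'.1 (Finset.mem_erase.1 x'.2).1, map_smul, ← rho_mul]
  simp [mul_assoc]

theorem exists_common_eigen {ι' : Type*} [FiniteDimensional k V] [IsAlgClosed k]
    (f : ι' → Module.End k V) (hcomm : ∀ a b, f a * f b = f b * f a) :
    ∀ (s : Finset ι') (W : Submodule k V), W ≠ ⊥ → (∀ a, ∀ w ∈ W, f a w ∈ W) →
      ∃ w ∈ W, w ≠ 0 ∧ ∀ a ∈ s, ∃ c : k, f a w = c • w := by
  intro s
  induction s using Finset.induction with
  | empty =>
    intro W hW _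
    obtain ⟨w, hw, hw0⟩ := W.exists_mem_ne_zero_of_ne_bot hW
    exact ⟨w, hw, hw0, by simp⟩
  | insert b s _ ih =>
    intro W hW hst
    haveI : Nontrivial W := Submodule.nontrivial_iff_ne_bot.2 hW
    obtain ⟨c, hc⟩ := Module.End.exists_eigenvalue ((f b).restrict (hst b))
    obtain ⟨⟨w, hw⟩, hev⟩ := hc.exists_hasEigenvector
    have h1 : f b w = c • w := congrArg Subtype.val hev.apply_eq_smul
    have h2 : w ≠ 0 := fun e => hev.2 (Subtype.ext e)
    have hne : W ⊓ LinearMap.ker (f b - c • 1) ≠ ⊥ := fun e => h2 (by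
      rw [← Submodule.mem_bot (R := k), ← e]
      exact ⟨hw, by simp [h1]⟩)
    obtain ⟨z, ⟨hz, hzb⟩, hz0, hzs⟩ := ih _ hne fun a z hz => ⟨hst a z hz.1, by
      have h3 : f b z = c • z := by simpa [sub_eq_zero] using hz.2
      rw [SetLike.mem_coe, LinearMap.mem_ker, LinearMap.sub_apply, ← Module.End.mul_apply, ← hcomm, Module.End.mul_apply,
        h3, map_smul, LinearMap.smul_apply, Module.End.one_apply, sub_self]⟩
    refine ⟨z, hz, hz0, fun a ha => ?_⟩
    rcases Finset.mem_insert.1 ha with rfl | ha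
    · exact ⟨c, by simpa [sub_eq_zero] using hzb⟩
    · exact hzs a ha

include hS hsep in
/-- Existence of a weight vector in a non-zero stable subspace. -/
theorem exists_weight {p : ℕ} [Fact p.Prime] [CharP k p] [FiniteDimensional k V] [IsAlgClosed k]
    (hUp : IsPGroup p S.Uplus) (hq : ∀ i, (Nat.card (S.U (S.a i)) : k) = 0)
    (hcomm : ∀ a ∈ S.H, ∀ b ∈ S.H, a * b = b * a)
    (W : Submodule k V) (hW : W ≠ ⊥) (hst : ∀ g, ∀ w ∈ W, ρ g w ∈ W) :
    ∃ v ∈ W, v ≠ 0 ∧ UFix S ρ v ∧ HEig S ρ v ∧ TEig S ρ v := by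
  haveI := Fintype.ofFinite (H56.Weyl (pair hS hsep))
  haveI : Nontrivial W := Submodule.nontrivial_iff_ne_bot.2 hW
  let σ : S.Uplus →* Module.End k W :=
    { toFun := fun u => (ρ u).restrict (hst u)
      map_one' := LinearMap.ext fun w => Subtype.ext (by simp)
      map_mul' := fun a b => LinearMap.ext fun w => Subtype.ext (by simp [LinearMap.restrict_apply]) }
  obtain ⟨⟨w₀, hw₀⟩, hw0, hfix⟩ := H35.exists_fixed_vector hUp σ
  let W' : Submodule k V := W ⊓ ⨅ u : S.Uplus, LinearMap.ker (ρ (u : G) - 1)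
  have hW'mem : ∀ w, w ∈ W' ↔ w ∈ W ∧ UFix S ρ w := fun w => by
    simp [W', UFix, sub_eq_zero, Submodule.mem_inf]
  have hW' : W' ≠ ⊥ := fun e => hw0 (Subtype.ext ((Submodule.mem_bot (R := k)).1 (e ▸ (hW'mem w₀).2
    ⟨hw₀, fun u hu => congrArg Subtype.val (hfix ⟨u, hu⟩)⟩)))
  obtain ⟨v, hv, hv0, hvH⟩ := exists_common_eigen (fun h : S.H => ρ (h : G))
    (fun a b => by rw [← map_mul, ← map_mul, hcomm _ a.2 _ b.2]) (@Finset.univ _ (Fintype.ofFinite _))
    W' hW' (fun h w hw => by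
      rw [hW'mem] at hw ⊢
      refine ⟨hst _ w hw.1, fun u hu => ?_⟩
      rw [← rho_mul, show u * (h : G) = (h : G) * ((h : G)⁻¹ * u * h) by group, rho_mul,
        hw.2 _ (by simpa using H_conj_Uplus hS (inv_mem h.2) hu)])
  rw [hW'mem] at hv
  have hU' : UFix S ρ v := hv.2
  have hH' : HEig S ρ v := fun h hh => hvH ⟨h, hh⟩ (@Finset.mem_univ _ (Fintype.ofFinite _) _)
  -- orbit sums of maximal length
  have hone : orbSum S ρ ((1 : (pair hS hsep).N) : G) v = v := by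
    have : orb S ((1 : (pair hS hsep).N) : G) = {((1 : G) : G ⧸ S.Uplus)} := by
      ext z
      rw [mem_orb, Finset.mem_singleton]
      constructor
      · rintro ⟨u, hu, rfl⟩
        exact QuotientGroup.eq.2 (by simpa using inv_mem hu)
      · rintro rfl
        exact ⟨1, one_mem _, by simp⟩
    rw [orbSum, this, Finset.sum_singleton, rho_out hU', map_one]
    rfl
  haveI : Fintype (pair hS hsep).N := Fintype.ofFinite _
  obtain ⟨n, hn, hmax⟩ := (Finset.univ.filter fun n : (pair hS hsep).N => orbSum S ρ (n : G) v ≠ 0).exists_max_image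
    (fun n => lenW (pair hS hsep) (toW (pair hS hsep) n)) ⟨1, Finset.mem_filter.2 ⟨Finset.mem_univ _, by rw [hone]; exact hv0⟩⟩
  simp only [Finset.mem_filter, Finset.mem_univ, true_and] at hn hmax
  refine ⟨orbSum S ρ (n : G) v, Submodule.sum_mem _ fun z _ => hst _ v hv.1, hn,
    orbSum_fixed hS hU' _, orbSum_hEig hS hsep hU' hH' n, fun i => ?_⟩
  obtain ⟨π, hπ⟩ := exists_acts hS (show (n : G) ∈ S.N from n.2)
  by_cases hp : S.pos (π⁻¹ (S.a i))
  · refine ⟨0, ?_⟩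
    rw [uT_orbSum hS hsep hU' i n hπ hp, zero_smul]
    by_contra hne
    have h1 := hmax (⟨S.n i, n_mem_N i⟩ * n) hne
    rw [map_mul, ← gen_toW hS hsep i] at h1
    exact absurd (not_down_left hS hsep i n hπ hp) (not_lt.2 h1)
  · set n' : (pair hS hsep).N := ⟨S.n i, n_mem_N i⟩⁻¹ * n with hn'
    have hπ' : S.Acts (n' : G) (S.σ i * π) := by
      have h := acts_mul (acts_inv (acts_n hS i)) hπ
      rwa [sigma_inv hS] at h
    have e : orbSum S ρ (n : G) v = uT S ρ i (orbSum S ρ (n' : G) v) := by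
      rw [uT_orbSum hS hsep hU' i n' hπ' (pos_of_up' hS i hπ hp)]
      congr 1
      show (n : G) = S.n i * ((S.n i)⁻¹ * (n : G))
      group
    rw [e]
    exact uT_uT hS hsep (orbSum_fixed hS hU' _) (orbSum_hEig hS hsep hU' hH' n') i (hq i)

end H21.UW
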