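import Cfsg.Agent.H21.WeightExist
import Mathlib.FieldTheory.IsSepClosed

/-!
The number of `p`-regular classes of a finite group with a root group system whose torus is parametrised by
`ι → Fˣ` is `|F| ^ |ι|`.
-/

set_option autoImplicit false
set_option linter.unusedSectionVars false
set_option linter.style.haveILetI false
set_option maxHeartbeats 200000

namespace H21.Wt

open H53 (RootGroupSys)
open H53.RootGroupSys
open H56 (toW)
open H21.TW
open scoped Classical

variable {G : Type*} [Group G] [Fintype G] {ι R : Type*} [Fintype ι] [DecidableEq ι] [Finite R]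
  {S : RootGroupSys G ι R} {F : Type*} [Field F] [Fintype F]
  {p : ℕ} [hp : Fact p.Prime] [CharP F p]

/-- the weights -/
abbrev Wts (ι F k : Type*) [Field F] [Field k] : Type _ :=
  {w : (ι → Fˣ →* kˣ) × Finset ι // ∀ i ∈ w.2, w.1 i = 1}

/-- weights coordinatewise -/
noncomputable def wtsEquiv (k : Type*) [Field k] : Wts ι F k ≃ (ι → Option (Fˣ →* kˣ)) where
  toFun w i := if i ∈ w.1.2 then none else some (w.1.1 i)
  invFun o := ⟨(fun i => (o i).getD 1, Finset.univ.filter fun i => o i = none), fun i hi => by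
    simp [(Finset.mem_filter.1 hi).2]⟩
  left_inv := fun ⟨⟨χ, J⟩, hJ⟩ => by
    refine Subtype.ext (Prod.ext (funext fun i => ?_) (Finset.ext fun i => ?_))
    · by_cases hi : i ∈ J
      · have h1 : χ i = 1 := hJ i hi
        simp [hi, h1]
      · simp [hi]
    · simp
  right_inv o := by
    funext i
    simp only [Finset.mem_filter, Finset.mem_univ, true_and]
    rcases h : o i with - | χ <;> simp

theorem card_hom (k : Type*) [Field k] [IsAlgClosed k] [CharP k p] :
    Nat.card (Fˣ →* kˣ) = Fintype.card F - 1 := by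
  haveI : NeZero ((Monoid.exponent Fˣ : ℕ) : k) := ⟨fun h => by
    rw [CharP.cast_eq_zero_iff k p] at h
    have hd : p ∣ Fintype.card F - 1 := by
      rw [← Fintype.card_units]
      exact h.trans Group.exponent_dvd_card
    obtain ⟨f, -, hf⟩ := FiniteField.card F p
    have hpq : p ∣ Fintype.card F := hf ▸ dvd_pow_self p f.ne_zero
    have h5 := Nat.dvd_sub hpq hd
    rw [show Fintype.card F - (Fintype.card F - 1) = 1 by have := Fintype.card_pos (α := F); omega] at h5
    exact hp.out.not_dvd_one h5⟩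
  rw [CommGroup.card_monoidHom_of_hasEnoughRootsOfUnity, Nat.card_eq_fintype_card, Fintype.card_units]

variable (D : TorusData S F) (hS : S.Axioms) (hsep : Sep S) (hUp : IsPGroup p S.Uplus)

include D hS hsep hUp in
theorem card_regCl (hasc : ∀ π ∈ S.W, (∃ r, S.pos r ∧ S.pos (π r)) → ∃ i, S.pos (π (S.a i)))
    (hex : ∃ n : (pair hS hsep).N, IsTop (pair hS hsep) (toW _ n)) :
    Nat.card (BC.RegCl p G) = Fintype.card F ^ Fintype.card ι := by
  let k := AlgebraicClosure (ZMod p)
  haveI : CharP k p := charP_of_injective_algebraMap (algebraMap (ZMod p) k).injective p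
  obtain ⟨n₀, htop⟩ := hex
  have huniq := H21.top_unique hS hsep hasc
  obtain ⟨π₀, hπ₀⟩ := exists_acts hS (show (n₀ : G) ∈ S.N from n₀.2)
  have hneg := H21.neg_of_isTop hS hsep hasc hπ₀ htop
  have hq : (Fintype.card F : k) = 0 := card_cast p
  have hex' : ∀ w : Wts ι F k, ∃ (n : ℕ) (σ : Representation k G (Fin n → k)) (v : Fin n → k),
      σ.IsIrreducible ∧ v ≠ 0 ∧ IsW S D w.1.1 w.1.2 σ v := by
    intro w
    obtain ⟨f, hf0, hf⟩ := exists_weight_fun (k := k) D hS hsep hUp hπ₀ hneg w.1.1 w.1.2 w.2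
    obtain ⟨M, hvM, hM, Z, hZ, hirr, hne⟩ := exists_simple_quot (rrep k G) hf0
    have hsub : IsW S D w.1.1 w.1.2 (H85.Cyc.subR (rrep k G) M hM) ⟨f, hvM⟩ := by
      refine ⟨fun u hu => Subtype.ext (hf.1 u hu), fun i t => Subtype.ext (hf.2.1 i t), fun i => Subtype.ext ?_⟩
      haveI := Fintype.ofFinite (S.U (S.a i))
      rw [Submodule.coe_smul, ← hf.2.2 i, UW.uT_apply, UW.uT_apply, Submodule.coe_sum]
      rfl
    have hquot := hsub.map (H85.Cyc.quotR _ Z hZ) Z.mkQ fun g x => rfl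
    haveI := hirr
    obtain ⟨σ, hσ, e, he, -⟩ := BC.exists_fin (H85.Cyc.quotR _ Z hZ)
    exact ⟨_, σ, e (Z.mkQ ⟨f, hvM⟩), hσ, fun h => hne (e.map_eq_zero_iff.1 h), hquot.map σ e.toLinearMap he⟩
  choose n σ v hirr hv hw using hex'
  haveI : Finite (Fˣ →* kˣ) := Nat.finite_of_card_ne_zero (by
    rw [card_hom (p := p) k]
    have := Fintype.one_lt_card (α := F)
    omega)
  haveI : Finite (Wts ι F k) := Finite.of_equiv _ (wtsEquiv k).symm
  rw [← BC.card_eq (p := p) n σ hirr (fun ω ω' hne T hT => ?_) (fun m τ hτ => ?_),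
    Nat.card_congr (wtsEquiv k), Nat.card_fun, Finite.card_option, card_hom (p := p) k,
    Nat.sub_add_cancel Fintype.card_pos, Nat.card_eq_fintype_card]
  · by_contra h0
    haveI := hirr ω
    haveI := hirr ω'
    have hbij := H85.Cyc.bijective_of_hom (σ ω) (σ ω') hT h0
    have h1 : IsW S D ω'.1.1 ω'.1.2 (σ ω) (T (v ω')) := (hw ω').map (σ ω) T hT
    obtain ⟨c, hc⟩ := fixed_line (D := D) hS hsep hUp huniq htop (hv ω) (hw ω).1 h1.1
    have hT0 : T (v ω') ≠ 0 := fun h => hv ω' (hbij.1 (h.trans (map_zero T).symm))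
    obtain ⟨e1, e2⟩ := h1.unique hT0 (hc ▸ (hw ω).smul c)
    exact hne (Subtype.ext (Prod.ext e1.symm e2.symm))
  · haveI := hτ
    obtain ⟨u, hu0, hU, hH, hT⟩ := exists_weight' (D := D) hS hsep hUp (ρ := τ) (H85.Cyc.exists_ne_zero τ)
    obtain ⟨χ, J, hJ, hwt⟩ := exists_isW (D := D) hS hq hu0 hU hH hT
    haveI := hirr ⟨(χ, J), hJ⟩
    exact ⟨⟨(χ, J), hJ⟩, hom_of_weight (D := D) hS hsep hUp huniq htop τ (hv ⟨(χ, J), hJ⟩) (hw ⟨(χ, J), hJ⟩) hu0 hwt⟩

end H21.Wt
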