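import Cfsg.Agent.H21.Weights
import Mathlib.RingTheory.RootsOfUnity.EnoughRootsOfUnity
import Mathlib.GroupTheory.FiniteAbelian.Duality

/-!
Every weight occurs in a simple module, and the count of `p`-regular classes.
-/

set_option autoImplicit false
set_option linter.unusedSectionVars false
set_option linter.style.haveILetI false
set_option maxHeartbeats 200000

namespace H21.Wt

open H53 (RootGroupSys)
open H53.RootGroupSys
open H56 (toW)
open H21.TW
open scoped Classical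

variable {G : Type*} [Group G] [Fintype G] {ι R : Type*} [Fintype ι] [DecidableEq ι] [Finite R]
  {S : RootGroupSys G ι R} {F : Type*} [Field F] [Fintype F]
  {k : Type*} [Field k] {V : Type*} [AddCommGroup V] [Module k V]
  (D : TorusData S F)

/-- a character of the torus as a function on the group -/
noncomputable def lam (χ : ι → Fˣ →* kˣ) (g : G) : k := Lam χ (Function.invFun D.φ g)

theorem lam_φ (χ : ι → Fˣ →* kˣ) (x : ι → Fˣ) : lam D χ (D.φ x) = Lam χ x := by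
  rw [lam, Function.leftInverse_invFun D.inj x]

theorem lam_mul (χ : ι → Fˣ →* kˣ) {g g' : G} (hg : g ∈ S.H) (hg' : g' ∈ S.H) :
    lam D χ (g * g') = lam D χ g * lam D χ g' := by
  rw [← D.range_eq] at hg hg'
  obtain ⟨x, rfl⟩ := hg
  obtain ⟨y, rfl⟩ := hg'
  rw [← map_mul, lam_φ, lam_φ, lam_φ, map_mul, Units.val_mul]

theorem lam_h (χ : ι → Fˣ →* kˣ) (i : ι) (t : Fˣ) : lam D χ (D.h i t) = χ i t := by
  rw [TorusData.h, lam_φ, Lam_single]

theorem lam_one (χ : ι → Fˣ →* kˣ) : lam D χ 1 = 1 := by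
  rw [← map_one D.φ, lam_φ, map_one, Units.val_one]

include D in
theorem pow_H {h : G} (hh : h ∈ S.H) : h ^ Fintype.card Fˣ = 1 := by
  rw [← D.range_eq] at hh
  obtain ⟨x, rfl⟩ := hh
  rw [← map_pow, show x ^ Fintype.card Fˣ = 1 from funext fun i => pow_card_eq_one, map_one]

theorem lam_HK (χ : ι → Fˣ →* kˣ) {K : Finset ι} (hK : ∀ i ∈ K, χ i = 1) {g : G} (hg : g ∈ D.HK K) :
    lam D χ g = 1 := by
  suffices h : g ∈ S.H ∧ lam D χ g = 1 from h.2
  induction hg using Subgroup.closure_induction with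
  | mem g hg =>
    obtain ⟨i, hi, t, rfl⟩ := hg
    exact ⟨D.h_mem i t, by rw [lam_h, hK i hi]; rfl⟩
  | one => exact ⟨one_mem _, lam_one D χ⟩
  | mul x y _ _ hx hy => exact ⟨mul_mem hx.1 hy.1, by rw [lam_mul D χ hx.1 hy.1, hx.2, hy.2, one_mul]⟩
  | inv x _ hx =>
    refine ⟨inv_mem hx.1, ?_⟩
    have h := lam_mul D χ hx.1 (inv_mem hx.1)
    rwa [mul_inv_cancel, lam_one, hx.2, one_mul, eq_comm] at h

variable (hS : S.Axioms) (hsep : Sep S)
include hS hsep

theorem lam_n_conj (χ : ι → Fˣ →* kˣ) {i : ι} (hi : χ i = 1) {g : G} (hg : g ∈ S.H) :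
    lam D χ ((S.n i)⁻¹ * g * S.n i) = lam D χ g := by
  have key : ∀ x, lam D χ (S.n i * D.φ x * (S.n i)⁻¹) = lam D χ (D.φ x) := by
    have hm : ∀ x, S.n i * D.φ x * (S.n i)⁻¹ ∈ S.H := fun x => hS.n_norm i _ (D.range_eq ▸ ⟨x, rfl⟩)
    refine all_of_single (by simp) (fun x y hx hy => ?_) fun j t => ?_
    · rw [map_mul, show S.n i * (D.φ x * D.φ y) * (S.n i)⁻¹ =
        (S.n i * D.φ x * (S.n i)⁻¹) * (S.n i * D.φ y * (S.n i)⁻¹) by group, lam_mul D χ (hm x) (hm y), hx, hy,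
        lam_mul D χ (D.range_eq ▸ ⟨x, rfl⟩) (D.range_eq ▸ ⟨y, rfl⟩)]
    · rw [D.n_conj, ← map_mul, lam_φ, lam_φ, map_mul, Lam_single, Lam_single, hi]
      simp
  have hg' : (S.n i)⁻¹ * g * S.n i ∈ S.H := by
    simpa using UW.conj_mem_H hS hsep (inv_mem (n_mem_N i)) hg
  rw [← D.range_eq] at hg'
  obtain ⟨x, hx⟩ := hg'
  rw [← hx, ← key x, hx]
  congr 1
  group

theorem lam_nL_conj (χ : ι → Fˣ →* kˣ) : ∀ (L : List ι), (∀ i ∈ L, χ i = 1) → ∀ {g : G}, g ∈ S.H →
    lam D χ ((nL S L)⁻¹ * g * nL S L) = lam D χ g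
  | [], _, g, _ => by simp [nL]
  | i :: L, hL, g, hg => by
    rw [nL_cons, show (S.n i * nL S L)⁻¹ * g * (S.n i * nL S L) =
      (nL S L)⁻¹ * ((S.n i)⁻¹ * g * S.n i) * nL S L by group,
      lam_nL_conj χ L (fun j hj => hL j (List.mem_cons_of_mem _ hj))
        (by simpa using UW.conj_mem_H hS hsep (inv_mem (n_mem_N i)) hg),
      lam_n_conj D hS hsep χ (hL i List.mem_cons_self) hg]

variable {ρ : Representation k G V} {v : V}

omit hsep in
theorem orbSum_H_mul (hU : UW.UFix S ρ v) {h : G} (hh : h ∈ S.H) (n : G) :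
    UW.orbSum S ρ (h * n) v = ρ h (UW.orbSum S ρ n v) := by
  rw [UW.orbSum, UW.orbSum, map_sum]
  refine (Finset.sum_bij (fun z _ => h • z) ?_ ?_ ?_ ?_).symm
  · intro z hz
    obtain ⟨u, hu, rfl⟩ := UW.mem_orb.1 hz
    refine UW.mem_orb.2 ⟨h * u * h⁻¹, H_conj_Uplus hS hh hu, ?_⟩
    rw [MulAction.Quotient.smul_coe, smul_eq_mul]
    congr 1; group
  · intro z _ z' _ e
    exact MulAction.injective h e
  · intro z hz
    obtain ⟨u, hu, rfl⟩ := UW.mem_orb.1 hz
    refine ⟨((h⁻¹ * u * h * n : G) : G ⧸ S.Uplus), UW.mem_orb.2 ⟨h⁻¹ * u * h,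
      by simpa using H_conj_Uplus hS (inv_mem hh) hu, rfl⟩, ?_⟩
    rw [MulAction.Quotient.smul_coe, smul_eq_mul]
    congr 1; group
  · intro z _
    induction z using QuotientGroup.induction_on with
    | _ a =>
      rw [MulAction.Quotient.smul_coe, smul_eq_mul, UW.rho_out hU, UW.rho_out hU, ← UW.rho_mul]

omit hsep in
theorem orbSum_weight (hU : UW.UFix S ρ v) {n h : G} (hh : h ∈ S.H) (hh' : n⁻¹ * h * n ∈ S.H) {c : k}
    (hc : ρ (n⁻¹ * h * n) v = c • v) :
    ρ h (UW.orbSum S ρ n v) = c • UW.orbSum S ρ n v := by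
  rw [UW.orbSum, map_sum, Finset.smul_sum]
  set h' := n⁻¹ * h * n with hh'd
  refine Finset.sum_bij (fun z _ => ((h * z.out * h'⁻¹ : G) : G ⧸ S.Uplus)) ?_ ?_ ?_ ?_
  · intro z hz
    obtain ⟨u, hu, rfl⟩ := UW.mem_orb.1 hz
    obtain ⟨t, ht⟩ := QuotientGroup.mk_out_eq_mul S.Uplus (u * n)
    refine UW.mem_orb.2 ⟨h * u * h⁻¹, H_conj_Uplus hS hh hu, ?_⟩
    rw [ht, QuotientGroup.eq]
    have e : (h * (u * n * t) * h'⁻¹)⁻¹ * (h * u * h⁻¹ * n) = h' * (t : G)⁻¹ * h'⁻¹ := by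
      rw [hh'd]; group
    rw [e]
    exact H_conj_Uplus hS hh' (inv_mem t.2)
  · intro z _ z' _ e
    have e' := QuotientGroup.eq.1 e
    rw [← z.out_eq', ← z'.out_eq', QuotientGroup.eq]
    have : z.out⁻¹ * z'.out = h'⁻¹ * ((h * z.out * h'⁻¹)⁻¹ * (h * z'.out * h'⁻¹)) * h' := by group
    rw [this]
    simpa using H_conj_Uplus hS (inv_mem hh') e'
  · intro z hz
    obtain ⟨u, hu, rfl⟩ := UW.mem_orb.1 hz
    have hu' : h⁻¹ * u * h ∈ S.Uplus := by simpa using H_conj_Uplus hS (inv_mem hh) hu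
    obtain ⟨t, ht⟩ := QuotientGroup.mk_out_eq_mul S.Uplus (h⁻¹ * u * h * n)
    refine ⟨_, UW.mem_orb.2 ⟨h⁻¹ * u * h, hu', rfl⟩, ?_⟩
    rw [ht, QuotientGroup.eq]
    have e : (h * (h⁻¹ * u * h * n * t) * h'⁻¹)⁻¹ * (u * n) = h' * (t : G)⁻¹ * h'⁻¹ := by
      rw [hh'd]; group
    rw [e]
    exact H_conj_Uplus hS hh' (inv_mem t.2)
  · intro z _
    rw [UW.rho_out hU, ← map_smul, ← hc, ← UW.rho_mul, ← UW.rho_mul, inv_mul_cancel_right]

end H21.Wt

namespace H21.Wt

open H53 (RootGroupSys)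
open H53.RootGroupSys
open H56 (toW)
open H21.TW
open scoped Classical

variable {G : Type*} [Group G] [Fintype G] {ι R : Type*} [Fintype ι] [DecidableEq ι] [Finite R]
  {S : RootGroupSys G ι R} {F : Type*} [Field F] [Fintype F]
  {k : Type*} [Field k] (D : TorusData S F) (hS : S.Axioms) (hsep : Sep S)

/-- right translation on functions -/
def rrep (k : Type*) [Field k] (G : Type*) [Group G] : Representation k G (G → k) where
  toFun g := LinearMap.funLeft k k fun x => x * g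
  map_one' := LinearMap.ext fun f => funext fun x => by simp
  map_mul' g g' := LinearMap.ext fun f => funext fun x => by simp [mul_assoc]

theorem rrep_apply (g : G) (f : G → k) (x : G) : rrep k G g f x = f (x * g) := rfl

variable {p : ℕ} [hp : Fact p.Prime] [CharP F p] [CharP k p] (hUp : IsPGroup p S.Uplus)

include hS hsep in
omit [Finite R] in
theorem B_unique {u u' h h' : G} (hu : u ∈ S.Uplus) (hh : h ∈ S.H) (hu' : u' ∈ S.Uplus) (hh' : h' ∈ S.H)
    (e : u * h = u' * h') : u = u' ∧ h = h' := by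
  have h1 : u'⁻¹ * u ∈ S.Uplus ⊓ S.N := by
    refine Subgroup.mem_inf.2 ⟨mul_mem (inv_mem hu') hu, ?_⟩
    have : u'⁻¹ * u = h' * h⁻¹ := by
      calc u'⁻¹ * u = u'⁻¹ * (u * h) * h⁻¹ := by group
        _ = _ := by rw [e]; group
    rw [this]
    exact H_le_N (mul_mem hh' (inv_mem hh))
  rw [hsep.U_N, Subgroup.mem_bot, inv_mul_eq_one] at h1
  subst h1
  exact ⟨rfl, mul_left_cancel e⟩

include hS hsep hUp D in
/-- an element of `B` conjugate to an element of `U` is in `U` -/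
theorem mem_Uplus_of_conj {u n : G} (hu : u ∈ S.Uplus) (hb : n⁻¹ * u * n ∈ S.B) : n⁻¹ * u * n ∈ S.Uplus := by
  obtain ⟨u', hu', h', hh', e⟩ := mem_B hS hb
  have hpow : ∀ m : ℕ, ∃ w ∈ S.Uplus, (u' * h') ^ m = w * h' ^ m := by
    intro m
    induction m with
    | zero => exact ⟨1, one_mem _, by simp⟩
    | succ m ih =>
      obtain ⟨w, hw, e1⟩ := ih
      refine ⟨w * (h' ^ m * u' * (h' ^ m)⁻¹), mul_mem hw (H_conj_Uplus hS (pow_mem hh' m) hu'), ?_⟩
      rw [pow_succ (u' * h'), e1, pow_succ h']; group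
  obtain ⟨j, hj⟩ := hUp ⟨u, hu⟩
  have hj' : u ^ p ^ j = 1 := congrArg Subtype.val hj
  obtain ⟨w, hw, e1⟩ := hpow (p ^ j)
  have h0 : (u' * h') ^ p ^ j = 1 := by
    rw [← e, show n⁻¹ * u * n = MulAut.conj n⁻¹ u by simp, ← map_pow, hj', map_one]
  have h2 : h' ^ p ^ j = 1 := (B_unique hS hsep hw (pow_mem hh' _) (one_mem _) (one_mem _)
    (by rw [← e1, h0, one_mul])).2
  have h3 := pow_H D hh'
  have hcop : Nat.Coprime (p ^ j) (Fintype.card Fˣ) := by
    refine Nat.Coprime.pow_left j (hp.out.coprime_iff_not_dvd.2 fun hd => ?_)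
    rw [Fintype.card_units] at hd
    obtain ⟨f, -, hf⟩ := FiniteField.card F p
    have hpq : p ∣ Fintype.card F := hf ▸ dvd_pow_self p f.ne_zero
    have h5 := Nat.dvd_sub hpq hd
    rw [show Fintype.card F - (Fintype.card F - 1) = 1 by have := Fintype.card_pos (α := F); omega] at h5
    exact hp.out.not_dvd_one h5
  have h4 : h' = 1 := orderOf_eq_one_iff.1
    (Nat.eq_one_of_dvd_coprimes hcop (orderOf_dvd_of_pow_eq_one h2) (orderOf_dvd_of_pow_eq_one h3))
  rw [e, h4, mul_one]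
  exact hu'

variable {π₀ : Equiv.Perm R} {n₀ : (pair hS hsep).N} (hπ₀ : S.Acts (n₀ : G) π₀)
  (hneg : ∀ r, S.pos r → ¬ S.pos (π₀ r))

include hπ₀ hneg in
theorem pos_inv_top (s : R) : S.pos (π₀⁻¹ s) ↔ ¬ S.pos s := by
  constructor
  · intro h hs
    have := hneg _ h
    rw [← Equiv.Perm.mul_apply, mul_inv_cancel, Equiv.Perm.one_apply] at this
    exact this hs
  · intro hs
    by_contra h
    have h1 := hneg _ ((hS.pos_neg _).2 h)
    rw [W_neg hS hπ₀.1, hS.pos_neg, ← Equiv.Perm.mul_apply, mul_inv_cancel, Equiv.Perm.one_apply,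
      not_not] at h1
    exact hs h1

include hUp hπ₀ hneg in
/-- a function with a prescribed weight -/
theorem exists_weight_fun (χ : ι → Fˣ →* kˣ) (J : Finset ι) (hJ : ∀ i ∈ J, χ i = 1) :
    ∃ f : G → k, f ≠ 0 ∧ IsW S D χ J (rrep k G) f := by
  haveI := Fintype.ofFinite R
  set K : Finset ι := Finset.univ.filter fun i => χ i = 1 ∧ i ∉ J with hKd
  have hK : ∀ i ∈ K, χ i = 1 := fun i hi => (Finset.mem_filter.1 hi).2.1
  have hconjH : ∀ {n h : G}, n ∈ S.N → h ∈ S.H → n⁻¹ * h * n ∈ S.H := fun hn hh => by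
    simpa using UW.conj_mem_H hS hsep (inv_mem hn) hh
  have hn₀ : (n₀ : G) ∈ S.N := n₀.2
  set ν : G → k := fun g => lam D χ ((n₀ : G) * g * (n₀ : G)⁻¹) with hν
  have hν1 : ν 1 = 1 := by simp [hν, lam_one]
  have hνm : ∀ {g g' : G}, g ∈ S.H → g' ∈ S.H → ν (g * g') = ν g * ν g' := fun {g g'} hg hg' => by
    simp only [hν]
    rw [show (n₀ : G) * (g * g') * (n₀ : G)⁻¹ =
      ((n₀ : G) * g * (n₀ : G)⁻¹) * ((n₀ : G) * g' * (n₀ : G)⁻¹) by group,
      lam_mul D χ (UW.conj_mem_H hS hsep hn₀ hg) (UW.conj_mem_H hS hsep hn₀ hg')]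
  set e : G → k := fun x => if hx : x ∈ S.B then ν (mem_B hS hx).choose_spec.2.choose else 0 with he
  have he_spec : ∀ u ∈ S.Uplus, ∀ h ∈ S.H, e (u * h) = ν h := by
    intro u hu h hh
    have hx : u * h ∈ S.B := mul_mem (Uplus_le_B hu) (H_le_B hh)
    simp only [he, dif_pos hx]
    have h1 := (mem_B hS hx).choose_spec.2.choose_spec
    rw [← (B_unique hS hsep hu hh (mem_B hS hx).choose_spec.1 h1.1 h1.2).2]
  have he0 : ∀ x, x ∉ S.B → e x = 0 := fun x hx => dif_neg hx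
  have heU : UW.UFix S (rrep k G) e := by
    intro u hu
    funext x
    rw [rrep_apply]
    by_cases hx : x ∈ S.B
    · obtain ⟨u1, hu1, h1, hh1, rfl⟩ := mem_B hS hx
      rw [show u1 * h1 * u = (u1 * (h1 * u * h1⁻¹)) * h1 by group,
        he_spec _ (mul_mem hu1 (H_conj_Uplus hS hh1 hu)) _ hh1, he_spec _ hu1 _ hh1]
    · rw [he0 _ hx, he0 _ fun h => hx ((Subgroup.mul_mem_cancel_right _ (Uplus_le_B hu)).1 h)]
  have heH : ∀ h ∈ S.H, rrep k G h e = ν h • e := by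
    intro h hh
    funext x
    rw [rrep_apply, Pi.smul_apply, smul_eq_mul]
    by_cases hx : x ∈ S.B
    · obtain ⟨u1, hu1, h1, hh1, rfl⟩ := mem_B hS hx
      rw [mul_assoc u1, he_spec _ hu1 _ (mul_mem hh1 hh), he_spec _ hu1 _ hh1, hνm hh1 hh, mul_comm]
    · rw [he0 _ hx, he0 _ fun h' => hx ((Subgroup.mul_mem_cancel_right _ (H_le_B hh)).1 h'), mul_zero]
  set P : Finset (Equiv.Perm R) :=
    Finset.univ.filter fun π => ∃ L : List ι, (∀ x ∈ L, x ∈ K) ∧ pL S L = π with hPd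
  let wd : Equiv.Perm R → List ι := fun π =>
    if h : ∃ L : List ι, (∀ x ∈ L, x ∈ K) ∧ pL S L = π then h.choose else []
  have hwd : ∀ π ∈ P, (∀ x ∈ wd π, x ∈ K) ∧ pL S (wd π) = π := fun π hπ => by
    simp only [wd, dif_pos (Finset.mem_filter.1 hπ).2]
    exact (Finset.mem_filter.1 hπ).2.choose_spec
  have hP1 : (1 : Equiv.Perm R) ∈ P :=
    Finset.mem_filter.2 ⟨Finset.mem_univ _, [], fun x hx => absurd hx List.not_mem_nil, rfl⟩
  let nn : Equiv.Perm R → (pair hS hsep).N := fun π => ⟨nL S (wd π), nL_mem_N (wd π)⟩ * n₀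
  let Vv : Equiv.Perm R → (G → k) := fun π => UW.orbSum S (rrep k G) (nn π : G) e
  have hacts : ∀ π ∈ P, S.Acts (nn π : G) (π * π₀) := fun π hπ => by
    have := acts_mul (acts_nL hS (wd π)) hπ₀
    rwa [(hwd π hπ).2] at this
  -- the weight of a summand
  have hVw : ∀ π ∈ P, ∀ h ∈ S.H, rrep k G h (Vv π) = lam D χ h • Vv π := by
    intro π hπ h hh
    have hm := hconjH (nn π).2 hh
    refine orbSum_weight hS heU hh hm ?_
    rw [heH _ hm]
    congr 1
    show lam D χ ((n₀ : G) * (((nL S (wd π)) * (n₀ : G))⁻¹ * h * ((nL S (wd π)) * (n₀ : G))) * (n₀ : G)⁻¹) = _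
    rw [show (n₀ : G) * (((nL S (wd π)) * (n₀ : G))⁻¹ * h * ((nL S (wd π)) * (n₀ : G))) * (n₀ : G)⁻¹ =
      (nL S (wd π))⁻¹ * h * nL S (wd π) by group]
    exact lam_nL_conj D hS hsep χ _ (fun i hi => hK i ((hwd π hπ).1 i hi)) hh
  have hq : (Fintype.card F : k) = 0 := card_cast p
  -- descents
  have hdown : ∀ π ∈ P, ∀ i, ¬ S.pos ((π * π₀)⁻¹ (S.a i)) →
      UW.uT S (rrep k G) i (Vv π) = (if χ i = 1 then (-1 : k) else 0) • Vv π := by
    intro π hπ i hp'
    set n' : (pair hS hsep).N := ⟨S.n i, n_mem_N i⟩⁻¹ * nn π with hn'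
    have hπ' : S.Acts (n' : G) (S.σ i * (π * π₀)) := by
      have h := acts_mul (acts_inv (acts_n hS i)) (hacts π hπ)
      rwa [sigma_inv hS] at h
    have e1 : Vv π = UW.uT S (rrep k G) i (UW.orbSum S (rrep k G) (n' : G) e) := by
      rw [UW.uT_orbSum hS hsep heU i n' hπ' (UW.pos_of_up' hS i (hacts π hπ) hp')]
      show UW.orbSum S (rrep k G) (nn π : G) e = _
      congr 1
      show (nn π : G) = S.n i * ((S.n i)⁻¹ * (nn π : G))
      group
    let χi : Fˣ →* kˣ := (χ i).comp (invMonoidHom : Fˣ →* Fˣ)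
    have hw' : ∀ t, rrep k G (D.h i t) (UW.orbSum S (rrep k G) (n' : G) e) =
        (χi t : k) • UW.orbSum S (rrep k G) (n' : G) e := by
      intro t
      have hm := hconjH n'.2 (D.h_mem i t)
      refine orbSum_weight hS heU (D.h_mem i t) hm ?_
      rw [heH _ hm]
      congr 1
      show lam D χ ((n₀ : G) * (((S.n i)⁻¹ * (nL S (wd π) * (n₀ : G)))⁻¹ * D.h i t *
        ((S.n i)⁻¹ * (nL S (wd π) * (n₀ : G)))) * (n₀ : G)⁻¹) = _
      rw [show (n₀ : G) * (((S.n i)⁻¹ * (nL S (wd π) * (n₀ : G)))⁻¹ * D.h i t *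
        ((S.n i)⁻¹ * (nL S (wd π) * (n₀ : G)))) * (n₀ : G)⁻¹ =
        (nL S (wd π))⁻¹ * (S.n i * D.h i t * (S.n i)⁻¹) * nL S (wd π) by group,
        show S.n i * D.h i t * (S.n i)⁻¹ = D.h i t⁻¹ from D.n_conj_self i t,
        lam_nL_conj D hS hsep χ _ (fun j hj => hK j ((hwd π hπ).1 j hj)) (D.h_mem i _), lam_h]
      rfl
    have hiff : χi = 1 ↔ χ i = 1 := by
      constructor
      · intro h
        refine MonoidHom.ext fun t => ?_
        have := DFunLike.congr_fun h t⁻¹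
        simpa [χi] using this
      · intro h
        refine MonoidHom.ext fun t => ?_
        simp [χi, h]
    rw [e1, uT_uT_eq hS i hq (UW.orbSum_fixed hS heU _) hw', csum_eq hq]
    simp only [hiff]
  -- ascents
  have hup : ∀ π ∈ P, ∀ i ∈ K, S.pos ((π * π₀)⁻¹ (S.a i)) →
      S.σ i * π ∈ P ∧ UW.uT S (rrep k G) i (Vv π) = Vv (S.σ i * π) := by
    intro π hπ i hi hp'
    have hcons : ∀ x ∈ i :: wd π, x ∈ K := by
      simpa [hi] using (hwd π hπ).1
    have hmem : S.σ i * π ∈ P :=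
      Finset.mem_filter.2 ⟨Finset.mem_univ _, i :: wd π, hcons, by rw [pL_cons, (hwd π hπ).2]⟩
    refine ⟨hmem, ?_⟩
    show UW.uT S (rrep k G) i (UW.orbSum S (rrep k G) (nn π : G) e) = _
    rw [UW.uT_orbSum hS hsep heU i (nn π) (hacts π hπ) hp']
    set h := nL S (i :: wd π) * (nL S (wd (S.σ i * π)))⁻¹ with hhd
    have hh : h ∈ D.HK K := D.nL_div_mem_HK hS hsep hcons (hwd _ hmem).1
      (by rw [pL_cons, (hwd π hπ).2, (hwd _ hmem).2])
    have e1 : S.n i * (nn π : G) = h * (nn (S.σ i * π) : G) := by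
      show S.n i * (nL S (wd π) * (n₀ : G)) = h * (nL S (wd (S.σ i * π)) * (n₀ : G))
      rw [hhd, nL_cons]; group
    rw [e1, orbSum_H_mul hS heU (D.HK_le K hh)]
    show rrep k G h (Vv (S.σ i * π)) = _
    rw [hVw _ hmem h (D.HK_le K hh), lam_HK D χ hK hh, one_smul]
  have hKneg : ∀ π ∈ P, ∀ i, i ∉ K → ¬ S.pos ((π * π₀)⁻¹ (S.a i)) := by
    intro π hπ i hi
    rw [mul_inv_rev, Equiv.Perm.mul_apply, pos_inv_top hS hsep hπ₀ hneg, not_not,
      ← (hwd π hπ).2, ← pL_reverse hS]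
    exact D.pL_pos hS fun h => hi ((hwd π hπ).1 i (List.mem_reverse.1 h))
  refine ⟨∑ π ∈ P, Vv π, fun h0 => ?_, ?_, ?_, ?_⟩
  · -- non-vanishing
    have hval : ∀ π ∈ P, Vv π ((nn 1 : G)⁻¹) = if π = 1 then 1 else 0 := by
      intro π hπ
      show UW.orbSum S (rrep k G) (nn π : G) e ((nn 1 : G)⁻¹) = _
      rw [UW.orbSum, Finset.sum_apply]
      have hterm : ∀ u ∈ S.Uplus, ∀ t : G, t ∈ S.Uplus →
          e ((nn 1 : G)⁻¹ * (u * (nn π : G) * t)) = e ((nn 1 : G)⁻¹ * (u * (nn π : G))) := fun u _ t ht => by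
        rw [← mul_assoc]
        exact congrFun (heU t ht) _
      have hsame : ∀ u ∈ S.Uplus, (nn 1 : G)⁻¹ * (u * (nn π : G)) ∈ S.B → π = 1 := by
        intro u hu hb
        have hW : toW (pair hS hsep) (nn 1) = toW (pair hS hsep) (nn π) := by
          refine H56.eq_of_mem_cellW (pair hS hsep) (x := (nn π : G)) ?_ ?_
          · rw [H56.cellW_toW]
            refine (H56.mem_cell (pair hS hsep)).2 ⟨u⁻¹, inv_mem (Uplus_le_B hu), _, hb, ?_⟩
            group
          · rw [H56.cellW_toW]; exact H56.self_mem_cell _ _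
        have hmemH : (nn 1 : G)⁻¹ * (nn π : G) ∈ S.H := by
          rw [← BN_eq hS hsep]
          exact Subgroup.mem_inf.2 ⟨(H56.toW_eq_iff (pair hS hsep)).1 hW,
            mul_mem (inv_mem (show (nn 1 : G) ∈ S.N from (nn 1).2)) (show (nn π : G) ∈ S.N from (nn π).2)⟩
        have h1 := acts_mul (hacts 1 hP1) (acts_H hS hmemH)
        rw [mul_inv_cancel_left, mul_one, one_mul] at h1
        exact mul_eq_right.1 (acts_unique hS hsep (hacts π hπ) h1)
      by_cases h1 : π = 1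
      · subst h1
        rw [if_pos rfl, Finset.sum_eq_single (((1 : G) * (nn 1 : G) : G) : G ⧸ S.Uplus)]
        · rw [rrep_apply]
          obtain ⟨t, ht⟩ := QuotientGroup.mk_out_eq_mul S.Uplus ((1 : G) * (nn 1 : G))
          rw [ht, hterm 1 (one_mem _) t t.2, one_mul, inv_mul_cancel, ← mul_one (1 : G),
            he_spec 1 (one_mem _) 1 (one_mem _), hν1]
        · intro z hz hne
          obtain ⟨u, hu, rfl⟩ := UW.mem_orb.1 hz
          obtain ⟨t, ht⟩ := QuotientGroup.mk_out_eq_mul S.Uplus (u * (nn 1 : G))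
          rw [rrep_apply, ht, hterm u hu t t.2]
          refine he0 _ fun hb => hne (QuotientGroup.eq.2 ?_)
          rw [← mul_assoc] at hb
          have := inv_mem (mem_Uplus_of_conj D hS hsep hUp hu hb)
          rw [one_mul]
          simpa [mul_assoc] using this
        · exact fun h => absurd (UW.mem_orb.2 ⟨1, one_mem _, rfl⟩) h
      · rw [if_neg h1]
        refine Finset.sum_eq_zero fun z hz => ?_
        obtain ⟨u, hu, rfl⟩ := UW.mem_orb.1 hz
        obtain ⟨t, ht⟩ := QuotientGroup.mk_out_eq_mul S.Uplus (u * (nn π : G))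
        rw [rrep_apply, ht, hterm u hu t t.2]
        exact he0 _ fun hb => h1 (hsame u hu hb)
    have := congrFun h0 ((nn 1 : G)⁻¹)
    rw [Finset.sum_apply, Finset.sum_congr rfl hval, Finset.sum_ite_eq', if_pos hP1] at this
    exact one_ne_zero this
  · intro u hu
    rw [map_sum]
    exact Finset.sum_congr rfl fun π _ => UW.orbSum_fixed hS heU _ u hu
  · intro i t
    rw [map_sum, Finset.smul_sum]
    exact Finset.sum_congr rfl fun π hπ => by rw [hVw π hπ _ (D.h_mem i t), lam_h]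
  · intro i
    rw [map_sum, Finset.smul_sum]
    by_cases hi : i ∈ K
    · have hiJ : i ∉ J := (Finset.mem_filter.1 hi).2.2
      simp only [if_neg hiJ, zero_smul, Finset.sum_const_zero]
      rw [← Finset.sum_filter_add_sum_filter_not P (fun π => S.pos ((π * π₀)⁻¹ (S.a i))),
        Finset.sum_congr rfl fun π hπ => (hup π (Finset.mem_filter.1 hπ).1 i hi (Finset.mem_filter.1 hπ).2).2,
        Finset.sum_congr (s₁ := P.filter fun π => ¬ S.pos ((π * π₀)⁻¹ (S.a i))) rfl fun π hπ => by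
          rw [hdown π (Finset.mem_filter.1 hπ).1 i (Finset.mem_filter.1 hπ).2, if_pos (hK i hi), neg_one_smul],
        Finset.sum_neg_distrib, add_neg_eq_zero]
      have hflip : ∀ π ∈ P, (S.σ i * π ∈ P) ∧
          (S.pos ((S.σ i * π * π₀)⁻¹ (S.a i)) ↔ ¬ S.pos ((π * π₀)⁻¹ (S.a i))) := by
        intro π hπ
        refine ⟨Finset.mem_filter.2 ⟨Finset.mem_univ _, i :: wd π, by simpa [hi] using (hwd π hπ).1,
          by rw [pL_cons, (hwd π hπ).2]⟩, ?_⟩
        rw [mul_assoc, mul_inv_rev (S.σ i), sigma_inv hS, Equiv.Perm.mul_apply, hS.sigma_a,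
          W_neg hS (inv_mem (hacts π hπ).1), hS.pos_neg]
      have hss : ∀ π : Equiv.Perm R, S.σ i * (S.σ i * π) = π := fun π => by
        rw [← mul_assoc]; ext r; simp [hS.sigma_sigma]
      refine Finset.sum_nbij (fun π => S.σ i * π) (fun π hπ => ?_) (fun a _ b _ h => mul_left_cancel h)
        (fun π hπ => ?_) fun π _ => rfl
      · obtain ⟨h1, h2⟩ := Finset.mem_filter.1 hπ
        exact Finset.mem_filter.2 ⟨(hflip π h1).1, fun h => (hflip π h1).2.1 h h2⟩
      · obtain ⟨h1, h2⟩ := Finset.mem_filter.1 hπ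
        exact ⟨S.σ i * π, Finset.mem_filter.2 ⟨(hflip π h1).1, (hflip π h1).2.2 h2⟩, hss π⟩
    · refine Finset.sum_congr rfl fun π hπ => ?_
      rw [hdown π hπ i (hKneg π hπ i hi)]
      congr 1
      by_cases hiJ : i ∈ J
      · rw [if_pos (hJ i hiJ), if_pos hiJ]
      · rw [if_neg hiJ, if_neg fun h => hi (Finset.mem_filter.2 ⟨Finset.mem_univ _, h, hiJ⟩)]

end H21.Wt
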