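import Cfsg.Agent.H21.TorusWords
import Cfsg.Agent.H21.BrauerCount
import Mathlib.RepresentationTheory.Basic

/-!
Curtis-Richen: the simple modules of a finite group with a root group system and a parametrised torus, in the
characteristic of the root groups, correspond to the weights; hence the count of `p`-regular classes.
-/

set_option autoImplicit false
set_option linter.unusedSectionVars false
set_option linter.style.haveILetI false
set_option maxHeartbeats 200000

namespace H21.Wt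

open H53 (RootGroupSys)
open H53.RootGroupSys
open H56 (toW)
open H21.TW
open scoped Classical

section Rep

variable {k : Type*} [Field k] {G : Type*} [Group G] {V : Type*} [AddCommGroup V] [Module k V]
  [FiniteDimensional k V]

theorem dual_isIrreducible (ρ : Representation k G V) [ρ.IsIrreducible] : ρ.dual.IsIrreducible := by
  obtain ⟨v, hv⟩ := H85.Cyc.exists_ne_zero ρ
  refine H85.Cyc.isIrreducible_of _ ?_ fun S hS => ?_
  · by_contra h
    push Not at h
    exact hv ((Module.forall_dual_apply_eq_zero_iff k v).1 fun φ => by rw [h φ]; rfl)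
  · rcases H85.Cyc.eq_bot_or_top ρ S.dualCoannihilator fun g w hw => by
      rw [Submodule.mem_dualCoannihilator] at hw ⊢
      intro φ hφ
      have h1 := hw _ (hS g⁻¹ φ hφ)
      rwa [Representation.dual_apply, inv_inv, Module.Dual.transpose_apply, LinearMap.comp_apply] at h1
      with h | h
    · right
      rw [← Subspace.dualCoannihilator_dualAnnihilator_eq (W := S), h, Submodule.dualAnnihilator_bot]
    · left
      rw [← Subspace.dualCoannihilator_dualAnnihilator_eq (W := S), h, Submodule.dualAnnihilator_top]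

/-- a simple quotient of the module generated by a vector, with the image of the vector non-zero -/
theorem exists_simple_quot (ρ : Representation k G V) {v : V} (hv : v ≠ 0) :
    ∃ (M : Submodule k V) (hvM : v ∈ M) (hM : ∀ g, ∀ w ∈ M, ρ g w ∈ M) (Z : Submodule k M)
      (hZ : ∀ g, ∀ w ∈ Z, H85.Cyc.subR ρ M hM g w ∈ Z),
      (H85.Cyc.quotR (H85.Cyc.subR ρ M hM) Z hZ).IsIrreducible ∧ Z.mkQ ⟨v, hvM⟩ ≠ 0 := by
  set M : Submodule k V := Submodule.span k (Set.range fun g => ρ g v) with hMd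
  have hvM : v ∈ M := Submodule.subset_span ⟨1, by simp⟩
  have hM : ∀ g, ∀ w ∈ M, ρ g w ∈ M := fun g w hw => by
    have hle : M.map (ρ g) ≤ M := by
      rw [hMd, Submodule.map_span_le]
      rintro _ ⟨g', rfl⟩
      exact Submodule.subset_span ⟨g * g', by simp⟩
    exact hle ⟨w, hw, rfl⟩
  let P : Set (Submodule k M) := {Z | (∀ g, ∀ w ∈ Z, H85.Cyc.subR ρ M hM g w ∈ Z) ∧ (⟨v, hvM⟩ : M) ∉ Z}
  obtain ⟨Z, ⟨hZ, hvZ⟩, hmax⟩ := (wellFounded_gt (α := Submodule k M)).has_min P
    ⟨⊥, fun g w hw => by rw [(Submodule.mem_bot k).1 hw, map_zero]; exact zero_mem _,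
      fun h => hv (congrArg Subtype.val ((Submodule.mem_bot k).1 h))⟩
  have hv0 : Z.mkQ ⟨v, hvM⟩ ≠ 0 := by
    rw [Ne, Submodule.mkQ_apply, Submodule.Quotient.mk_eq_zero]; exact hvZ
  refine ⟨M, hvM, hM, Z, hZ, H85.Cyc.isIrreducible_of _ ⟨_, hv0⟩ fun Y hY => ?_, hv0⟩
  by_cases hY' : (⟨v, hvM⟩ : M) ∈ Y.comap Z.mkQ
  · right
    rw [eq_top_iff]
    intro y _
    obtain ⟨⟨w, hw⟩, rfl⟩ := Z.mkQ_surjective y
    suffices h : M ≤ (Y.comap Z.mkQ).map M.subtype by
      obtain ⟨w', hw', e⟩ := h hw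
      obtain rfl : w' = ⟨w, hw⟩ := Subtype.ext e
      exact hw'
    refine Submodule.span_le.2 ?_
    rintro _ ⟨g, rfl⟩
    exact ⟨_, (by exact hY g _ hY' : H85.Cyc.subR ρ M hM g ⟨v, hvM⟩ ∈ Y.comap Z.mkQ), rfl⟩
  · left
    have hmem : Y.comap Z.mkQ ∈ P := ⟨fun g w hw => hY g _ hw, hY'⟩
    have hle : Z ≤ Y.comap Z.mkQ := fun z hz => by
      simp [Submodule.mkQ_apply, (Submodule.Quotient.mk_eq_zero Z).2 hz]
    have heq : Y.comap Z.mkQ = Z := (hle.eq_of_not_lt fun hlt => hmax _ hmem hlt).symm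
    rw [eq_bot_iff]
    intro y hy
    obtain ⟨w, rfl⟩ := Z.mkQ_surjective y
    rw [Submodule.mem_bot, Submodule.mkQ_apply, Submodule.Quotient.mk_eq_zero, ← heq]
    exact hy

end Rep

variable {G : Type*} [Group G] [Fintype G] {ι R : Type*} [Fintype ι] [DecidableEq ι] [Finite R]
  {S : RootGroupSys G ι R} {F : Type*} [Field F] [Fintype F]
  {k : Type*} [Field k] {V : Type*} [AddCommGroup V] [Module k V]

theorem all_of_single {M : Type*} [CommMonoid M] {P : (ι → M) → Prop} (h1 : P 1)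
    (hm : ∀ x y, P x → P y → P (x * y)) (hs : ∀ i t, P (Pi.mulSingle i t)) (x : ι → M) : P x := by
  rw [← Finset.univ_prod_mulSingle x]
  exact Finset.prod_induction _ P hm h1 fun i _ => hs i _

/-- the character of the torus with the given coordinates -/
noncomputable def Lam (χ : ι → Fˣ →* kˣ) : (ι → Fˣ) →* kˣ where
  toFun x := ∏ i, χ i (x i)
  map_one' := by simp
  map_mul' x y := by simp [Finset.prod_mul_distrib]

theorem Lam_single (χ : ι → Fˣ →* kˣ) (i : ι) (t : Fˣ) : Lam χ (Pi.mulSingle i t) = χ i t := by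
  show ∏ j, χ j ((Pi.mulSingle i t : ι → Fˣ) j) = _
  rw [Finset.prod_eq_single i (fun j _ hj => by rw [Pi.mulSingle_eq_of_ne hj, map_one])
    (fun h => absurd (Finset.mem_univ i) h), Pi.mulSingle_eq_same]

variable (D : TorusData S F)

variable (S) in
/-- a weight vector with given coordinates -/
def IsW (χ : ι → Fˣ →* kˣ) (J : Finset ι) (ρ : Representation k G V) (v : V) : Prop :=
  UW.UFix S ρ v ∧ (∀ i t, ρ (D.h i t) v = (χ i t : k) • v) ∧
    ∀ i, UW.uT S ρ i v = (if i ∈ J then (-1 : k) else 0) • v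

variable {D} {χ : ι → Fˣ →* kˣ} {J : Finset ι} {ρ : Representation k G V} {v : V}

theorem rho_φ (hw : ∀ i t, ρ (D.h i t) v = (χ i t : k) • v) (x : ι → Fˣ) :
    ρ (D.φ x) v = (Lam χ x : k) • v := by
  refine all_of_single (P := fun x => ρ (D.φ x) v = (Lam χ x : k) • v) (by simp) (fun x y hx hy => ?_)
    (fun i t => by rw [Lam_single]; exact hw i t) x
  rw [map_mul, UW.rho_mul, hy, map_smul, hx, smul_smul, map_mul, Units.val_mul, mul_comm]

theorem IsW.hEig (hw : IsW S D χ J ρ v) : UW.HEig S ρ v := fun h hh => by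
  rw [← D.range_eq] at hh
  obtain ⟨x, rfl⟩ := hh
  exact ⟨_, rho_φ hw.2.1 x⟩

theorem IsW.tEig (hw : IsW S D χ J ρ v) : UW.TEig S ρ v := fun i => ⟨_, hw.2.2 i⟩

theorem IsW.smul (hw : IsW S D χ J ρ v) (c : k) : IsW S D χ J ρ (c • v) :=
  ⟨fun u hu => by rw [map_smul, hw.1 u hu], fun i t => by rw [map_smul, hw.2.1 i t, smul_comm],
    fun i => by rw [map_smul, hw.2.2 i, smul_comm]⟩

theorem IsW.unique (hw : IsW S D χ J ρ v) (hv : v ≠ 0) {χ' : ι → Fˣ →* kˣ} {J' : Finset ι}
    (hw' : IsW S D χ' J' ρ v) : χ = χ' ∧ J = J' := by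
  refine ⟨funext fun i => MonoidHom.ext fun t => Units.ext
    (smul_left_injective k hv ((hw.2.1 i t).symm.trans (hw'.2.1 i t))), Finset.ext fun i => ?_⟩
  have h := smul_left_injective k hv ((hw.2.2 i).symm.trans (hw'.2.2 i))
  by_cases h1 : i ∈ J <;> by_cases h2 : i ∈ J' <;> simp_all

theorem IsW.map (hw : IsW S D χ J ρ v) {W : Type*} [AddCommGroup W] [Module k W]
    (σ : Representation k G W) (T : V →ₗ[k] W) (hT : ∀ g w, T (ρ g w) = σ g (T w)) :
    IsW S D χ J σ (T v) := by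
  refine ⟨fun u hu => by rw [← hT, hw.1 u hu], fun i t => by rw [← hT, hw.2.1 i t, map_smul], fun i => ?_⟩
  haveI := Fintype.ofFinite (S.U (S.a i))
  rw [← map_smul, ← hw.2.2 i, UW.uT_apply, UW.uT_apply, map_sum]
  exact Finset.sum_congr rfl fun x _ => (hT _ _).symm

variable (D) in
/-- the root group as the units and one -/
noncomputable def optU (i : ι) : Option Fˣ ≃ S.U (S.a i) :=
  Equiv.ofBijective (fun o => o.elim 1 fun u => ⟨D.X i u, (D.X_mem i u).1⟩) (by
    constructor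
    · rintro (- | u) (- | u') e
      · rfl
      · exact absurd (congrArg Subtype.val e).symm (D.X_mem i u').2
      · exact absurd (congrArg Subtype.val e) (D.X_mem i u).2
      · exact congrArg some (D.X_inj i (congrArg Subtype.val e))
    · rintro ⟨x, hx⟩
      by_cases h1 : x = 1
      · exact ⟨none, Subtype.ext h1.symm⟩
      · obtain ⟨u, hu⟩ := D.X_surj i x hx h1
        exact ⟨some u, Subtype.ext hu⟩)

theorem card_U (D : TorusData S F) (i : ι) : Nat.card (S.U (S.a i)) = Fintype.card F := by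
  rw [← Nat.card_congr (optU D i), Nat.card_eq_fintype_card, Fintype.card_option, Fintype.card_units,
    Nat.sub_add_cancel Fintype.card_pos]

/-- the scalar in `T_i² = c T_i` -/
noncomputable def csum (χ : Fˣ →* kˣ) : k := ∑ u : Fˣ, (χ (-1) : k) * (χ u⁻¹ : k)

theorem csum_eq (hq : (Fintype.card F : k) = 0) (χ : Fˣ →* kˣ) :
    csum χ = if χ = 1 then -1 else 0 := by
  split_ifs with h
  · subst h
    simp only [csum, MonoidHom.one_apply, Units.val_one, mul_one, Finset.sum_const, Finset.card_univ,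
      nsmul_one, Fintype.card_units, Nat.cast_sub Fintype.card_pos, hq, Nat.cast_one, zero_sub]
  · rw [csum, ← Finset.mul_sum]
    have h0 : ∑ u : Fˣ, ((Units.coeHom k).comp χ) u = 0 := sum_hom_units_eq_zero _ fun e => h
      (MonoidHom.ext fun t => Units.ext (by simpa using DFunLike.congr_fun e t))
    rw [Fintype.sum_equiv (Equiv.inv Fˣ) (fun u => (χ u⁻¹ : k)) (fun u => ((Units.coeHom k).comp χ) u)
      (fun u => rfl), h0, mul_zero]

variable (hS : S.Axioms) (hsep : Sep S)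

include hS in
theorem uT_uT_eq (i : ι) {χi : Fˣ →* kˣ} (hq : (Fintype.card F : k) = 0) (hU : UW.UFix S ρ v)
    (hh : ∀ t, ρ (D.h i t) v = (χi t : k) • v) :
    UW.uT S ρ i (UW.uT S ρ i v) = csum χi • UW.uT S ρ i v := by
  haveI := Fintype.ofFinite (S.U (S.a i))
  have hnn : ρ (S.n i * S.n i) v = (χi (-1) : k) • v := by rw [D.n_sq]; exact hh (-1)
  conv_lhs => rw [UW.uT_apply ρ i v, map_sum, ← Fintype.sum_equiv (optU D i) _ _ (fun o => rfl),
    Fintype.sum_option]
  have h1 : UW.uT S ρ i (ρ (((optU D i none : S.U (S.a i)) : G) * S.n i) v) = 0 := by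
    show UW.uT S ρ i (ρ ((1 : G) * S.n i) v) = 0
    rw [one_mul, UW.uT_apply,
      Finset.sum_congr rfl fun (x : S.U (S.a i)) _ => show ρ ((x : G) * S.n i) (ρ (S.n i) v) = (χi (-1) : k) • v by
        rw [← UW.rho_mul, mul_assoc, UW.rho_mul, hnn, map_smul, hU _ (U_le_Uplus (hS.pos_a i) x.2)],
      Finset.sum_const, Finset.card_univ, ← Nat.card_eq_fintype_card, card_U D, ← Nat.cast_smul_eq_nsmul k,
      hq, zero_smul]
  rw [h1, zero_add, csum, Finset.sum_smul]
  refine Finset.sum_congr rfl fun u _ => ?_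
  obtain ⟨x₁, hx₁, x₂, hx₂, e⟩ := D.rankone i u
  have e2 : ρ (S.n i) (ρ (D.X i u * S.n i) v) = ((χi (-1) : k) * (χi u⁻¹ : k)) • ρ (x₁ * S.n i) v := by
    have hn : (S.n i)⁻¹ * D.h i u * S.n i = D.h i u⁻¹ := by
      have h := D.n_conj_self i u⁻¹
      rw [inv_inv] at h
      rw [TorusData.h, ← h]
      show _ = D.φ _
      group
    rw [← UW.rho_mul, show S.n i * (D.X i u * S.n i) = (S.n i * D.X i u * (S.n i)⁻¹) * (S.n i * S.n i) by group,
      e, UW.rho_mul, hnn, map_smul, UW.rho_mul _ _ x₂, hU _ (U_le_Uplus (hS.pos_a i) hx₂),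
      show x₁ * D.φ (Pi.mulSingle i u) * S.n i = x₁ * S.n i * ((S.n i)⁻¹ * D.h i u * S.n i) by
        rw [TorusData.h]; group, hn, UW.rho_mul, hh, map_smul, smul_smul]
  rw [UW.uT_apply, UW.uT_apply, Finset.smul_sum]
  refine Fintype.sum_equiv (Equiv.mulRight (⟨x₁, hx₁⟩ : S.U (S.a i))) _ _ fun x => ?_
  show ρ ((x : G) * S.n i) (ρ (D.X i u * S.n i) v) = _
  rw [UW.rho_mul _ (x : G), e2, map_smul, ← UW.rho_mul, Equiv.coe_mulRight, Subgroup.coe_mul, mul_assoc]

include hS in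
/-- a common eigenvector has a weight -/
theorem exists_isW (hq : (Fintype.card F : k) = 0) (hv : v ≠ 0) (hU : UW.UFix S ρ v)
    (hH : UW.HEig S ρ v) (hT : UW.TEig S ρ v) :
    ∃ (χ : ι → Fˣ →* kˣ) (J : Finset ι), (∀ i ∈ J, χ i = 1) ∧ IsW S D χ J ρ v := by
  choose c hc using fun i t => hH _ (D.h_mem i t)
  choose μ hμ using hT
  have hm : ∀ i t t', c i (t * t') = c i t * c i t' := fun i t t' => smul_left_injective k hv (by
    show c i (t * t') • v = (c i t * c i t') • v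
    rw [← hc, TorusData.h, Pi.mulSingle_mul, map_mul, UW.rho_mul]
    show ρ (D.h i t) (ρ (D.h i t') v) = _
    rw [hc, map_smul, hc, smul_smul, mul_comm])
  have h1 : ∀ i, c i 1 = 1 := fun i => smul_left_injective k hv (by
    show c i 1 • v = (1 : k) • v
    rw [← hc, TorusData.h, Pi.mulSingle_one, map_one, map_one, one_smul]; rfl)
  let χ : ι → Fˣ →* kˣ := fun i =>
    MonoidHom.toHomUnits { toFun := c i, map_one' := h1 i, map_mul' := hm i }
  have hχ : ∀ i t, ρ (D.h i t) v = (χ i t : k) • v := fun i t => hc i t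
  have key : ∀ i, μ i = 0 ∨ (χ i = 1 ∧ μ i = -1) := fun i => by
    have h := uT_uT_eq hS i hq hU (hχ i)
    rw [hμ, map_smul, hμ, smul_smul, smul_smul, csum_eq hq] at h
    have h2 := smul_left_injective k hv h
    by_cases h0 : μ i = 0
    · exact Or.inl h0
    · have h3 := mul_right_cancel₀ h0 h2
      by_cases h4 : χ i = 1
      · rw [if_pos h4] at h3; exact Or.inr ⟨h4, h3⟩
      · rw [if_neg h4] at h3; exact absurd h3 h0
  refine ⟨χ, Finset.univ.filter fun i => μ i ≠ 0, fun i hi => ?_, hU, hχ, fun i => ?_⟩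
  · exact ((key i).resolve_left (Finset.mem_filter.1 hi).2).1
  · rw [hμ]
    by_cases h0 : μ i = 0
    · simp [h0]
    · rw [if_pos (Finset.mem_filter.2 ⟨Finset.mem_univ i, h0⟩ : i ∈ Finset.univ.filter fun j => μ j ≠ 0),
        ((key i).resolve_left h0).2]

/-! ### uniqueness -/

variable [IsAlgClosed k] {p : ℕ} [hp : Fact p.Prime] [CharP F p] [CharP k p] (hUp : IsPGroup p S.Uplus)
  (huniq : ∀ w w' : H56.Weyl (pair hS hsep), IsTop _ w → IsTop _ w' → w = w')
  {n₀ : (pair hS hsep).N} (htop : IsTop (pair hS hsep) (toW _ n₀))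

omit [IsAlgClosed k] in
theorem card_cast (p : ℕ) [Fact p.Prime] [CharP F p] [CharP k p] : (Fintype.card F : k) = 0 := by
  obtain ⟨f, -, hf⟩ := FiniteField.card F p
  rw [hf, Nat.cast_pow, CharP.cast_eq_zero k p, zero_pow f.ne_zero]

include hS hsep hUp D in
theorem exists_weight' [FiniteDimensional k V] (hV : ∃ w : V, w ≠ 0) :
    ∃ v, v ≠ 0 ∧ UW.UFix S ρ v ∧ UW.HEig S ρ v ∧ UW.TEig S ρ v := by
  obtain ⟨w, hw⟩ := hV
  obtain ⟨v, -, h⟩ := UW.exists_weight hS hsep hUp (ρ := ρ) (p := p)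
    (fun i => by rw [card_U D, card_cast p])
    (fun a ha b hb => by
      rw [← D.range_eq] at ha hb
      obtain ⟨x, rfl⟩ := ha; obtain ⟨y, rfl⟩ := hb
      rw [← map_mul, ← map_mul, mul_comm])
    ⊤ (fun e => hw ((Submodule.mem_bot k).1 (e ▸ Submodule.mem_top))) fun _ _ _ => Submodule.mem_top
  exact ⟨v, h⟩

include hS hsep huniq htop in
/-- the module generated by a weight vector in an irreducible -/
theorem span_top [ρ.IsIrreducible] (hv : v ≠ 0) (hU : UW.UFix S ρ v) (hH : UW.HEig S ρ v)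
    (hT : UW.TEig S ρ v) : UW.spanU S ρ (n₀ : G) v = ⊤ := by
  set M : Submodule k V := Submodule.span k (Set.range fun g => ρ g v) with hMd
  have hM : ∀ g, ∀ w ∈ M, ρ g w ∈ M := fun g w hw => by
    have hle : M.map (ρ g) ≤ M := by
      rw [hMd, Submodule.map_span_le]
      rintro _ ⟨g', rfl⟩
      exact Submodule.subset_span ⟨g * g', UW.rho_mul ρ g g' v⟩
    exact hle ⟨w, hw, rfl⟩
  rcases H85.Cyc.eq_bot_or_top ρ M hM with h | h
  · exact absurd ((Submodule.mem_bot k).1 (h ▸ Submodule.subset_span ⟨1, by simp⟩ : v ∈ (⊥ : Submodule k V))) hv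
  · rw [eq_top_iff, ← h, hMd, Submodule.span_le]
    rintro _ ⟨g, rfl⟩
    exact UW.rho_mem_span hS hsep hU hH huniq hT htop g

include hS hsep huniq htop in
theorem functional_eq [ρ.IsIrreducible] (hv : v ≠ 0) (hU : UW.UFix S ρ v) (hH : UW.HEig S ρ v)
    (hT : UW.TEig S ρ v) (φ : Module.Dual k V) (hφ : ∀ u ∈ S.Uplus, ∀ w, φ (ρ u w) = φ w)
    (h0 : φ (ρ (n₀ : G) v) = 0) : φ = 0 := by
  refine LinearMap.ext fun w => ?_
  have hw : w ∈ UW.spanU S ρ (n₀ : G) v := (span_top hS hsep huniq htop hv hU hH hT).symm ▸ Submodule.mem_top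
  have hle : UW.spanU S ρ (n₀ : G) v ≤ LinearMap.ker φ := by
    rw [UW.spanU, Submodule.span_le]
    rintro _ ⟨u, hu, rfl⟩
    rw [SetLike.mem_coe, LinearMap.mem_ker, UW.rho_mul, hφ u hu, h0]
  exact hle hw

include hS hsep huniq htop hUp D in
/-- the fixed space of `U` in an irreducible module is a line -/
theorem fixed_line [FiniteDimensional k V] [ρ.IsIrreducible] (hv : v ≠ 0) (hU : UW.UFix S ρ v)
    {w : V} (hw : UW.UFix S ρ w) : ∃ c : k, w = c • v := by
  haveI := dual_isIrreducible ρ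
  obtain ⟨φ₀, hφ0, hUφ, hHφ, hTφ⟩ := exists_weight' (D := D) hS hsep hUp (ρ := ρ.dual)
    (H85.Cyc.exists_ne_zero ρ.dual)
  set f₀ : Module.Dual k V := ρ.dual (n₀ : G) φ₀
  have key : ∀ z, UW.UFix S ρ z → f₀ z = 0 → z = 0 := fun z hz h0 => by
    have h := functional_eq hS hsep huniq htop hφ0 hUφ hHφ hTφ (Module.Dual.eval k V z)
      (fun u hu ψ => by
        simp only [Module.Dual.eval_apply, Representation.dual_apply, Module.Dual.transpose_apply,
          LinearMap.comp_apply, hz u⁻¹ (inv_mem hu)]) h0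
    exact (Module.forall_dual_apply_eq_zero_iff k z).1 fun ψ => LinearMap.congr_fun h ψ
  have hfv : f₀ v ≠ 0 := fun h => hv (key v hU h)
  refine ⟨f₀ w / f₀ v, sub_eq_zero.1 (key _ (fun u hu => ?_) ?_)⟩
  · rw [map_sub, map_smul, hU u hu, hw u hu]
  · rw [map_sub, map_smul, smul_eq_mul, div_mul_cancel₀ _ hfv, sub_self]

include hS hsep huniq htop hUp D in
/-- a `U`-invariant functional normalised at `n₀ v` -/
theorem exists_functional [FiniteDimensional k V] [ρ.IsIrreducible] (hv : v ≠ 0) (hw : IsW S D χ J ρ v) :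
    ∃ φ : Module.Dual k V, (∀ u ∈ S.Uplus, ∀ y, φ (ρ u y) = φ y) ∧ φ (ρ (n₀ : G) v) = 1 := by
  haveI := dual_isIrreducible ρ
  obtain ⟨φ₀, hφ0, hUφ, -, -⟩ := exists_weight' (D := D) hS hsep hUp (ρ := ρ.dual)
    (H85.Cyc.exists_ne_zero ρ.dual)
  have hfix : ∀ u ∈ S.Uplus, ∀ y, φ₀ (ρ u y) = φ₀ y := fun u hu y => by
    have := LinearMap.congr_fun (hUφ u⁻¹ (inv_mem hu)) y
    rwa [Representation.dual_apply, inv_inv, Module.Dual.transpose_apply, LinearMap.comp_apply] at this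
  have h0 : φ₀ (ρ (n₀ : G) v) ≠ 0 := fun h =>
    hφ0 (functional_eq hS hsep huniq htop hv hw.1 hw.hEig hw.tEig φ₀ hfix h)
  refine ⟨(φ₀ (ρ (n₀ : G) v))⁻¹ • φ₀, fun u hu y => by simp [hfix u hu y], ?_⟩
  simp [inv_mul_cancel₀ h0]

include hS hsep huniq htop hUp D in
/-- same weight: isomorphic -/
theorem hom_of_weight [FiniteDimensional k V] {W : Type*} [AddCommGroup W] [Module k W]
    [FiniteDimensional k W] (σ : Representation k G W) [ρ.IsIrreducible] [σ.IsIrreducible]
    (hv : v ≠ 0) (hw : IsW S D χ J ρ v) {w : W} (hw0 : w ≠ 0) (hw' : IsW S D χ J σ w) :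
    ∃ T : W →ₗ[k] V, (∀ g x, T (σ g x) = ρ g (T x)) ∧ T ≠ 0 := by
  let π := ρ.prod σ
  have hπ : IsW S D χ J π (v, w) := by
    refine ⟨fun u hu => Prod.ext (hw.1 u hu) (hw'.1 u hu), fun i t => Prod.ext (hw.2.1 i t) (hw'.2.1 i t),
      fun i => ?_⟩
    haveI := Fintype.ofFinite (S.U (S.a i))
    refine Prod.ext ?_ ?_
    · rw [UW.uT_apply, Prod.smul_fst, Prod.fst_sum, ← hw.2.2 i, UW.uT_apply]; rfl
    · rw [UW.uT_apply, Prod.smul_snd, Prod.snd_sum, ← hw'.2.2 i, UW.uT_apply]; rfl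
  set Z : Submodule k (V × W) := Submodule.span k (Set.range fun g => π g (v, w)) with hZd
  have hZle : Z ≤ UW.spanU S π (n₀ : G) (v, w) := by
    rw [hZd, Submodule.span_le]
    rintro _ ⟨g, rfl⟩
    exact UW.rho_mem_span hS hsep hπ.1 hπ.hEig huniq hπ.tEig htop g
  have hvw : (v, w) ∈ Z := Submodule.subset_span ⟨1, by simp⟩
  have hZst : ∀ g, ∀ x ∈ Z, π g x ∈ Z := fun g x hx => by
    have hle : Z.map (π g) ≤ Z := by
      rw [hZd, Submodule.map_span_le]
      rintro _ ⟨g', rfl⟩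
      exact Submodule.subset_span ⟨g * g', UW.rho_mul π g g' _⟩
    exact hle ⟨x, hx, rfl⟩
  obtain ⟨φ, hφ, hφ1⟩ := exists_functional hS hsep hUp huniq htop hv hw
  obtain ⟨ψ, hψ, hψ1⟩ := exists_functional hS hsep hUp huniq htop hw0 hw'
  let L : V × W →ₗ[k] k := φ ∘ₗ LinearMap.fst k V W - ψ ∘ₗ LinearMap.snd k V W
  have hL : ∀ x ∈ Z, L x = 0 := fun x hx => by
    have hle : UW.spanU S π (n₀ : G) (v, w) ≤ LinearMap.ker L := by
      rw [UW.spanU, Submodule.span_le]
      rintro _ ⟨u, hu, rfl⟩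
      show φ (ρ (u * (n₀ : G)) v) - ψ (σ (u * (n₀ : G)) w) = 0
      rw [UW.rho_mul, UW.rho_mul, hφ u hu, hψ u hu, hφ1, hψ1, sub_self]
    exact hle (hZle hx)
  have hinl : ∀ x : V, (x, (0 : W)) ∈ Z → x = 0 := by
    rcases H85.Cyc.eq_bot_or_top ρ (Z.comap (LinearMap.inl k V W)) fun g x hx => by
      rw [Submodule.mem_comap] at hx ⊢
      have := hZst g _ hx
      simpa [π] using this with h | h
    · intro x hx
      have : x ∈ Z.comap (LinearMap.inl k V W) := hx
      rw [h] at this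
      exact (Submodule.mem_bot k).1 this
    · have h1 : ((ρ (n₀ : G) v, 0) : V × W) ∈ Z := (h.symm ▸ Submodule.mem_top :
        ρ (n₀ : G) v ∈ Z.comap (LinearMap.inl k V W))
      have h2 := hL _ h1
      simp [L, hφ1] at h2
  let q : Z →ₗ[k] W := LinearMap.snd k V W ∘ₗ Z.subtype
  have hqinj : Function.Injective q := by
    rw [← LinearMap.ker_eq_bot, LinearMap.ker_eq_bot']
    rintro ⟨⟨a, b⟩, hab⟩ (h : b = 0)
    subst h
    exact Subtype.ext (Prod.ext (hinl a hab) rfl)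
  have hqsurj : Function.Surjective q := by
    rw [← LinearMap.range_eq_top]
    refine (H85.Cyc.eq_bot_or_top σ (LinearMap.range q) fun g x hx => ?_).resolve_left fun h => ?_
    · obtain ⟨y, rfl⟩ := hx
      exact ⟨⟨π g y, hZst g _ y.2⟩, rfl⟩
    · have : w ∈ LinearMap.range q := ⟨⟨(v, w), hvw⟩, rfl⟩
      rw [h] at this
      exact hw0 ((Submodule.mem_bot k).1 this)
  let e := LinearEquiv.ofBijective q ⟨hqinj, hqsurj⟩
  refine ⟨LinearMap.fst k V W ∘ₗ Z.subtype ∘ₗ e.symm.toLinearMap, fun g x => ?_, fun h => hv ?_⟩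
  · have : e.symm (σ g x) = ⟨π g (e.symm x), hZst g _ (e.symm x).2⟩ := by
      rw [LinearEquiv.symm_apply_eq]
      show σ g x = σ g (q (e.symm x))
      exact congrArg _ (e.apply_symm_apply x).symm
    show ((e.symm (σ g x) : V × W)).1 = ρ g ((e.symm x : V × W)).1
    rw [this]; rfl
  · have h1 : e.symm w = ⟨(v, w), hvw⟩ := by rw [LinearEquiv.symm_apply_eq]; rfl
    have h2 := LinearMap.congr_fun h w
    simp only [LinearMap.comp_apply, LinearEquiv.coe_coe, h1] at h2
    exact h2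

end H21.Wt
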